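import Cfsg.Agent.H812.SuzLoc
import Cfsg.Agent.H812.Prod
import Cfsg.Agent.H812.Transport
import Cfsg.Agent.Lib.VonDyck

/-!
# The Sylow 7-subgroups of the Suzuki group (helper812)

`C(x) = ⟨x⟩ × A₄` and `|N(⟨x⟩)| = 504` for `x` of order 7.
-/

set_option autoImplicit false

namespace Cfsg.Agent.H812.SuzSeven

open Subgroup Cfsg Cfsg.Spor
open Cfsg.Agent.KFacts.SuzLFour Cfsg.Agent.KFacts.SuzTwoB Cfsg.Agent.H812.SuzLoc

/-- `A₄` -/
noncomputable def A : Subgroup Suz := closure {e0, x0}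

theorem e0_x0 : (e0 * x0) ^ 3 = 1 := by
  have h1 : e0 * e1 * e2 = 1 := by rw [e01, e2_sq]
  have h3 : x0 * x0 * x0 = 1 := x0_cube
  have h4 : e2 = x0 * x0 * e0 * (x0 * x0)⁻¹ := e2_eq
  have h5 : e1 = x0 * e0 * x0⁻¹ := rfl
  calc (e0 * x0) ^ 3 = e0 * (x0 * e0 * x0⁻¹) * (x0 * x0 * e0 * (x0 * x0)⁻¹) * (x0 * x0 * x0) := by
        simp only [pow_succ, pow_zero, one_mul]; group
    _ = 1 := by rw [← h4, ← h5, h1, h3, one_mul]

theorem equivA : Nonempty (A ≃* alternatingGroup (Fin 4)) :=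
  Lib.VonDyck.closure_equiv_alternatingFour (by rw [pow_two]; exact e0_sq)
    (by rw [pow_succ, pow_two]; exact x0_cube) e0_x0 e0_ne

theorem cardA : Nat.card A = 12 := by
  obtain ⟨e⟩ := equivA
  rw [Nat.card_congr e.toEquiv]
  exact Lib.VonDyck.card_alternating4

theorem A_comm {a : Suz} (ha : a ∈ A) : ∀ l ∈ L, a * l = l * a := by
  intro l hl
  have h : A ≤ centralizer ({l} : Set Suz) := by
    rw [A, closure_le]
    rintro y (rfl | rfl)
    · exact mem_centralizer_singleton_iff.2 (e0_comm l hl)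
    · exact mem_centralizer_singleton_iff.2 (x0_comm l hl)
  exact mem_centralizer_singleton_iff.1 (h ha)

theorem card_Suz : Nat.card Suz = 448345497600 := SporadicRecognition.SuzOrder.card_Suz

theorem sylow_zpowers {x : Suz} (hx : orderOf x = 7) : ∃ S : Sylow 7 Suz, (S : Subgroup Suz) = zpowers x := by
  have := CTwoTab.Suz.finSuz
  have h7 : Fact (Nat.Prime 7) := ⟨by norm_num⟩
  have h1 : IsPGroup 7 (zpowers x) := IsPGroup.of_card (n := 1) (by rw [Nat.card_zpowers, hx, pow_one])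
  obtain ⟨S, hS⟩ := h1.exists_le_sylow
  refine ⟨S, (eq_of_le_of_card_ge hS ?_).symm⟩
  have h2 := J2Type.SylowSeven.card_sylow S 1 64049356800 (by rw [card_Suz]; norm_num) (by norm_num)
  rw [Nat.card_zpowers, hx]
  have h3 : Nat.card (S : Subgroup Suz) = 7 := by rw [h2]; norm_num
  exact h3.le

theorem main_card {x : Suz} (hxL : x ∈ L) (hx : orderOf x = 7) :
    Nat.card (centralizer ((zpowers x : Subgroup Suz) : Set Suz)) = 84 ∧
      Nat.card (normalizer ((zpowers x : Subgroup Suz) : Set Suz)) = 504 := by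
  have hfin := CTwoTab.Suz.finSuz
  have h7 : Fact (Nat.Prime 7) := ⟨by norm_num⟩
  obtain ⟨S, hS⟩ := sylow_zpowers hx
  have hD : Nat.card (zpowers x) = 7 := by rw [Nat.card_zpowers, hx]
  have hCN := J2Type.SylowSeven.centralizer_le_normalizer' (zpowers x)
  have hk := J2Type.SylowSeven.relIndex_dvd_of_card_prime (zpowers x) (by norm_num : Nat.Prime 7) hD
  have hn : Nat.card (Sylow 7 Suz) ≡ 1 [MOD 7] := card_sylow_modEq_one 7 Suz
  have hn' : Nat.card (Sylow 7 Suz) = (normalizer ((zpowers x : Subgroup Suz) : Set Suz)).index := by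
    rw [← hS]; exact S.card_eq_index_normalizer
  have hCN' := J2Type.SylowSeven.card_mul_relIndex' hCN
  have hNG := (normalizer ((zpowers x : Subgroup Suz) : Set Suz)).card_mul_index
  have hC := card_cases hxL (Or.inl rfl) hx
  rw [← Transport.centralizer_zpowers] at hC
  have h12 : 12 ∣ Nat.card (centralizer ((zpowers x : Subgroup Suz) : Set Suz)) := by
    rw [← cardA]
    refine card_dvd_of_le ?_
    intro a ha
    rw [Transport.centralizer_zpowers, mem_centralizer_singleton_iff]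
    exact A_comm ha x hxL
  rw [card_Suz, ← hn', ← hCN'] at hNG
  rw [← hCN']
  generalize Nat.card (centralizer ((zpowers x : Subgroup Suz) : Set Suz)) = c at *
  generalize (centralizer ((zpowers x : Subgroup Suz) : Set Suz)).relIndex
      (normalizer ((zpowers x : Subgroup Suz) : Set Suz)) = k at *
  generalize Nat.card (Sylow 7 Suz) = n at *
  have hkcases : k = 1 ∨ k = 2 ∨ k = 3 ∨ k = 6 := by
    have : k ∈ Nat.divisors 6 := Nat.mem_divisors.mpr ⟨hk, by norm_num⟩
    have h25 : Nat.divisors 6 = {1, 2, 3, 6} := by decide +kernel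
    rw [h25] at this
    simpa using this
  have hn7 : n % 7 = 1 := hn
  rcases hC with rfl | rfl | rfl
  · norm_num at h12
  · rcases hkcases with rfl | rfl | rfl | rfl
    · exfalso; omega
    · exfalso; omega
    · exfalso; omega
    · norm_num
  · exfalso
    rcases hkcases with rfl | rfl | rfl | rfl <;> omega

theorem equiv_zmod {G : Type*} [Group G] {B : Subgroup G} {p : ℕ} [hp : Fact p.Prime] (hB : Nat.card B = p) :
    Nonempty (B ≃* Multiplicative (ZMod p)) :=
  ⟨mulEquivOfPrimeCardEq (p := p) hB (by simp)⟩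

/-- `C(x) ≅ 7 × A₄` -/
theorem equiv_cent {x : Suz} (hxL : x ∈ L) (hx : orderOf x = 7) :
    Nonempty (centralizer ((zpowers x : Subgroup Suz) : Set Suz) ≃* Multiplicative (ZMod 7) × alternatingGroup (Fin 4)) := by
  have hfin := CTwoTab.Suz.finSuz
  have h7 : Fact (Nat.Prime 7) := ⟨by norm_num⟩
  have hD : Nat.card (zpowers x) = 7 := by rw [Nat.card_zpowers, hx]
  obtain ⟨e1⟩ := equiv_zmod hD
  obtain ⟨e2⟩ := equivA
  have hcomm : ∀ a ∈ zpowers x, ∀ b ∈ A, a * b = b * a := by
    intro a ha b hb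
    obtain ⟨k, rfl⟩ := mem_zpowers_iff.1 ha
    exact ((show Commute b x from A_comm hb x hxL).zpow_right k).eq.symm
  have hcap : ∀ y ∈ zpowers x, y ∈ A → y = 1 := by
    intro y hy hyA
    have h1 : orderOf y ∣ 7 := by rw [← hx]; exact orderOf_dvd_of_mem_zpowers hy
    have h2 : orderOf y ∣ 12 := by
      have h3 := orderOf_dvd_natCard (⟨y, hyA⟩ : A)
      rwa [cardA, ← Subgroup.orderOf_coe] at h3
    have h3 : orderOf y ∣ Nat.gcd 7 12 := Nat.dvd_gcd h1 h2
    rw [show Nat.gcd 7 12 = 1 by norm_num] at h3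
    exact orderOf_eq_one_iff.1 (Nat.dvd_one.1 h3)
  -- the product subgroup
  let P : Subgroup Suz :=
    { carrier := {y | ∃ a ∈ zpowers x, ∃ b ∈ A, y = a * b}
      one_mem' := ⟨1, one_mem _, 1, one_mem _, (mul_one 1).symm⟩
      mul_mem' := by
        rintro _ _ ⟨a, ha, b, hb, rfl⟩ ⟨a', ha', b', hb', rfl⟩
        refine ⟨a * a', mul_mem ha ha', b * b', mul_mem hb hb', ?_⟩
        calc a * b * (a' * b') = a * (b * a') * b' := by group
          _ = a * a' * (b * b') := by rw [← hcomm a' ha' b hb]; group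
      inv_mem' := by
        rintro _ ⟨a, ha, b, hb, rfl⟩
        refine ⟨a⁻¹, inv_mem ha, b⁻¹, inv_mem hb, ?_⟩
        rw [mul_inv_rev, hcomm a⁻¹ (inv_mem ha) b⁻¹ (inv_mem hb)] }
  have hP : ∀ y, y ∈ P ↔ ∃ a ∈ zpowers x, ∃ b ∈ A, y = a * b := fun y => Iff.rfl
  have hPC : P ≤ centralizer ((zpowers x : Subgroup Suz) : Set Suz) := by
    rintro _ ⟨a, ha, b, hb, rfl⟩
    rw [Transport.centralizer_zpowers, mem_centralizer_singleton_iff]
    obtain ⟨k, rfl⟩ := mem_zpowers_iff.1 ha
    have h1 : Commute (x ^ k) x := (Commute.refl x).zpow_left k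
    have h2 : Commute b x := A_comm hb x hxL
    exact (h1.mul_left h2).eq
  have hcardP : Nat.card P = 84 := by
    rw [Prod.card_prod _ _ P hcomm hcap hP, hD, cardA]
  have hEq : P = centralizer ((zpowers x : Subgroup Suz) : Set Suz) :=
    eq_of_le_of_card_ge hPC (by rw [hcardP, (main_card hxL hx).1])
  obtain ⟨e⟩ := Prod.equiv_prod _ _ P hcomm hcap hP
  rw [← hEq]
  exact ⟨e.trans (MulEquiv.prodCongr e1 e2)⟩

/-- **The Sylow 7-subgroups of a group isomorphic to `Suz`.** -/
theorem main {G : Type*} [Group G] [Finite G] (h : Cfsg.Spor.IsoSuz G) (B : Sylow 7 G) :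
    Nonempty (↥(centralizer ((B : Subgroup G) : Set G)) ≃* Multiplicative (ZMod 7) × alternatingGroup (Fin 4)) ∧
      Nat.card ↥(normalizer ((B : Subgroup G) : Set G)) = 504 := by
  obtain ⟨e⟩ := h
  have h7 : Fact (Nat.Prime 7) := ⟨by norm_num⟩
  have hB : Nat.card (B : Subgroup G) = 7 := by
    have := J2Type.SylowSeven.card_sylow B 1 64049356800
      (by rw [Nat.card_congr e.toEquiv, card_Suz]; norm_num) (by norm_num)
    rw [this]; norm_num
  obtain ⟨e', he'⟩ := Transport.exists_equiv_sylow e B (zpowers x7)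
    (by rw [Nat.card_zpowers, order_x7]; exact hB.symm)
  obtain ⟨f⟩ := Transport.nonempty_centralizer he'
  obtain ⟨g⟩ := equiv_cent x7_mem order_x7
  refine ⟨⟨f.trans g⟩, ?_⟩
  rw [Transport.card_normalizer he']
  exact (main_card x7_mem order_x7).2

end Cfsg.Agent.H812.SuzSeven
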