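import Mathlib
import Cfsg.Agent.J2Type.SylowFive

/-!
# Sylow 5-subgroups of order 25 with an element `w` of order 5 with `C(w) ≅ 5 × A₅` (helper812)

Generalises `J2Type.SylowFive.Good.key`.
-/

set_option autoImplicit false
set_option linter.style.haveILetI false

namespace Cfsg.Agent.H812.FiveKey

open Subgroup Cfsg.Agent.J2Type.FourSelfCent Cfsg.Agent.J2Type.SylowSeven Cfsg.Agent.J2Type.CentQuot
  Cfsg.Agent.J2Type.A5Facts Cfsg.Agent.J2Type.SylowFive

variable {G : Type*} [Group G]

theorem isMulCommutative_sylow [Finite G] {P : Sylow 5 G} (hP25 : Nat.card (P : Subgroup G) = 25) :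
    IsMulCommutative (P : Subgroup G) := by
  haveI : Fact (Nat.Prime 5) := ⟨by norm_num⟩
  exact IsPGroup.isMulCommutative_of_card_eq_prime_sq (p := 5) (by rw [hP25]; norm_num)

theorem comm_of_mem [Finite G] {P : Sylow 5 G} (hP25 : Nat.card (P : Subgroup G) = 25) {x y : G} (hx : x ∈ P)
    (hy : y ∈ P) : x * y = y * x := by
  have := (isMulCommutative_sylow hP25).is_comm.comm (⟨x, hx⟩ : (P : Subgroup G)) ⟨y, hy⟩
  exact congrArg Subtype.val this

theorem sylow_le_centralizer [Finite G] {P : Sylow 5 G} (hP25 : Nat.card (P : Subgroup G) = 25) {w : G}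
    (hw : w ∈ P) : (P : Subgroup G) ≤ centralizer ({w} : Set G) := by
  intro x hx
  rw [mem_centralizer_singleton_iff]
  exact comm_of_mem hP25 hx hw

theorem card_centralizer [Finite G] {P : Sylow 5 G} (hP25 : Nat.card (P : Subgroup G) = 25) {w : G} (h : Good w)
    (hw : w ∈ P) : Nat.card (centralizer ({w} : Set G)) = 300 := by
  have h1 : 25 ∣ Nat.card (centralizer ({w} : Set G)) := by
    rw [← hP25]
    exact card_dvd_of_le (sylow_le_centralizer hP25 hw)
  rcases h.card_centralizer_cases with h2 | h2 | h2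
  · rw [h2] at h1; norm_num at h1
  · rw [h2] at h1; norm_num at h1
  · exact h2

theorem key [Finite G] {P : Sylow 5 G} (hP25 : Nat.card (P : Subgroup G) = 25) {w : G} (h : Good w)
    (hw : w ∈ P) : centralizer ((P : Subgroup G) : Set G) = P ∧
      Nat.card (normalizer ((P : Subgroup G) : Set G) ⊓ centralizer ({w} : Set G) : Subgroup G) = 50 := by
  have h300 := card_centralizer hP25 h hw
  have hle := sylow_le_centralizer hP25 hw
  obtain ⟨h5, hreal, V, hV, hsq, hVw, hc⟩ := h
  have hyp := hyp_im (p := 5) (by decide) h5 hV hsq hVw hc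
  have h60 : Nat.card (CQ w) = 60 := by
    have := card_centralizer_eq w
    rw [h300, h5] at this; omega
  obtain ⟨e⟩ := hyp.equiv_of_card_60 h60
  -- an element of `P` outside `⟨w⟩`
  obtain ⟨g, hgP, hgw⟩ : ∃ g ∈ P, g ∉ zpowers w := by
    by_contra hcon
    push Not at hcon
    have h1 : (P : Subgroup G) ≤ zpowers w := hcon
    have h2 := card_dvd_of_le h1
    rw [hP25, Nat.card_zpowers, h5] at h2
    norm_num at h2
  set g' : centralizer ({w} : Set G) := ⟨g, hle hgP⟩ with hg'
  have hg5 : orderOf (g' : CQ w) = 5 := by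
    have h1 : (g' : CQ w) ≠ 1 := by
      intro h
      exact hgw ((mk_eq_one g').mp h)
    have h2 : orderOf (g' : CQ w) ∣ 25 := by
      apply orderOf_dvd_of_pow_eq_one
      rw [← QuotientGroup.mk_pow]
      have : g' ^ 25 = 1 := by
        apply Subtype.ext
        show g ^ 25 = 1
        have := pow_card_eq_one' (x := (⟨g, hgP⟩ : (P : Subgroup G)))
        rw [hP25] at this
        exact congrArg Subtype.val this
      rw [this]; rfl
    have h3 : orderOf (g' : CQ w) ∣ 60 := by rw [← h60]; exact orderOf_dvd_natCard _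
    have h4 : orderOf (g' : CQ w) ∣ 5 := by
      have := Nat.dvd_gcd h2 h3
      norm_num at this; exact this
    rcases (Nat.dvd_prime (by norm_num)).mp h4 with h5' | h5'
    · exact absurd (orderOf_eq_one_iff.mp h5') h1
    · exact h5'
  -- the preimage of `⟨ḡ⟩` is `P`
  have hcomap : (zpowers (g' : CQ w)).comap (QuotientGroup.mk' (cyc w)) =
      (P : Subgroup G).subgroupOf (centralizer ({w} : Set G)) := by
    refine eq_of_le_of_card_ge ?_ ?_
    · intro x hx
      rw [mem_comap] at hx
      obtain ⟨k, hk⟩ := mem_zpowers_iff.mp hx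
      rw [mem_subgroupOf]
      refine mem_of_mk_eq (y := g' ^ k) hw ?_ ?_
      · rw [coe_zpow]; exact (P : Subgroup G).zpow_mem hgP k
      · rw [QuotientGroup.mk_zpow]; exact hk.symm
    · rw [Nat.card_congr (subgroupOfEquivOfLe hle).toEquiv, hP25]
      rw [card_comap_mk', Nat.card_zpowers, hg5, card_cyc, h5]
  have hsurj : Function.Surjective (QuotientGroup.mk' (cyc w)) := QuotientGroup.mk'_surjective _
  constructor
  · refine le_antisymm ?_ ?_
    · intro x hx
      have hxw : x ∈ centralizer ({w} : Set G) := by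
        rw [mem_centralizer_singleton_iff]
        exact ((mem_centralizer_iff.mp hx) w hw).symm
      have hxg : x * g = g * x := ((mem_centralizer_iff.mp hx) g hgP).symm
      have h1 : ((⟨x, hxw⟩ : centralizer ({w} : Set G)) : CQ w) ∈ zpowers (g' : CQ w) := by
        apply mem_zpowers_of_comm e hg5
        rw [← QuotientGroup.mk_mul, ← QuotientGroup.mk_mul]
        congr 1
        exact Subtype.ext hxg
      have h2 : (⟨x, hxw⟩ : centralizer ({w} : Set G)) ∈
          (zpowers (g' : CQ w)).comap (QuotientGroup.mk' (cyc w)) := mem_comap.mpr h1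
      rw [hcomap, mem_subgroupOf] at h2
      exact h2
    · intro x hx
      rw [mem_centralizer_iff]
      intro y hy
      exact comm_of_mem hP25 hy hx
  · have h1 := card_normalizer_zpowers e hg5
    have h2 := card_comap_mk' (cyc w) (normalizer ((zpowers (g' : CQ w) : Subgroup (CQ w)) : Set (CQ w)))
    rw [h1, card_cyc, h5, comap_normalizer_eq_of_surjective _ hsurj, hcomap,
      ← subgroupOf_normalizer_eq hle] at h2
    rw [show (50 : ℕ) = 10 * 5 by norm_num, ← h2]
    refine Nat.card_congr ?_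
    exact
      { toFun := fun x => ⟨⟨x.1, (mem_inf.mp x.2).2⟩, mem_subgroupOf.mpr (mem_inf.mp x.2).1⟩
        invFun := fun x => ⟨x.1.1, mem_inf.mpr ⟨mem_subgroupOf.mp x.2, x.1.2⟩⟩
        left_inv := fun x => rfl
        right_inv := fun x => rfl }

theorem mem_O_iff [Finite G] {P : Sylow 5 G} (hP25 : Nat.card (P : Subgroup G) = 25) {x : G} (hx : x ∈ P) {y : G} :
    y ∈ O P x ↔ ∃ n ∈ normalizer ((P : Subgroup G) : Set G), n * x * n⁻¹ = y := by
  haveI : Fact (Nat.Prime 5) := ⟨by norm_num⟩
  haveI := isMulCommutative_sylow hP25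
  constructor
  · rintro ⟨hy, hxy⟩
    obtain ⟨c, hc⟩ := isConj_iff.mp hxy
    have h1 : (c⁻¹)⁻¹ * x * c⁻¹ ∈ P := by rw [inv_inv, hc]; exact hy
    obtain ⟨n, hn, h⟩ := P.conj_eq_normalizer_conj_of_mem x c⁻¹ hx h1
    refine ⟨n⁻¹, (normalizer ((P : Subgroup G) : Set G)).inv_mem hn, ?_⟩
    rw [inv_inv, ← h, inv_inv, hc]
  · rintro ⟨n, hn, rfl⟩
    exact ⟨(mem_normalizer_iff.mp hn x).mp hx, isConj_iff.mpr ⟨n, rfl⟩⟩

theorem card_O [Finite G] {P : Sylow 5 G} (hP25 : Nat.card (P : Subgroup G) = 25) {x : G} (hx : x ∈ P) :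
    Nat.card (O P x) * Nat.card (normalizer ((P : Subgroup G) : Set G) ⊓
      centralizer ({x} : Set G) : Subgroup G) = Nat.card (normalizer ((P : Subgroup G) : Set G)) := by
  rw [← card_orbit (normalizer ((P : Subgroup G) : Set G)) x]
  congr 1
  exact Nat.card_congr (Equiv.subtypeEquivRight fun y => mem_O_iff hP25 hx)

/-- In a group of order `200 m` with `m ≡ 3 [MOD 5]`, the order of `N(P)` is 600 if `x` is conjugate to its square. -/
theorem card_main [Finite G] {P : Sylow 5 G} (hP25 : Nat.card (P : Subgroup G) = 25) {m : ℕ}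
    (hG : Nat.card G = 200 * m) (hm : m % 5 = 3) {x : G} (h : Good x) (hxx : IsConj x (x ^ 2)) (hx : x ∈ P) :
    Nat.card (normalizer ((P : Subgroup G) : Set G)) = 600 ∧ Nat.card (O P x) = 12 := by
  haveI : Fact (Nat.Prime 5) := ⟨by norm_num⟩
  obtain ⟨hCP, h50⟩ := key hP25 h hx
  have hO := card_O hP25 hx
  rw [h50] at hO
  have hn : Nat.card (Sylow 5 G) ≡ 1 [MOD 5] := card_sylow_modEq_one 5 G
  have hn' : Nat.card (Sylow 5 G) = (normalizer ((P : Subgroup G) : Set G)).index :=
    P.card_eq_index_normalizer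
  have hNG := (normalizer ((P : Subgroup G) : Set G)).card_mul_index
  rw [hG, ← hn'] at hNG
  have h5O : ∀ y ∈ O P x, orderOf y = 5 := fun y hy => by rw [← orderOf_eq_of_isConj hy.2]; exact h.1
  have h4 : 4 ∣ Nat.card (O P x) := four_dvd_card h5O (fun y hy =>
    ⟨(P : Subgroup G).pow_mem hy.1 2, hxx.trans (hy.2.pow 2)⟩)
  have h24 : Nat.card (O P x) ≤ 24 := by
    have h1 : (O P x) ⊆ ((P : Subgroup G) : Set G) \ {1} := by
      intro y hy
      refine ⟨hy.1, ?_⟩
      rintro rfl
      have := h5O 1 hy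
      rw [orderOf_one] at this
      norm_num at this
    have h2 : (((P : Subgroup G) : Set G) \ {1}).ncard = 24 := by
      rw [Set.ncard_sdiff (by simp)]
      rw [Set.ncard_singleton, ← Nat.card_coe_set_eq]
      have h3 : Nat.card (((P : Subgroup G) : Set G)) = 25 := hP25
      rw [h3]
    rw [← h2, Nat.card_coe_set_eq]
    exact Set.ncard_le_ncard h1
  have hn5 : Nat.card (Sylow 5 G) % 5 = 1 := hn
  generalize Nat.card (normalizer ((P : Subgroup G) : Set G)) = N at *
  generalize Nat.card (Sylow 5 G) = n at *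
  generalize Nat.card (O P x) = o at *
  subst hO
  obtain ⟨b, rfl⟩ := h4
  have hb : b * n = m := by
    have : 200 * (b * n) = 200 * m := by linarith [hNG]
    exact Nat.eq_of_mul_eq_mul_left (by norm_num) this
  have hb5 : b % 5 = 3 := by
    have h1 : (b * n) % 5 = 3 := by rw [hb, hm]
    rw [Nat.mul_mod, hn5, mul_one, Nat.mod_mod] at h1
    exact h1
  have hb3 : b = 3 := by omega
  subst hb3
  exact ⟨by norm_num, by norm_num⟩

end Cfsg.Agent.H812.FiveKey
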