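import Mathlib
import Cfsg.Agent.H812.FiveKey

/-!
# The normaliser of an elementary abelian Sylow 5-subgroup of order 25 (helper812)

`P` has order 25, the elements of `P` conjugate to `x` form three lines (12 elements), `|N(P)| = 600`. Then
`N(P)/P ≅ 4 × S₃` and `G` has exactly two classes of subgroups of order 5.
-/

set_option autoImplicit false

namespace Cfsg.Agent.H812.FiveBasis

open Subgroup Cfsg.Agent.J2Type.SylowFive

variable {G : Type*} [Group G]

/-- 5 is prime -/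
local instance fact_five : Fact (Nat.Prime 5) := ⟨by norm_num⟩

/-- the plane -/
abbrev V2 : Type := ZMod 5 × ZMod 5

/-- three vectors with sum 0 -/
def v : Fin 3 → V2 := ![(1, 0), (0, 1), (4, 4)]

/-- two elements of order 5 generating a group of order 25 -/
structure Bas (b : Fin 3 → G) : Prop where
  pow : ∀ i, b i ^ 5 = 1
  comm : ∀ i j, b i * b j = b j * b i
  prod : b 0 * b 1 * b 2 = 1
  inj : ∀ k l : ℕ, b 0 ^ k * b 1 ^ l = 1 → 5 ∣ k ∧ 5 ∣ l

/-- coordinates -/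
def c (b : Fin 3 → G) (u : V2) : G := b 0 ^ u.1.val * b 1 ^ u.2.val

theorem pow_val_add {x : G} (hx : x ^ 5 = 1) (k l : ZMod 5) : x ^ (k + l).val = x ^ k.val * x ^ l.val := by
  rw [ZMod.val_add, ← pow_add, ← pow_mod_orderOf x ((k.val + l.val) % 5), ← pow_mod_orderOf x (k.val + l.val),
    Nat.mod_mod_of_dvd _ (orderOf_dvd_of_pow_eq_one hx)]

theorem pow_val_mul {x : G} (hx : x ^ 5 = 1) (k l : ZMod 5) : x ^ (k * l).val = (x ^ k.val) ^ l.val := by
  rw [ZMod.val_mul, ← pow_mul, ← pow_mod_orderOf x ((k.val * l.val) % 5), ← pow_mod_orderOf x (k.val * l.val),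
    Nat.mod_mod_of_dvd _ (orderOf_dvd_of_pow_eq_one hx)]

section

variable {b : Fin 3 → G} (h : Bas b)

include h

theorem c_add (u w : V2) : c b (u + w) = c b u * c b w := by
  unfold c
  rw [Prod.fst_add, Prod.snd_add, pow_val_add (h.pow 0), pow_val_add (h.pow 1)]
  have h1 : Commute (b 1 ^ u.2.val) (b 0 ^ w.1.val) :=
    ((show Commute (b 1) (b 0) from h.comm 1 0).pow_left _).pow_right _
  calc b 0 ^ u.1.val * b 0 ^ w.1.val * (b 1 ^ u.2.val * b 1 ^ w.2.val)
      = b 0 ^ u.1.val * (b 0 ^ w.1.val * b 1 ^ u.2.val) * b 1 ^ w.2.val := by simp only [mul_assoc]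
    _ = b 0 ^ u.1.val * b 1 ^ u.2.val * (b 0 ^ w.1.val * b 1 ^ w.2.val) := by
      rw [← h1.eq]; simp only [mul_assoc]

omit h in
theorem c_zero : c b 0 = 1 := by
  unfold c
  simp

theorem c_neg (u : V2) : c b (-u) = (c b u)⁻¹ := by
  rw [eq_inv_iff_mul_eq_one, ← c_add h, neg_add_cancel, c_zero]

theorem c_nsmul (n : ℕ) (u : V2) : c b (n • u) = c b u ^ n := by
  induction n with
  | zero => rw [zero_smul, c_zero, pow_zero]
  | succ n ih => rw [succ_nsmul, c_add h, ih, pow_succ]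

omit h in
theorem smul_eq_val (k : ZMod 5) (u : V2) : k • u = k.val • u := by
  revert k u
  decide +kernel

theorem c_smul (k : ZMod 5) (u : V2) : c b (k • u) = c b u ^ k.val := by
  rw [smul_eq_val, c_nsmul h]

theorem c_eq_one {u : V2} (hu : c b u = 1) : u = 0 := by
  obtain ⟨h1, h2⟩ := h.inj _ _ hu
  have h3 : ∀ k : ZMod 5, 5 ∣ k.val → k = 0 := by decide +kernel
  exact Prod.ext (h3 _ h1) (h3 _ h2)

theorem c_inj {u w : V2} (huw : c b u = c b w) : u = w := by
  have h1 : c b (u - w) = 1 := by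
    rw [sub_eq_add_neg, c_add h, c_neg h, huw, mul_inv_cancel]
  exact sub_eq_zero.1 (c_eq_one h h1)

theorem c_v (i : Fin 3) : c b (v i) = b i := by
  have h0 : c b (v 0) = b 0 := by
    show b 0 ^ (1 : ZMod 5).val * b 1 ^ (0 : ZMod 5).val = b 0
    rw [show (1 : ZMod 5).val = 1 from rfl, show (0 : ZMod 5).val = 0 from rfl, pow_one, pow_zero, mul_one]
  have h1 : c b (v 1) = b 1 := by
    show b 0 ^ (0 : ZMod 5).val * b 1 ^ (1 : ZMod 5).val = b 1
    rw [show (1 : ZMod 5).val = 1 from rfl, show (0 : ZMod 5).val = 0 from rfl, pow_one, pow_zero, one_mul]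
  have h2 : c b (v 2) = b 2 := by
    have h3 : v 2 = -(v 0 + v 1) := by decide +kernel
    rw [h3, c_neg h, c_add h, h0, h1]
    exact inv_eq_of_mul_eq_one_right h.prod
  fin_cases i
  · exact h0
  · exact h1
  · exact h2

/-- the range of the coordinates -/
theorem c_comm (u w : V2) : c b u * c b w = c b w * c b u := by
  rw [← c_add h, add_comm, c_add h]

theorem c_bij {P : Subgroup G} (hP : Nat.card P = 25) (hb : ∀ i, b i ∈ P) {y : G} (hy : y ∈ P) : ∃ u, y = c b u := by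
  have hfin : Finite P := Nat.finite_of_card_ne_zero (by omega)
  let f : V2 → P := fun u => ⟨c b u, P.mul_mem (P.pow_mem (hb 0) _) (P.pow_mem (hb 1) _)⟩
  have hf : Function.Injective f := fun u w huw => c_inj h (congrArg Subtype.val huw)
  have hbij : Function.Bijective f := by
    rw [Nat.bijective_iff_injective_and_card]
    refine ⟨hf, ?_⟩
    rw [hP, Nat.card_prod, Nat.card_zmod]
  obtain ⟨u, hu⟩ := hbij.2 ⟨y, hy⟩
  exact ⟨u, (congrArg Subtype.val hu).symm⟩

end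

/-! ### the homomorphism to `4 × S₃` -/

/-- the target -/
abbrev T43 : Type := (ZMod 5)ˣ × Equiv.Perm (Fin 3)

/-- `n` acts on `b` as the pair `p` -/
def Rel (b : Fin 3 → G) (n : G) (p : T43) : Prop := ∀ t, n * b t * n⁻¹ = b (p.2 t) ^ (p.1 : ZMod 5).val

theorem smul_v_inj : ∀ (i j : Fin 3) (k l : ZMod 5), k ≠ 0 → k • v i = l • v j → i = j ∧ k = l := by
  decide +kernel

theorem Rel.unique {b : Fin 3 → G} (h : Bas b) {n : G} {p q : T43} (hp : Rel b n p) (hq : Rel b n q) : p = q := by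
  have h1 : ∀ t, p.2 t = q.2 t ∧ (p.1 : ZMod 5) = q.1 := by
    intro t
    have h2 := (hp t).symm.trans (hq t)
    rw [← c_v h, ← c_v h, ← c_smul h, ← c_smul h] at h2
    exact smul_v_inj _ _ _ _ p.1.ne_zero (c_inj h h2)
  exact Prod.ext (Units.ext (h1 0).2) (Equiv.ext fun t => (h1 t).1)

theorem Rel.one (b : Fin 3 → G) : Rel b 1 1 := by
  intro t
  show 1 * b t * 1⁻¹ = b t ^ (1 : ZMod 5).val
  rw [show (1 : ZMod 5).val = 1 from rfl]
  simp

theorem Rel.mul {b : Fin 3 → G} (h : Bas b) {n m : G} {p q : T43} (hp : Rel b n p) (hq : Rel b m q) :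
    Rel b (n * m) (p * q) := by
  intro t
  calc n * m * b t * (n * m)⁻¹ = n * (m * b t * m⁻¹) * n⁻¹ := by group
    _ = (n * b (q.2 t) * n⁻¹) ^ (q.1 : ZMod 5).val := by rw [hq t, conj_pow]
    _ = b ((p * q).2 t) ^ ((p * q).1 : ZMod 5).val := by
      rw [hp (q.2 t)]
      show (b (p.2 (q.2 t)) ^ (p.1 : ZMod 5).val) ^ (q.1 : ZMod 5).val = b (p.2 (q.2 t)) ^ ((p.1 : ZMod 5) * q.1).val
      rw [pow_val_mul (h.pow _)]

theorem sum_zero_aux : ∀ (i j m : Fin 3) (k l r : ZMod 5), (k = 0 ∨ l = 0 ∨ r = 0 ∨ i = j ∨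
    (k • v i + l • v j + r • v m != 0) = true) ∨ (m ≠ i ∧ m ≠ j ∧ l = k ∧ r = k) := by
  decide +kernel

theorem sum_zero (i j m : Fin 3) (k l r : ZMod 5) (hk : k ≠ 0) (hl : l ≠ 0) (hr : r ≠ 0) (hij : i ≠ j)
    (h : k • v i + l • v j + r • v m = 0) : m ≠ i ∧ m ≠ j ∧ l = k ∧ r = k := by
  rcases sum_zero_aux i j m k l r with (h1 | h1 | h1 | h1 | h1) | h1
  · exact absurd h1 hk
  · exact absurd h1 hl
  · exact absurd h1 hr
  · exact absurd h1 hij
  · rw [h] at h1
    simp at h1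
  · exact h1

theorem exists_perm : ∀ (i j m : Fin 3), i ≠ j → m ≠ i → m ≠ j → ∃ σ : Equiv.Perm (Fin 3), σ 0 = i ∧ σ 1 = j ∧ σ 2 = m := by
  decide +kernel

/-- an element permuting the twelve elements `b i ^ k` acts as a pair -/
theorem exists_rel {b : Fin 3 → G} (h : Bas b) {n : G}
    (hn : ∀ i, ∃ (j : Fin 3) (k : ZMod 5), k ≠ 0 ∧ n * b i * n⁻¹ = b j ^ k.val) : ∃ p : T43, Rel b n p := by
  obtain ⟨i, k, hk, h0⟩ := hn 0
  obtain ⟨j, l, hl, h1⟩ := hn 1
  obtain ⟨m, r, hr, h2⟩ := hn 2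
  have hsum : k • v i + l • v j + r • v m = 0 := by
    apply c_eq_one h
    rw [c_add h, c_add h, c_smul h, c_smul h, c_smul h, c_v h, c_v h, c_v h, ← h0, ← h1, ← h2]
    have : n * b 0 * n⁻¹ * (n * b 1 * n⁻¹) * (n * b 2 * n⁻¹) = n * (b 0 * b 1 * b 2) * n⁻¹ := by group
    rw [this, h.prod]
    group
  have hij : i ≠ j := by
    rintro rfl
    -- `b 0 ^ l = b 1 ^ k`
    have h3 : n * (b 0 ^ l.val) * n⁻¹ = n * (b 1 ^ k.val) * n⁻¹ := by
      rw [← conj_pow, ← conj_pow, h0, h1, ← pow_mul, ← pow_mul, mul_comm]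
    have h4 : b 0 ^ l.val = b 1 ^ k.val := mul_left_cancel (mul_right_cancel h3)
    rw [← c_v h, ← c_v h, ← c_smul h, ← c_smul h] at h4
    have h5 := (smul_v_inj _ _ _ _ hl (c_inj h h4)).1
    exact absurd h5 (by decide)
  obtain ⟨h3, h4, rfl, rfl⟩ := sum_zero i j m k l r hk hl hr hij hsum
  obtain ⟨σ, hσ0, hσ1, hσ2⟩ := exists_perm i j m hij h3 h4
  refine ⟨(Units.mk0 r hk, σ), ?_⟩
  intro t
  fin_cases t
  · show n * b 0 * n⁻¹ = b (σ 0) ^ r.val
    rw [hσ0, h0]
  · show n * b 1 * n⁻¹ = b (σ 1) ^ r.val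
    rw [hσ1, h1]
  · show n * b 2 * n⁻¹ = b (σ 2) ^ r.val
    rw [hσ2, h2]

/-- the data of the normaliser -/
structure Nrm (P N : Subgroup G) (b : Fin 3 → G) : Prop where
  bas : Bas b
  mem : ∀ i, b i ∈ P
  rel : ∀ n ∈ N, ∃ p : T43, Rel b n p
  cent : ∀ n ∈ N, (∀ y ∈ P, n * y = y * n) → n ∈ P
  le : P ≤ N
  comm : ∀ x ∈ P, ∀ y ∈ P, x * y = y * x
  surjP : ∀ y ∈ P, ∃ u, y = c b u
  cardP : Nat.card P = 25
  cardN : Nat.card N = 600

section

variable {P N : Subgroup G} {b : Fin 3 → G} (H : Nrm P N b)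

include H

/-- the homomorphism `N → 4 × S₃` -/
noncomputable def Nrm.hom : N →* T43 where
  toFun n := (H.rel n n.2).choose
  map_one' := Rel.unique H.bas (H.rel _ (1 : N).2).choose_spec (Rel.one b)
  map_mul' n m := Rel.unique H.bas (H.rel _ (n * m).2).choose_spec
    (Rel.mul H.bas (H.rel n n.2).choose_spec (H.rel m m.2).choose_spec)

theorem Nrm.hom_spec (n : N) : Rel b n (H.hom n) := (H.rel n n.2).choose_spec

theorem Nrm.ker : H.hom.ker = P.subgroupOf N := by
  ext n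
  rw [MonoidHom.mem_ker, mem_subgroupOf]
  constructor
  · intro hn
    have h1 := H.hom_spec n
    rw [hn] at h1
    have h2 : ∀ t, (n : G) * b t = b t * n := by
      intro t
      have h3 := h1 t
      have h4 : b ((1 : T43).2 t) ^ ((1 : T43).1 : ZMod 5).val = b t := by
        show b t ^ (1 : ZMod 5).val = b t
        rw [show (1 : ZMod 5).val = 1 from rfl, pow_one]
      rw [h4] at h3
      exact mul_inv_eq_iff_eq_mul.1 h3
    apply H.cent n n.2
    intro y hy
    obtain ⟨u, rfl⟩ := H.surjP y hy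
    have h5 : Commute (n : G) (b 0) := h2 0
    have h6 : Commute (n : G) (b 1) := h2 1
    exact ((h5.pow_right _).mul_right (h6.pow_right _)).eq
  · intro hn
    refine Rel.unique H.bas (H.hom_spec n) ?_
    intro t
    show (n : G) * b t * (n : G)⁻¹ = b t ^ (1 : ZMod 5).val
    rw [show (1 : ZMod 5).val = 1 from rfl, pow_one, H.comm n hn (b t) (H.mem t), mul_inv_cancel_right]

theorem Nrm.surjective : Function.Surjective H.hom := by
  have hfin : Finite N := Nat.finite_of_card_ne_zero (by rw [H.cardN]; norm_num)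
  have h1 : Nat.card H.hom.range = 24 := by
    have h2 := card_eq_card_quotient_mul_card_subgroup H.hom.ker
    rw [Nat.card_congr (QuotientGroup.quotientKerEquivRange H.hom).toEquiv, H.cardN, H.ker,
      Nat.card_congr (subgroupOfEquivOfLe H.le).toEquiv, H.cardP] at h2
    omega
  rw [← MonoidHom.range_eq_top]
  apply eq_top_of_card_eq
  rw [h1, Nat.card_eq_fintype_card]
  decide +kernel

omit [Group G] H in
theorem units_equiv : Nonempty ((ZMod 5)ˣ ≃* Multiplicative (ZMod 4)) := by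
  refine ⟨mulEquivOfCyclicCardEq ?_⟩
  rw [Nat.card_eq_fintype_card, Nat.card_eq_fintype_card]
  decide +kernel

omit H in
theorem Nrm.equiv (H : Nrm P N b) [(P.subgroupOf N).Normal] :
    Nonempty (↥N ⧸ P.subgroupOf N ≃* Multiplicative (ZMod 4) × Equiv.Perm (Fin 3)) := by
  obtain ⟨e⟩ := units_equiv
  have e1 : ↥N ⧸ P.subgroupOf N ≃* ↥N ⧸ H.hom.ker := QuotientGroup.quotientMulEquivOfEq H.ker.symm
  have e2 := QuotientGroup.quotientKerEquivOfSurjective H.hom H.surjective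
  exact ⟨(e1.trans e2).trans (MulEquiv.prodCongr e (MulEquiv.refl _))⟩

end

end Cfsg.Agent.H812.FiveBasis
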