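import Mathlib
import Cfsg.Agent.H812.FiveBasis

/-!
# Existence of the basis, and the two classes of subgroups of order 5 (helper812)
-/

set_option autoImplicit false

namespace Cfsg.Agent.H812.FiveMain

open Subgroup Cfsg.Agent.J2Type.SylowFive Cfsg.Agent.H812.FiveBasis

variable {G : Type*} [Group G]

theorem pow_mem_O {P : Sylow 5 G} {x : G} (hx5 : orderOf x = 5) (hxx : IsConj x (x ^ 2)) {y : G} (hy : y ∈ O P x)
    {k : ℕ} (hk : ¬ 5 ∣ k) : y ^ k ∈ O P x := by
  have hsq : ∀ z ∈ O P x, z ^ 2 ∈ O P x := fun z hz =>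
    ⟨(P : Subgroup G).pow_mem hz.1 2, hxx.trans (hz.2.pow 2)⟩
  have hy5 : y ^ 5 = 1 := by
    rw [← hx5, orderOf_eq_of_isConj hy.2]; exact pow_orderOf_eq_one y
  have hmod : y ^ k = y ^ (k % 5) := by
    conv_lhs => rw [← Nat.div_add_mod k 5, pow_add, pow_mul, hy5, one_pow, one_mul]
  rw [hmod]
  have h1 : k % 5 = 1 ∨ k % 5 = 2 ∨ k % 5 = 3 ∨ k % 5 = 4 := by omega
  rcases h1 with h1 | h1 | h1 | h1 <;> rw [h1]
  · rw [pow_one]; exact hy
  · exact hsq y hy
  · have h2 := hsq _ (hsq _ (hsq y hy))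
    rw [← pow_mul, ← pow_mul, show 2 * 2 * 2 = 5 + 3 by norm_num, pow_add, hy5, one_mul] at h2
    exact h2
  · have h2 := hsq _ (hsq y hy)
    rw [← pow_mul, show 2 * 2 = 4 by norm_num] at h2
    exact h2

theorem bas_of {x y z : G} (hx : orderOf x = 5) (hy : orderOf y = 5) (hxy : x * y = y * x) (hn : y ∉ zpowers x)
    (hz : x * y * z = 1) : Bas ![x, y, z] := by
  have hx5 : x ^ 5 = 1 := by rw [← hx]; exact pow_orderOf_eq_one x
  have hy5 : y ^ 5 = 1 := by rw [← hy]; exact pow_orderOf_eq_one y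
  have hz' : z = (x * y)⁻¹ := (inv_eq_of_mul_eq_one_right hz).symm
  have hc : Commute x y := hxy
  have hxz : Commute x z := by rw [hz']; exact ((Commute.refl x).mul_right hc).inv_right
  have hyz : Commute y z := by rw [hz']; exact (hc.symm.mul_right (Commute.refl y)).inv_right
  refine ⟨?_, ?_, hz, ?_⟩
  · intro i
    fin_cases i
    · exact hx5
    · exact hy5
    · show z ^ 5 = 1
      rw [hz', inv_pow, hc.mul_pow, hx5, hy5, one_mul, inv_one]
  · intro i j
    fin_cases i <;> fin_cases j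
    · rfl
    · exact hxy
    · exact hxz
    · exact hxy.symm
    · rfl
    · exact hyz
    · exact hxz.symm
    · exact hyz.symm
    · rfl
  · intro k l h
    change x ^ k * y ^ l = 1 at h
    have hl : 5 ∣ l := by
      by_contra hl
      apply hn
      have h1 : y ^ l ∈ zpowers x := by
        have : y ^ l = (x ^ k)⁻¹ := (inv_eq_of_mul_eq_one_right h).symm
        rw [this]
        exact inv_mem (pow_mem (mem_zpowers x) k)
      have hco : Nat.Coprime l (orderOf y) := by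
        rw [hy]; exact ((Nat.Prime.coprime_iff_not_dvd (by norm_num)).2 hl).symm
      obtain ⟨m, hm⟩ := exists_pow_eq_self_of_coprime hco
      rw [← hm]
      exact pow_mem h1 m
    refine ⟨?_, hl⟩
    obtain ⟨m, rfl⟩ := hl
    rw [pow_mul, hy5, one_pow, mul_one] at h
    rw [← hx]
    exact orderOf_dvd_of_pow_eq_one h

theorem exists_nrm [Finite G] {P : Sylow 5 G} (hP25 : Nat.card (P : Subgroup G) = 25) {m : ℕ}
    (hG : Nat.card G = 200 * m) (hm : m % 5 = 3) {x : G} (h : Good x) (hxx : IsConj x (x ^ 2)) (hx : x ∈ P) :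
    ∃ b : Fin 3 → G, Nrm (P : Subgroup G) (normalizer ((P : Subgroup G) : Set G)) b ∧
      ∀ y, y ∈ O P x ↔ ∃ (i : Fin 3) (k : ZMod 5), k ≠ 0 ∧ y = b i ^ k.val := by
  obtain ⟨hN, hO⟩ := FiveKey.card_main hP25 hG hm h hxx hx
  obtain ⟨hCP, -⟩ := FiveKey.key hP25 h hx
  have hx5 := h.1
  have hOmem : ∀ y ∈ O P x, orderOf y = 5 := fun y hy => by rw [← orderOf_eq_of_isConj hy.2]; exact hx5
  have hzp : ∀ y ∈ O P x, ((zpowers y : Subgroup G) : Set G).ncard = 5 := by
    intro y hy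
    rw [← Nat.card_coe_set_eq]
    show Nat.card (zpowers y) = 5
    rw [Nat.card_zpowers, hOmem y hy]
  rw [Nat.card_coe_set_eq] at hO
  have hxO : x ∈ O P x := ⟨hx, IsConj.refl x⟩
  obtain ⟨y, hyO, hyx⟩ : ∃ y ∈ O P x, y ∉ zpowers x := by
    by_contra hcon
    push Not at hcon
    have h1 : O P x ⊆ ((zpowers x : Subgroup G) : Set G) := hcon
    have h2 := Set.ncard_le_ncard h1
    rw [hO, hzp x hxO] at h2
    omega
  obtain ⟨z, hzO, hzx, hzy⟩ : ∃ z ∈ O P x, z ∉ zpowers x ∧ z ∉ zpowers y := by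
    by_contra hcon
    push Not at hcon
    have h1 : O P x ⊆ ((zpowers x : Subgroup G) : Set G) ∪ ((zpowers y : Subgroup G) : Set G) := by
      intro w hw
      by_cases hwx : w ∈ zpowers x
      · exact Or.inl hwx
      · exact Or.inr (hcon w hw hwx)
    have h2 := (Set.ncard_le_ncard h1).trans (Set.ncard_union_le _ _)
    rw [hO, hzp x hxO, hzp y hyO] at h2
    omega
  have hPc : ∀ a ∈ (P : Subgroup G), ∀ b ∈ (P : Subgroup G), a * b = b * a :=
    fun a ha b hb => FiveKey.comm_of_mem hP25 ha hb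
  have hxy := hPc x hx y hyO.1
  have hB := bas_of hx5 (hOmem y hyO) hxy hyx (z := (x * y)⁻¹) (mul_inv_cancel _)
  have hBP : ∀ i, (![x, y, (x * y)⁻¹] : Fin 3 → G) i ∈ (P : Subgroup G) := by
    intro i
    fin_cases i
    · exact hx
    · exact hyO.1
    · exact inv_mem (mul_mem hx hyO.1)
  obtain ⟨u, hu⟩ := c_bij hB hP25 hBP hzO.1
  change z = x ^ u.1.val * y ^ u.2.val at hu
  have hval : ∀ k : ZMod 5, k ≠ 0 → ¬ 5 ∣ k.val := by decide +kernel
  have hx5' : x ^ 5 = 1 := by rw [← hx5]; exact pow_orderOf_eq_one x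
  have hu1 : u.1 ≠ 0 := by
    intro h0
    apply hzy
    rw [hu, h0, ZMod.val_zero, pow_zero, one_mul]
    exact npow_mem_zpowers y _
  have hu2 : u.2 ≠ 0 := by
    intro h0
    apply hzx
    rw [hu, h0, ZMod.val_zero, pow_zero, mul_one]
    exact npow_mem_zpowers x _
  have ha : x ^ u.1.val ∈ O P x := pow_mem_O hx5 hxx hxO (hval _ hu1)
  have hb : y ^ u.2.val ∈ O P x := pow_mem_O hx5 hxx hyO (hval _ hu2)
  have hzi : z⁻¹ ∈ O P x := by
    have h1 : z⁻¹ = z ^ 4 := by
      have h5 : z ^ 5 = 1 := by rw [← hOmem z hzO]; exact pow_orderOf_eq_one z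
      rw [inv_eq_iff_mul_eq_one, ← pow_succ']
      exact h5
    rw [h1]
    exact pow_mem_O hx5 hxx hzO (by norm_num)
  have hyx' : y ^ u.2.val ∉ zpowers (x ^ u.1.val) := by
    intro hcon
    apply hyx
    have h1 : y ^ u.2.val ∈ zpowers x := (zpowers_le.2 (npow_mem_zpowers x _)) hcon
    have hco : Nat.Coprime u.2.val (orderOf y) := by
      rw [hOmem y hyO]; exact ((Nat.Prime.coprime_iff_not_dvd (by norm_num)).2 (hval _ hu2)).symm
    obtain ⟨m, hm⟩ := exists_pow_eq_self_of_coprime hco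
    rw [← hm]
    exact pow_mem h1 m
  have hB' := bas_of (hOmem _ ha) (hOmem _ hb) (hPc _ ha.1 _ hb.1) hyx' (z := z⁻¹) (by rw [← hu, mul_inv_cancel])
  set b : Fin 3 → G := ![x ^ u.1.val, y ^ u.2.val, z⁻¹] with hbdef
  have hbO : ∀ i, b i ∈ O P x := by
    intro i
    fin_cases i
    · exact ha
    · exact hb
    · exact hzi
  have hOiff : ∀ y, y ∈ O P x ↔ ∃ (i : Fin 3) (k : ZMod 5), k ≠ 0 ∧ y = b i ^ k.val := by
    let f : Fin 3 × {k : ZMod 5 // k ≠ 0} → G := fun p => b p.1 ^ (p.2 : ZMod 5).val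
    have hf : Function.Injective f := by
      rintro ⟨i, k, hk⟩ ⟨j, l, hl⟩ hkl
      change b i ^ k.val = b j ^ l.val at hkl
      rw [← c_v hB', ← c_v hB', ← c_smul hB', ← c_smul hB'] at hkl
      obtain ⟨h1, h2⟩ := smul_v_inj _ _ _ _ hk (c_inj hB' hkl)
      subst h1; subst h2; rfl
    have hsub : Set.range f ⊆ O P x := by
      rintro _ ⟨⟨i, k, hk⟩, rfl⟩
      exact pow_mem_O hx5 hxx (hbO i) (hval k hk)
    have hcard : (Set.range f).ncard = 12 := by
      rw [← Set.image_univ, Set.ncard_image_of_injective _ hf, Set.ncard_univ, Nat.card_prod,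
        Nat.card_eq_fintype_card, Nat.card_eq_fintype_card]
      decide +kernel
    have hEq : Set.range f = O P x := Set.eq_of_subset_of_ncard_le hsub (by rw [hO, hcard])
    intro w
    rw [← hEq]
    constructor
    · rintro ⟨⟨i, k, hk⟩, rfl⟩
      exact ⟨i, k, hk, rfl⟩
    · rintro ⟨i, k, hk, rfl⟩
      exact ⟨(i, ⟨k, hk⟩), rfl⟩
  refine ⟨b, ?_, hOiff⟩
  exact
    { bas := hB'
      mem := fun i => (hbO i).1
      rel := by
        intro n hn
        apply exists_rel hB'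
        intro i
        have h1 : n * b i * n⁻¹ ∈ O P x :=
          ⟨(mem_normalizer_iff.1 hn _).1 (hbO i).1, (hbO i).2.trans (isConj_iff.2 ⟨n, rfl⟩)⟩
        exact (hOiff _).1 h1
      cent := by
        intro n _ hny
        rw [← hCP, mem_centralizer_iff]
        intro y hy
        exact (hny y hy).symm
      le := le_normalizer
      comm := hPc
      surjP := fun y hy => c_bij hB' hP25 (fun i => (hbO i).1) hy
      cardP := hP25
      cardN := hN }

/-! ### the two classes of subgroups of order 5 -/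

/-- the action of a pair on the plane -/
def act (p : T43) (u : V2) : V2 := (p.1 : ZMod 5) • (u.1 • v (p.2 0) + u.2 • v (p.2 1))

theorem rel_c {b : Fin 3 → G} (h : Bas b) {n : G} {p : T43} (hp : Rel b n p) (u : V2) :
    n * c b u * n⁻¹ = c b (act p u) := by
  have h1 : n * c b u * n⁻¹ = (n * b 0 * n⁻¹) ^ u.1.val * (n * b 1 * n⁻¹) ^ u.2.val := by
    unfold c
    rw [conj_pow, conj_pow]
    group
  rw [h1, hp 0, hp 1, act, smul_add, c_add h, smul_comm, smul_comm (p.1 : ZMod 5) u.2, c_smul h u.1, c_smul h u.2,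
    c_smul h, c_smul h, c_v h, c_v h]

theorem orbit_aux : ∀ u : V2, u ≠ 0 → (∃ (i : Fin 3) (k : ZMod 5), k ≠ 0 ∧ u = k • v i) ∨
    ∃ p : T43, act p (1, 4) = u := by
  decide +kernel

theorem not_line : ∀ (k : ZMod 5) (i : Fin 3) (l : ZMod 5), k ≠ 0 → k • ((1, 4) : V2) ≠ l • v i := by
  decide +kernel

theorem five_smul : ∀ u : V2, (5 : ℕ) • u = 0 := by decide +kernel

theorem one_four_ne : ((1, 4) : V2) ≠ 0 := by decide +kernel

theorem smul_v_ne : ∀ (i : Fin 3) (l : ZMod 5), l ≠ 0 → l • v i ≠ 0 := by decide +kernel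

theorem two_classes [Finite G] {P : Sylow 5 G} (hP25 : Nat.card (P : Subgroup G) = 25) {m : ℕ}
    (hG : Nat.card G = 200 * m) (hm : m % 5 = 3) {x : G} (h : Good x) (hxx : IsConj x (x ^ 2)) (hx : x ∈ P) :
    ∃ A B : Subgroup G, Nat.card A = 5 ∧ Nat.card B = 5 ∧ (∀ g : G, A.map (MulAut.conj g).toMonoidHom ≠ B) ∧
      ∀ C : Subgroup G, Nat.card C = 5 → ∃ g : G, C.map (MulAut.conj g).toMonoidHom = A ∨
        C.map (MulAut.conj g).toMonoidHom = B := by
  have hfact : Fact (Nat.Prime 5) := ⟨by norm_num⟩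
  obtain ⟨b, H, hO⟩ := exists_nrm hP25 hG hm h hxx hx
  have hB := H.bas
  have hmapz : ∀ g y : G, (zpowers y).map (MulAut.conj g).toMonoidHom = zpowers (g * y * g⁻¹) := by
    intro g y
    rw [MonoidHom.map_zpowers]; rfl
  have horder : ∀ u : V2, u ≠ 0 → orderOf (c b u) = 5 := by
    intro u hu
    apply orderOf_eq_prime
    · rw [← c_nsmul hB, five_smul, c_zero]
    · intro h1
      exact hu (c_eq_one hB h1)
  -- all conjugates of `x` generate conjugate subgroups
  refine ⟨zpowers x, zpowers (c b (1, 4)), ?_, ?_, ?_, ?_⟩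
  · rw [Nat.card_zpowers, h.1]
  · rw [Nat.card_zpowers, horder _ one_four_ne]
  · intro g hg
    rw [hmapz] at hg
    -- `g x g⁻¹` is a power of `c (1, 4)` in `P`
    have h1 : g * x * g⁻¹ ∈ zpowers (c b (1, 4)) := by rw [← hg]; exact mem_zpowers _
    obtain ⟨k, hk⟩ := (mem_powers_iff_mem_zpowers (x := c b (1, 4))).2 h1
    change c b (1, 4) ^ k = g * x * g⁻¹ at hk
    have h2 : c b (1, 4) ^ k = c b (k • (1, 4)) := (c_nsmul hB k (1, 4)).symm
    have h3 : (k • ((1, 4) : V2)) = (k : ZMod 5) • ((1, 4) : V2) := by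
      rw [Nat.cast_smul_eq_nsmul]
    have h4 : c b ((k : ZMod 5) • ((1, 4) : V2)) ∈ O P x := by
      rw [← h3, ← h2, hk]
      refine ⟨?_, isConj_iff.2 ⟨g, rfl⟩⟩
      rw [← hk, h2]
      exact mul_mem (pow_mem (H.mem 0) _) (pow_mem (H.mem 1) _)
    obtain ⟨i, l, hl, h5⟩ := (hO _).1 h4
    rw [← c_v hB, ← c_smul hB] at h5
    have h6 := c_inj hB h5
    have hk0 : (k : ZMod 5) ≠ 0 := by
      intro h0
      rw [h0, zero_smul] at h6
      exact smul_v_ne i l hl h6.symm
    exact not_line _ _ _ hk0 h6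
  · intro C hC
    obtain ⟨y, hyC, hy5⟩ : ∃ y : G, zpowers y = C ∧ orderOf y = 5 := by
      have : IsCyclic C := isCyclic_of_prime_card hC
      obtain ⟨y, hy⟩ := isCyclic_iff_exists_zpowers_eq_top.mp (inferInstance : IsCyclic C)
      have h1 : zpowers (y : G) = C := by
        have h2 := congrArg (fun H => H.map C.subtype) hy
        simp only [MonoidHom.map_zpowers] at h2
        rw [← MonoidHom.range_eq_map, Subgroup.range_subtype] at h2
        exact h2
      refine ⟨y, h1, ?_⟩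
      rw [← Nat.card_zpowers, h1, hC]
    obtain ⟨g, hg⟩ := exists_conj_mem_sylow P (y := y) (n := 1) (by rw [hy5]; norm_num)
    obtain ⟨u, hu⟩ := H.surjP _ hg
    have hu0 : u ≠ 0 := by
      rintro rfl
      rw [c_zero] at hu
      have h1 : y = 1 := by
        calc y = g⁻¹ * (g * y * g⁻¹) * g := by group
          _ = 1 := by rw [hu]; group
      rw [h1, orderOf_one] at hy5
      norm_num at hy5
    rcases orbit_aux u hu0 with ⟨i, k, hk, hki⟩ | ⟨p, hp⟩
    · -- conjugate to `x`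
      have h1 : g * y * g⁻¹ ∈ O P x := by
        rw [hO]
        exact ⟨i, k, hk, by rw [hu, hki, c_smul hB, c_v hB]⟩
      obtain ⟨d, hd⟩ := isConj_iff.1 h1.2.symm
      refine ⟨d * g, Or.inl ?_⟩
      rw [← hyC, hmapz]
      congr 1
      rw [← hd]; group
    · -- conjugate to `c (1, 4)` by an element of `N(P)`
      obtain ⟨n, hn⟩ := H.surjective p
      have h1 : (n : G) * c b (1, 4) * (n : G)⁻¹ = g * y * g⁻¹ := by
        rw [rel_c hB (hn ▸ H.hom_spec n), hp, hu]
      refine ⟨(n : G)⁻¹ * g, Or.inr ?_⟩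
      rw [← hyC, hmapz]
      congr 1
      calc (n : G)⁻¹ * g * y * ((n : G)⁻¹ * g)⁻¹ = (n : G)⁻¹ * (g * y * g⁻¹) * n := by group
        _ = c b (1, 4) := by rw [← h1]; group

end Cfsg.Agent.H812.FiveMain
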