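import Cfsg.Agent.H263.ChermakDelgado

/-!
# Elements of order five acting on a group of order 512 (helper812)

`C` contains a normal subgroup `Q` of order 512; `p`, `q` are commuting elements of order five of `C` generating a
Sylow 5-subgroup of `C`, both centralize more than `{1, z}` in `Q`.  Then every element of order five of `C` with
`|C_Q(b)| = 32` is conjugate in `C` to a power of `p` or of `q`.
-/

set_option autoImplicit false

namespace Cfsg.Agent.H812.FiveSyl

open Subgroup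
open scoped Pointwise

variable {G : Type*} [Group G] [Finite G]

/-- a subgroup of prime order is conjugate into a `p`-subgroup of index prime to `p` -/
theorem exists_mem {C S : Subgroup G} {p : ℕ} (hp : p.Prime) (hS : IsPGroup p S)
    (hidx : ¬ p ∣ S.relIndex C) {x : G} (hx : orderOf x = p) (hxC : x ∈ C) : ∃ c ∈ C, c * x * c⁻¹ ∈ S := by
  have : Fact p.Prime := ⟨hp⟩
  have hS' : IsPGroup p (S.subgroupOf C) := hS.comap_of_injective C.subtype Subtype.val_injective
  have hX' : IsPGroup p (zpowers (⟨x, hxC⟩ : C)) :=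
    IsPGroup.of_card (n := 1) (by rw [Nat.card_zpowers, Subgroup.orderOf_mk, hx, pow_one])
  obtain ⟨Q, hQ⟩ := hX'.exists_le_sylow
  obtain ⟨c, hc⟩ := MulAction.exists_smul_eq C Q (hS'.toSylow hidx)
  refine ⟨c, c.2, ?_⟩
  have h1 : (⟨x, hxC⟩ : C) ∈ (Q : Subgroup C) := hQ (mem_zpowers _)
  have h2 : c * ⟨x, hxC⟩ * c⁻¹ ∈ ((c • Q : Sylow p C) : Subgroup C) := by
    have : c * ⟨x, hxC⟩ * c⁻¹ = (MulAut.conj c) • (⟨x, hxC⟩ : C) := rfl
    rw [this]
    exact Subgroup.smul_mem_pointwise_smul _ _ _ h1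
  rw [hc] at h2
  exact Subgroup.mem_subgroupOf.1 h2

/-- the order of the centralizer of a group of order a power of five in a group of order 512 -/
theorem card_cent_mod {Q P : Subgroup G} (h512 : Nat.card Q = 512) (hP : IsPGroup 5 P)
    (hn : ∀ p ∈ P, ∀ q ∈ Q, p * q * p⁻¹ ∈ Q) :
    Nat.card ↥(Q ⊓ centralizer (P : Set G)) = 2 ∨ Nat.card ↥(Q ⊓ centralizer (P : Set G)) = 32 ∨
      Nat.card ↥(Q ⊓ centralizer (P : Set G)) = 512 := by
  have : Fact (Nat.Prime 5) := ⟨by norm_num⟩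
  let _ : MulAction P Q :=
    { smul := fun p q => ⟨p * q * (p : G)⁻¹, hn p p.2 q q.2⟩
      one_smul := fun q => Subtype.ext (by
        show (1 : G) * q * (1 : G)⁻¹ = q
        group)
      mul_smul := fun a b q => Subtype.ext (by
        show ((a : G) * b) * q * ((a : G) * b)⁻¹ = a * (b * q * (b : G)⁻¹) * (a : G)⁻¹
        group) }
  have hsm : ∀ (p : P) (q : Q), ((p • q : Q) : G) = p * q * (p : G)⁻¹ := fun _ _ => rfl
  have h1 := hP.card_modEq_card_fixedPoints Q
  have h2 : Nat.card (MulAction.fixedPoints P Q) = Nat.card ↥(Q ⊓ centralizer (P : Set G)) := by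
    refine Nat.card_congr ⟨fun x => ⟨x.1, x.1.2, ?_⟩, fun x => ⟨⟨x.1, x.2.1⟩, ?_⟩, fun x => rfl, fun x => rfl⟩
    · show (x.1 : G) ∈ centralizer (P : Set G)
      rw [mem_centralizer_iff]
      intro p hp
      have h3 := congrArg Subtype.val (x.2 ⟨p, hp⟩)
      rw [hsm] at h3
      exact mul_inv_eq_iff_eq_mul.1 h3
    · intro p
      apply Subtype.ext
      rw [hsm]
      have h3 := mem_centralizer_iff.1 x.2.2 p p.2
      show (p : G) * x.1 * (p : G)⁻¹ = x.1
      rw [h3]; group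
  rw [h2, h512] at h1
  have h3 : Nat.card ↥(Q ⊓ centralizer (P : Set G)) ∣ 512 := by
    rw [← h512]; exact card_dvd_of_le inf_le_left
  generalize Nat.card ↥(Q ⊓ centralizer (P : Set G)) = n at h1 h3
  have h4 : n ∈ Nat.divisors 512 := Nat.mem_divisors.2 ⟨h3, by norm_num⟩
  have h5 : ∀ n ∈ Nat.divisors 512, 512 % 5 = n % 5 → n = 2 ∨ n = 32 ∨ n = 512 := by decide +kernel
  exact h5 n h4 h1

/-- the data -/
structure Dat (Q C : Subgroup G) (z p q : G) : Prop where
  h512 : Nat.card Q = 512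
  zz : z * z = 1
  nor : ∀ c ∈ C, ∀ x ∈ Q, c * x * c⁻¹ ∈ Q
  zC : ∀ c ∈ C, c * z = z * c
  zQ : z ∈ Q
  z1 : z ≠ 1
  pC : p ∈ C
  qC : q ∈ C
  p5 : p ^ 5 = 1
  q5 : q ^ 5 = 1
  pq : p * q = q * p
  /-- elements of `Q` commuting with `p`, `q` -/
  ex : ∃ s ∈ Q, s ≠ 1 ∧ s ≠ z ∧ s * p = p * s ∧ s * q ≠ q * s
  ex' : ∃ s ∈ Q, s ≠ 1 ∧ s ≠ z ∧ s * q = q * s ∧ s * p ≠ p * s
  idx : Nat.card C = 89181388800
  QC : Q ≤ C

namespace Dat

variable {Q C : Subgroup G} {z p q : G} (D : Dat Q C z p q)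
include D

/-- the group `⟨p, q⟩` -/
def P : Subgroup G where
  carrier := {x | ∃ i j : ℕ, x = p ^ i * q ^ j}
  one_mem' := ⟨0, 0, by simp⟩
  mul_mem' := by
    rintro _ _ ⟨a, b, rfl⟩ ⟨c, d, rfl⟩
    refine ⟨a + c, b + d, ?_⟩
    have h : q ^ b * p ^ c = p ^ c * q ^ b := ((show Commute p q from D.pq).pow_pow c b).eq.symm
    calc p ^ a * q ^ b * (p ^ c * q ^ d) = p ^ a * (q ^ b * p ^ c) * q ^ d := by group
      _ = p ^ (a + c) * q ^ (b + d) := by rw [h, pow_add, pow_add]; group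
  inv_mem' := by
    rintro _ ⟨a, b, rfl⟩
    refine ⟨4 * a, 4 * b, ?_⟩
    apply inv_eq_of_mul_eq_one_right
    have h : q ^ b * p ^ (4 * a) = p ^ (4 * a) * q ^ b := ((show Commute p q from D.pq).pow_pow _ b).eq.symm
    calc p ^ a * q ^ b * (p ^ (4 * a) * q ^ (4 * b)) = p ^ a * (q ^ b * p ^ (4 * a)) * q ^ (4 * b) := by group
      _ = (p ^ a * p ^ (4 * a)) * (q ^ b * q ^ (4 * b)) := by rw [h]; group
      _ = (p ^ 5) ^ a * (q ^ 5) ^ b := by
        rw [← pow_add, ← pow_add, ← pow_mul, ← pow_mul]; congr 2 <;> ring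
      _ = 1 := by rw [D.p5, D.q5, one_pow, one_pow, one_mul]

theorem mem_P {x : G} : x ∈ D.P ↔ ∃ i j : ℕ, x = p ^ i * q ^ j := Iff.rfl

omit [Finite G] D in
theorem pow_mod {x : G} (h : x ^ 5 = 1) (i : ℕ) : x ^ i = x ^ (i % 5) := by
  conv_lhs => rw [← Nat.div_add_mod i 5, pow_add, pow_mul, h, one_pow, one_mul]

omit [Finite G] D in
/-- a power with exponent prime to five generates -/
theorem pow_pow_eq {x : G} (h : x ^ 5 = 1) {i : ℕ} (hi : i % 5 ≠ 0) : ∃ k : ℕ, (x ^ i) ^ k = x := by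
  have h1 : ∃ k : ℕ, i * k % 5 = 1 := by
    have h2 : i % 5 < 5 := Nat.mod_lt _ (by norm_num)
    have h3 : ∀ m < 5, m ≠ 0 → ∃ k < 5, m * k % 5 = 1 := by decide
    obtain ⟨k, -, hk⟩ := h3 (i % 5) h2 hi
    exact ⟨k, by rw [Nat.mul_mod, Nat.mod_mod] at hk; rwa [Nat.mul_mod]⟩
  obtain ⟨k, hk⟩ := h1
  refine ⟨k, ?_⟩
  rw [← pow_mul, pow_mod h, hk, pow_one]

theorem PC : D.P ≤ C := by
  rintro _ ⟨i, j, rfl⟩
  exact C.mul_mem (C.pow_mem D.pC i) (C.pow_mem D.qC j)

/-- a power of `p` which is a power of `q` is trivial -/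
theorem ind {i j : ℕ} (h : p ^ i * q ^ j = 1) : i % 5 = 0 ∧ j % 5 = 0 := by
  obtain ⟨s, -, -, -, hsp, hsq⟩ := D.ex
  obtain ⟨t, -, -, -, htq, htp⟩ := D.ex'
  constructor
  · by_contra hi
    obtain ⟨k, hk⟩ := pow_pow_eq D.p5 hi
    apply htp
    have h1 : p ^ i = (q ^ j)⁻¹ := eq_inv_of_mul_eq_one_left h
    have h2 : Commute t p := by
      rw [← hk, h1]
      exact (((show Commute t q from htq).pow_right j).inv_right).pow_right k
    exact h2
  · by_contra hj
    obtain ⟨k, hk⟩ := pow_pow_eq D.q5 hj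
    apply hsq
    have h1 : q ^ j = (p ^ i)⁻¹ := eq_inv_of_mul_eq_one_right h
    have h2 : Commute s q := by
      rw [← hk, h1]
      exact (((show Commute s p from hsp).pow_right i).inv_right).pow_right k
    exact h2

theorem card_P : Nat.card D.P = 25 := by
  have h1 : Function.Bijective (fun x : Fin 5 × Fin 5 => (⟨p ^ x.1.val * q ^ x.2.val, x.1.val, x.2.val, rfl⟩ : D.P)) := by
    constructor
    · rintro ⟨a, b⟩ ⟨c, d⟩ h
      have h2 : p ^ a.val * q ^ b.val = p ^ c.val * q ^ d.val := congrArg Subtype.val h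
      have h3 : p ^ (a.val + 4 * c.val) * q ^ (b.val + 4 * d.val) = 1 := by
        have e : q ^ b.val * p ^ (4 * c.val) = p ^ (4 * c.val) * q ^ b.val :=
          ((show Commute p q from D.pq).pow_pow _ _).eq.symm
        have e' : q ^ d.val * p ^ (4 * c.val) = p ^ (4 * c.val) * q ^ d.val :=
          ((show Commute p q from D.pq).pow_pow _ _).eq.symm
        calc p ^ (a.val + 4 * c.val) * q ^ (b.val + 4 * d.val)
            = p ^ a.val * (p ^ (4 * c.val) * q ^ b.val) * q ^ (4 * d.val) := by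
              rw [pow_add, pow_add]; group
          _ = (p ^ a.val * q ^ b.val) * (p ^ (4 * c.val) * q ^ (4 * d.val)) := by rw [← e]; group
          _ = p ^ c.val * (q ^ d.val * p ^ (4 * c.val)) * q ^ (4 * d.val) := by rw [h2]; group
          _ = (p ^ c.val * p ^ (4 * c.val)) * (q ^ d.val * q ^ (4 * d.val)) := by rw [e']; group
          _ = (p ^ 5) ^ c.val * (q ^ 5) ^ d.val := by
            rw [← pow_add, ← pow_add, ← pow_mul, ← pow_mul]; congr 2 <;> ring
          _ = 1 := by rw [D.p5, D.q5, one_pow, one_pow, one_mul]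
      obtain ⟨h4, h5⟩ := D.ind h3
      have ha := a.isLt
      have hb := b.isLt
      have hc := c.isLt
      have hd := d.isLt
      have e1 : a.val = c.val := by omega
      have e2 : b.val = d.val := by omega
      exact Prod.ext (Fin.ext e1) (Fin.ext e2)
    · rintro ⟨x, i, j, rfl⟩
      refine ⟨(⟨i % 5, Nat.mod_lt _ (by norm_num)⟩, ⟨j % 5, Nat.mod_lt _ (by norm_num)⟩), Subtype.ext ?_⟩
      show p ^ (i % 5) * q ^ (j % 5) = p ^ i * q ^ j
      rw [← pow_mod D.p5, ← pow_mod D.q5]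
  rw [← Nat.card_eq_of_bijective _ h1, Nat.card_prod, Nat.card_fin]

theorem isPGroup_P : IsPGroup 5 D.P := IsPGroup.of_card (n := 2) (by rw [D.card_P]; norm_num)

theorem relIndex : ¬ 5 ∣ D.P.relIndex C := by
  have h1 := card_mul_index (D.P.subgroupOf C)
  rw [D.idx, Nat.card_congr (subgroupOfEquivOfLe D.PC).toEquiv, D.card_P] at h1
  change 25 * D.P.relIndex C = 89181388800 at h1
  intro h
  obtain ⟨k, hk⟩ := h
  rw [hk] at h1
  omega

/-- the centralizer in `Q` of an element -/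
def E (_ : Dat Q C z p q) (x : G) : Subgroup G := Q ⊓ centralizer {x}

theorem mem_E {x y : G} : y ∈ D.E x ↔ y ∈ Q ∧ y * x = x * y := by
  rw [E, mem_inf, mem_centralizer_singleton_iff]

theorem nQ {x : G} (hx : x ∈ D.P) : ∀ y ∈ Q, x * y * x⁻¹ ∈ Q := D.nor x (D.PC hx)

/-- the order of `C_Q(R)` for `R ≤ P` -/
theorem card_R {R : Subgroup G} (hR : R ≤ D.P) :
    Nat.card ↥(Q ⊓ centralizer (R : Set G)) = 2 ∨ Nat.card ↥(Q ⊓ centralizer (R : Set G)) = 32 ∨
      Nat.card ↥(Q ⊓ centralizer (R : Set G)) = 512 :=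
  card_cent_mod D.h512 (D.isPGroup_P.to_le hR) fun x hx => D.nQ (hR hx)

theorem E_eq (x : G) : D.E x = Q ⊓ centralizer ((zpowers x : Subgroup G) : Set G) := by
  rw [E]
  congr 1
  exact (centralizer_zpowers' x).symm
where
  centralizer_zpowers' (x : G) : centralizer ((zpowers x : Subgroup G) : Set G) = centralizer {x} := by
    ext y
    rw [mem_centralizer_iff, mem_centralizer_singleton_iff]
    constructor
    · intro h; exact (h x (mem_zpowers x)).symm
    · rintro h _ ⟨k, rfl⟩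
      exact ((show Commute y x from h).zpow_right k).eq.symm

theorem card_E {x : G} (hx : x ∈ D.P) : Nat.card (D.E x) = 2 ∨ Nat.card (D.E x) = 32 ∨ Nat.card (D.E x) = 512 := by
  rw [D.E_eq]
  exact D.card_R (by rw [zpowers_le]; exact hx)

theorem z_mem {x : G} (hx : x ∈ D.P) : z ∈ D.E x := D.mem_E.2 ⟨D.zQ, (D.zC x (D.PC hx)).symm⟩

/-- a subgroup of order two containing `z` -/
theorem eq_of_two {H : Subgroup G} (h2 : Nat.card H = 2) (hz : z ∈ H) {x : G} (hx : x ∈ H) : x = 1 ∨ x = z := by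
  obtain ⟨y, -, hy⟩ := (Nat.card_eq_two_iff' (1 : H)).1 h2
  by_cases h1 : x = 1
  · exact Or.inl h1
  · right
    have e1 := hy ⟨x, hx⟩ (fun h => h1 (congrArg Subtype.val h))
    have e2 := hy ⟨z, hz⟩ (fun h => D.z1 (congrArg Subtype.val h))
    exact congrArg Subtype.val (e1.trans e2.symm)

theorem card_Ep : Nat.card (D.E p) = 32 := by
  obtain ⟨s, hsQ, hs1, hsz, hsp, -⟩ := D.ex
  obtain ⟨t, htQ, -, -, -, htp⟩ := D.ex'
  have hp : p ∈ D.P := ⟨1, 0, by simp⟩
  rcases D.card_E hp with h | h | h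
  · rcases D.eq_of_two h (D.z_mem hp) (D.mem_E.2 ⟨hsQ, hsp⟩) with h | h
    · exact absurd h hs1
    · exact absurd h hsz
  · exact h
  · exfalso
    have h1 : D.E p = Q := eq_of_le_of_card_ge inf_le_left (by rw [h, D.h512])
    have h2 : t ∈ D.E p := by rw [h1]; exact htQ
    exact htp (D.mem_E.1 h2).2

/-- interchange of `p` and `q` -/
theorem swap : Dat Q C z q p where
  h512 := D.h512
  zz := D.zz
  nor := D.nor
  zC := D.zC
  zQ := D.zQ
  z1 := D.z1
  pC := D.qC
  qC := D.pC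
  p5 := D.q5
  q5 := D.p5
  pq := D.pq.symm
  ex := D.ex'
  ex' := D.ex
  idx := D.idx
  QC := D.QC

theorem card_Eq : Nat.card (D.E q) = 32 := D.swap.card_Ep

/-- `C_Q(⟨p, q⟩) = {1, z}` -/
theorem inter {x : G} (hx : x ∈ Q) (hp : x * p = p * x) (hq : x * q = q * x) : x = 1 ∨ x = z := by
  have hle : ∀ y ∈ Q, y ∈ Q ⊓ centralizer (D.P : Set G) ↔ y * p = p * y ∧ y * q = q * y := by
    intro y hy
    rw [mem_inf, mem_centralizer_iff]
    constructor
    · rintro ⟨-, h⟩
      exact ⟨(h p ⟨1, 0, by simp⟩).symm, (h q ⟨0, 1, by simp⟩).symm⟩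
    · rintro ⟨h1, h2⟩
      refine ⟨hy, ?_⟩
      rintro _ ⟨i, j, rfl⟩
      exact (((show Commute y p from h1).pow_right i).mul_right ((show Commute y q from h2).pow_right j)).eq.symm
  have hsub : Q ⊓ centralizer (D.P : Set G) ≤ D.E p := by
    intro y hy
    exact D.mem_E.2 ⟨hy.1, ((hle y hy.1).1 hy).1⟩
  obtain ⟨s, hsQ, -, -, hsp, hsq⟩ := D.ex
  rcases D.card_R (le_refl D.P) with h | h | h
  · exact D.eq_of_two h ((hle z D.zQ).2 ⟨(D.zC p D.pC).symm, (D.zC q D.qC).symm⟩) ((hle x hx).2 ⟨hp, hq⟩)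
  · exfalso
    have h1 : Q ⊓ centralizer (D.P : Set G) = D.E p := eq_of_le_of_card_ge hsub (by rw [h, D.card_Ep])
    have h2 : s ∈ Q ⊓ centralizer (D.P : Set G) := by rw [h1]; exact D.mem_E.2 ⟨hsQ, hsp⟩
    exact hsq ((hle s hsQ).1 h2).2
  · exfalso
    have h1 := card_le_of_le hsub
    rw [h, D.card_Ep] at h1
    omega

/-- if `y ∈ Q` and `[q, y] ∈ {1, z}` then `q` commutes with `y` -/
theorem comm_of {y : G} (h : q * y * q⁻¹ = y ∨ q * y * q⁻¹ = y * z) : y * q = q * y := by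
  rcases h with h | h
  · exact (mul_inv_eq_iff_eq_mul.1 h).symm
  · have h1 : q * y = y * z * q := mul_inv_eq_iff_eq_mul.1 h
    have hz := D.zC q D.qC
    have h2 : q * q * y = y * (q * q) := by
      calc q * q * y = q * (q * y) := by group
        _ = q * (y * z * q) := by rw [h1]
        _ = q * y * z * q := by simp only [mul_assoc]
        _ = y * z * q * z * q := by rw [h1]
        _ = y * z * (q * z) * q := by simp only [mul_assoc]
        _ = y * (z * z) * q * q := by rw [hz]; simp only [mul_assoc]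
        _ = y * (q * q) := by rw [D.zz, mul_one, mul_assoc]
    have h3 : Commute (q * q) y := h2
    have h4 : (q * q) ^ 3 = q := by
      have : (q * q) ^ 3 = q ^ 5 * q := by rw [← pow_two, ← pow_mul, ← pow_succ]
      rw [this, D.q5, one_mul]
    have h5 := h3.pow_left 3
    rw [h4] at h5
    exact h5.eq.symm

/-- the main step -/
theorem zero_of {i j : ℕ} (h32 : Nat.card (D.E (p ^ i * q ^ j)) = 32) : i % 5 = 0 ∨ j % 5 = 0 := by
  by_contra hcon
  push Not at hcon
  obtain ⟨hi, hj⟩ := hcon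
  set g := p ^ i * q ^ j with hg
  obtain ⟨k, hk⟩ := pow_pow_eq D.p5 hi
  obtain ⟨l, hl⟩ := pow_pow_eq D.q5 hj
  obtain ⟨t, htQ, ht1, htz, htq, htp⟩ := D.ex'
  -- elements commuting with `g` and `p`
  have hgp : ∀ y, y * g = g * y → y * p = p * y → y * q = q * y := by
    intro y h1 h2
    have h3 : Commute y (q ^ j) := by
      have e : q ^ j = (p ^ i)⁻¹ * g := by rw [hg]; group
      rw [e]
      exact (((show Commute y p from h2).pow_right i).inv_right).mul_right (show Commute y g from h1)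
    have h4 := h3.pow_right l
    rw [hl] at h4
    exact h4
  have hgq : ∀ y, y * g = g * y → y * q = q * y → y * p = p * y := by
    intro y h1 h2
    have h3 : Commute y (p ^ i) := by
      have e : p ^ i = g * (q ^ j)⁻¹ := by rw [hg]; group
      rw [e]
      exact (show Commute y g from h1).mul_right (((show Commute y q from h2).pow_right j).inv_right)
    have h4 := h3.pow_right k
    rw [hk] at h4
    exact h4
  have hqp : q * p = p * q := D.pq.symm
  have hqg : q * g = g * q := by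
    have h1 : Commute q g := ((show Commute q p from hqp).pow_right i).mul_right ((Commute.refl q).pow_right j)
    exact h1
  -- `E p ⊓ E g = {1, z}`
  have hint : ∀ y ∈ D.E p ⊓ D.E g, y = 1 ∨ y = z := by
    intro y hy
    obtain ⟨h1, h2⟩ := D.mem_E.1 hy.1
    obtain ⟨-, h3⟩ := D.mem_E.1 hy.2
    exact D.inter h1 h2 (hgp y h3 h2)
  have hcard2 : Nat.card ↥(D.E p ⊓ D.E g) ≤ 2 := by
    classical
    have h1 : ((D.E p ⊓ D.E g : Subgroup G) : Set G) ⊆ ({1, z} : Finset G) := by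
      intro y hy
      rcases hint y hy with h | h
      · simp [h]
      · simp [h]
    have h2 := Set.ncard_le_ncard h1 (Finset.finite_toSet _)
    rw [Set.ncard_coe_finset] at h2
    have h4 : ({1, z} : Finset G).card ≤ 2 := Finset.card_le_two
    exact h2.trans h4
  have hmul := H263.ChermakDelgado.ncard_mul_inf (D.E p) (D.E g)
  rw [D.card_Ep, h32] at hmul
  have hsub : ((D.E p : Set G) * (D.E g : Set G)) ⊆ (Q : Set G) := by
    rintro _ ⟨a, ha, b, hb, rfl⟩
    exact Q.mul_mem (D.mem_E.1 ha).1 (D.mem_E.1 hb).1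
  have hle : ((D.E p : Set G) * (D.E g : Set G)).ncard ≤ 512 := by
    have h1 := Set.ncard_le_ncard hsub (Set.toFinite _)
    have h2 : (Q : Set G).ncard = 512 := by rw [← D.h512]; exact (Nat.card_coe_set_eq _).symm
    omega
  have heq : ((D.E p : Set G) * (D.E g : Set G)) = (Q : Set G) := by
    apply Set.eq_of_subset_of_ncard_le hsub _ (Set.toFinite _)
    have h2 : (Q : Set G).ncard = 512 := by rw [← D.h512]; exact (Nat.card_coe_set_eq _).symm
    rw [h2]
    generalize Nat.card ↥(D.E p ⊓ D.E g) = n at hmul hcard2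
    generalize ((D.E p : Set G) * (D.E g : Set G)).ncard = m at hmul hle
    interval_cases n <;> omega
  obtain ⟨a, ha, b, hb, hab⟩ : t ∈ ((D.E p : Set G) * (D.E g : Set G)) := by rw [heq]; exact htQ
  have hab' : a * b = t := hab
  obtain ⟨haQ, hap⟩ := D.mem_E.1 ha
  obtain ⟨hbQ, hbg⟩ := D.mem_E.1 hb
  -- conjugates
  have hconj : ∀ u v : G, q * v = v * q → u * v = v * u → (q * u * q⁻¹) * v = v * (q * u * q⁻¹) := by
    intro u v h1 h2
    have h3 : q⁻¹ * v = v * q⁻¹ := ((show Commute q v from h1).inv_left).eq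
    calc (q * u * q⁻¹) * v = q * u * (q⁻¹ * v) := by group
      _ = q * (u * v) * q⁻¹ := by rw [h3]; group
      _ = (q * v) * u * q⁻¹ := by rw [h2]; group
      _ = v * (q * u * q⁻¹) := by rw [h1]; group
  have ha' : q * a * q⁻¹ ∈ D.E p := D.mem_E.2 ⟨D.nor q D.qC a haQ, hconj a p hqp hap⟩
  have hb' : q * b * q⁻¹ ∈ D.E g := D.mem_E.2 ⟨D.nor q D.qC b hbQ, hconj b g hqg hbg⟩
  have ht' : (q * a * q⁻¹) * (q * b * q⁻¹) = a * b := by
    have h1 : q * t * q⁻¹ = t := by rw [← htq]; group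
    calc (q * a * q⁻¹) * (q * b * q⁻¹) = q * (a * b) * q⁻¹ := by group
      _ = a * b := by rw [hab', h1]
  have hkey : a⁻¹ * (q * a * q⁻¹) = b * (q * b * q⁻¹)⁻¹ := by
    calc a⁻¹ * (q * a * q⁻¹) = a⁻¹ * ((q * a * q⁻¹) * (q * b * q⁻¹)) * (q * b * q⁻¹)⁻¹ := by group
      _ = b * (q * b * q⁻¹)⁻¹ := by rw [ht']; group
  have hmem : a⁻¹ * (q * a * q⁻¹) ∈ D.E p ⊓ D.E g :=
    ⟨(D.E p).mul_mem ((D.E p).inv_mem ha) ha', by
      rw [hkey]; exact (D.E g).mul_mem hb ((D.E g).inv_mem hb')⟩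
  have haq : a * q = q * a := by
    apply D.comm_of
    rcases hint _ hmem with h | h
    · left; rw [inv_mul_eq_iff_eq_mul] at h; rw [h, mul_one]
    · right; rw [inv_mul_eq_iff_eq_mul] at h; exact h
  have hbq : b * q = q * b := by
    apply D.comm_of
    rcases hint _ hmem with h | h
    · left
      rw [hkey, mul_inv_eq_one] at h
      exact h.symm
    · right
      rw [hkey, mul_inv_eq_iff_eq_mul] at h
      calc q * b * q⁻¹ = z * z * (q * b * q⁻¹) := by rw [D.zz, one_mul]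
        _ = z * (z * (q * b * q⁻¹)) := by rw [mul_assoc]
        _ = z * b := by rw [← h]
        _ = b * z := (D.zC b (D.QC hbQ)).symm
  rcases D.inter haQ hap haq with h1 | h1 <;> rcases D.inter hbQ (hgq b hbg hbq) hbq with h2 | h2 <;>
    rw [h1, h2] at hab'
  · exact ht1 (by rw [← hab', one_mul])
  · exact htz (by rw [← hab', one_mul])
  · exact htz (by rw [← hab', mul_one])
  · exact ht1 (by rw [← hab', D.zz])

/-- **An element of order five with `|C_Q(b)| = 32` is conjugate to a power of `p` or of `q`.** -/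
theorem main {b : G} (hb : orderOf b = 5) (hbC : b ∈ C) (h32 : Nat.card ↥(Q ⊓ centralizer ({b} : Set G)) = 32) :
    ∃ c ∈ C, ∃ i : ℕ, i % 5 ≠ 0 ∧ (c * b * c⁻¹ = p ^ i ∨ c * b * c⁻¹ = q ^ i) := by
  obtain ⟨c, hc, i, j, hij⟩ := exists_mem (p := 5) (by norm_num) D.isPGroup_P D.relIndex hb hbC
  have hb1 : b ≠ 1 := by
    rintro rfl
    rw [orderOf_one] at hb
    omega
  have h1 : Nat.card (D.E (p ^ i * q ^ j)) = 32 := by
    rw [← h32, ← hij]
    symm
    refine Nat.card_congr ⟨fun x => ⟨c * x * c⁻¹, ?_⟩, fun x => ⟨c⁻¹ * x * c, ?_⟩, fun x => Subtype.ext (by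
      show c⁻¹ * (c * x * c⁻¹) * c = x
      group), fun x => Subtype.ext (by
      show c * (c⁻¹ * x * c) * c⁻¹ = x
      group)⟩
    · have hx := mem_centralizer_singleton_iff.1 x.2.2
      refine D.mem_E.2 ⟨D.nor c hc x x.2.1, ?_⟩
      calc c * (x : G) * c⁻¹ * (c * b * c⁻¹) = c * (x * b) * c⁻¹ := by group
        _ = c * b * c⁻¹ * (c * x * c⁻¹) := by rw [hx]; group
    · obtain ⟨hx1, hx2⟩ := D.mem_E.1 x.2
      have h3 := D.nor c⁻¹ (C.inv_mem hc) x hx1
      rw [inv_inv] at h3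
      refine ⟨h3, mem_centralizer_singleton_iff.2 ?_⟩
      calc c⁻¹ * (x : G) * c * b = c⁻¹ * (x * (c * b * c⁻¹)) * c := by group
        _ = b * (c⁻¹ * x * c) := by rw [hx2]; group
  rcases D.zero_of h1 with h | h
  · refine ⟨c, hc, j, ?_, Or.inr ?_⟩
    · intro hj
      apply hb1
      have h2 : c * b * c⁻¹ = 1 := by
        rw [hij, pow_mod D.p5 i, pow_mod D.q5 j, h, hj, pow_zero, pow_zero, one_mul]
      have h3 : b = c⁻¹ * (c * b * c⁻¹) * c := by group
      rw [h3, h2]; group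
    · rw [hij, pow_mod D.p5 i, h, pow_zero, one_mul]
  · refine ⟨c, hc, i, ?_, Or.inl ?_⟩
    · intro hi
      apply hb1
      have h2 : c * b * c⁻¹ = 1 := by
        rw [hij, pow_mod D.p5 i, pow_mod D.q5 j, h, hi, pow_zero, pow_zero, one_mul]
      have h3 : b = c⁻¹ * (c * b * c⁻¹) * c := by group
      rw [h3, h2]; group
    · rw [hij, pow_mod D.q5 j, h, pow_zero, mul_one]

end Dat

end Cfsg.Agent.H812.FiveSyl
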