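import Cfsg.Agent.KFacts.Co1D4.Letters
import Cfsg.Agent.LThreeCo1.Ev
import Cfsg.Agent.PreUniqCo.TrWord
import Cfsg.Agent.CoFive.Ranks
import Cfsg.Agent.CoOneType.ModelFinal
import Cfsg.Agent.KFacts.Co1.InCo1
import Cfsg.Agent.KFacts.Co1.YBig
import Cfsg.Agent.H812.FiveSyl

/-!
# Two commuting elements of order five of `Co₁` in the centralizer of an octad involution (helper812)

`p1 = (v2 d)²` commutes with the letters `s, t, x, y, g h, g f` of `CoOneType.Model`; `p2 = x g h x⁻¹ y g f y⁻¹`.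
Both have no fixed points on `Λ / 2Λ`.
-/

set_option autoImplicit false
set_option maxRecDepth 20000

namespace Cfsg.Agent.H812.CoFiveData

open Cfsg Cfsg.Agent.SporadicA Cfsg.Agent.SporadicStructure.Co0Matrix Cfsg.Agent.CoOneType.CoEval
  Cfsg.Agent.CoOneType
open Cfsg.Agent.LThreeCo1.Ev
open Cfsg.Agent.SporadicA.Co0Mono (signCo0 permCo0 signCo0_add signCo0_smul signCo0_mul_self)
open Cfsg.Agent.SporadicA.Co1Simple (allOne)
open Cfsg.Agent.CoOneType.SignFacts (sup mem_sup notMem_sup wt sup_add_allOne)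
open Cfsg.Agent.CoOneType.GenCrit (c0 m0)
open Cfsg.Agent.CoOneType.MonoWord (cw mono_eq)

/-- diagonal matrix with a given mask -/
def dg (m : ℕ) : List (List ℤ) :=
  (List.range 24).map fun i => (List.range 24).map fun j =>
    if Nat.beq i j then (if m.testBit i then -8 else 8) else 0

theorem ok_q : Ok (dg 3050016) (dg 3050016) := CoFast.ok_of_okZ (by decide +kernel)

/-- The matrices: `0 … 14` as in `CoSide`, `15` a sign change, `20 … 25` the letters of `Co1D4.Letters`. -/
def M : ℕ → List (List ℤ)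
  | 15 => dg 3050016
  | 20 => KFacts.Co1D4.Letters.M 0
  | 21 => KFacts.Co1D4.Letters.M 1
  | 22 => KFacts.Co1D4.Letters.M 2
  | 23 => KFacts.Co1D4.Letters.M 3
  | 24 => KFacts.Co1D4.Letters.M 4
  | 25 => KFacts.Co1D4.Letters.M 5
  | i => StdG24.CoSide.M i

/-- The letters in `Co0`. -/
def e : ℕ → Co0
  | 15 => mk ok_q
  | 20 => KFacts.Co1D4.Letters.e 0
  | 21 => KFacts.Co1D4.Letters.e 1
  | 22 => KFacts.Co1D4.Letters.e 2
  | 23 => KFacts.Co1D4.Letters.e 3
  | 24 => KFacts.Co1D4.Letters.e 4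
  | 25 => KFacts.Co1D4.Letters.e 5
  | i => StdG24.CoSide.e i

theorem hM : ∀ i, Rep (e i) (M i) := by
  intro i
  by_cases h15 : i = 15
  · subst h15; exact rep_mk ok_q
  by_cases h0 : i = 20
  · subst h0; exact KFacts.Co1D4.Letters.hM 0
  by_cases h1 : i = 21
  · subst h1; exact KFacts.Co1D4.Letters.hM 1
  by_cases h2 : i = 22
  · subst h2; exact KFacts.Co1D4.Letters.hM 2
  by_cases h3 : i = 23
  · subst h3; exact KFacts.Co1D4.Letters.hM 3
  by_cases h4 : i = 24
  · subst h4; exact KFacts.Co1D4.Letters.hM 4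
  by_cases h5 : i = 25
  · subst h5; exact KFacts.Co1D4.Letters.hM 5
  have e1 : e i = StdG24.CoSide.e i := by
    unfold e; split <;> first | rfl | (exfalso; omega)
  have e2 : M i = StdG24.CoSide.M i := by
    unfold M; split <;> first | rfl | (exfalso; omega)
  rw [e1, e2]
  exact StdG24.CoSide.hM i

/-- Value of a word in `Co0`. -/
abbrev v0 (l : List ℕ) : Co0 := (l.map e).prod

/-- Value of a word in `Co1`. -/
abbrev val (l : List ℕ) : Spor.Co1 := (l.map fun i => pr (e i)).prod

theorem val_eq (l : List ℕ) : val l = pr (v0 l) := map_prod_pr e l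

theorem val_append (a b : List ℕ) : val (a ++ b) = val a * val b := by
  unfold val; rw [List.map_append, List.prod_append]

/-- equality in `Co1` up to sign, zeros skipped -/
def sameZ (w w' : List ℕ) : Bool :=
  let l := foldZ M w betaL
  let l' := foldZ M w' betaL
  eqL l l' || eqL l (negL l')

theorem same {w w' : List ℕ} (h : sameZ w w' = true) : val w = val w' := by
  apply eq_of_sameB hM
  unfold sameZ at h
  simp only [foldZ_eq] at h
  exact h

theorem ne_one {l : List ℕ} (h : neB M l = true) : val l ≠ 1 := ne_one_of_neB hM h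

def wp1 : List ℕ := [12, 7, 12, 7]
def wp2 : List ℕ := [2, 10, 11, 3, 4, 10, 9, 5]
def w5 (l : List ℕ) : List ℕ := l ++ l ++ l ++ l ++ l

noncomputable def p1 : Spor.Co1 := val wp1
noncomputable def p2 : Spor.Co1 := val wp2

theorem k_five : (eqB M (w5 wp1) [] && eqB M (w5 wp2) []) = true := by decide +kernel

theorem k_tr : PreUniqCo.TrWord.trW M wp1 = -48 ∧ PreUniqCo.TrWord.trW M wp2 = -48 := by decide +kernel

theorem k_comm : (sameZ (wp1 ++ wp2) (wp2 ++ wp1) && (sameZ (15 :: wp2) (wp2 ++ [15]) &&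
    (sameZ (wp2 ++ [0, 1, 0, 1]) ([0, 1, 0, 1] ++ wp2)))) = true := by decide +kernel

theorem k_ne : (neB M ([0] ++ wp2 ++ [0] ++ wp2 ++ wp2 ++ wp2 ++ wp2) &&
    (neB M ([15] ++ wp1 ++ [15] ++ wp1 ++ wp1 ++ wp1 ++ wp1))) = true := by decide +kernel

theorem val_s : val [0] = Model.s := by
  show pr (e 0) * 1 = _
  rw [mul_one]; rfl

theorem val_q2 : val [15] = pr (e 15) := by
  show pr (e 15) * 1 = _
  rw [mul_one]

theorem p1_eq : p1 = (StdG24.CoSide.v2 * Model.d) ^ 2 := by
  rw [pow_two, mul_assoc]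
  show StdG24.CoSide.v2 * (Model.d * (StdG24.CoSide.v2 * (Model.d * 1))) = _
  rw [mul_one]

theorem prod5 {α : Type*} [Monoid α] (f : ℕ → α) (l : List ℕ) : ((w5 l).map f).prod = (l.map f).prod ^ 5 := by
  unfold w5
  rw [List.map_append, List.map_append, List.map_append, List.map_append, List.prod_append, List.prod_append,
    List.prod_append, List.prod_append]
  simp only [pow_succ, pow_zero, one_mul]

theorem lift_five : v0 wp1 ^ 5 = 1 ∧ v0 wp2 ^ 5 = 1 := by
  have h := k_five
  rw [Bool.and_eq_true] at h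
  constructor
  · rw [← prod5, eq_of_eqB hM h.1]; rfl
  · rw [← prod5, eq_of_eqB hM h.2]; rfl

theorem pow_five : p1 ^ 5 = 1 ∧ p2 ^ 5 = 1 := by
  constructor
  · rw [p1, val_eq, ← map_pow, lift_five.1, map_one]
  · rw [p2, val_eq, ← map_pow, lift_five.2, map_one]

theorem s_p2 : Model.s * p2 ≠ p2 * Model.s := by
  intro h
  have h1 := k_ne
  rw [Bool.and_eq_true] at h1
  apply ne_one h1.1
  rw [val_append, val_append, val_append, val_append, val_append, val_append, val_s]
  change Model.s * p2 * Model.s * p2 * p2 * p2 * p2 = 1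
  have h5 := pow_five.2
  have hs := Model.v_s2
  calc Model.s * p2 * Model.s * p2 * p2 * p2 * p2 = p2 * (Model.s * Model.s) * p2 * p2 * p2 * p2 := by
        rw [h]; simp only [mul_assoc]
    _ = p2 ^ 5 := by rw [hs, mul_one]; simp only [pow_succ, pow_zero, one_mul]
    _ = 1 := h5

theorem q_sq : pr (e 15) * pr (e 15) = 1 := by
  have h : sameZ [15, 15] [] = true := by decide +kernel
  have h1 := same h
  show pr (e 15) * pr (e 15) = 1
  have h2 : val [15, 15] = pr (e 15) * (pr (e 15) * 1) := rfl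
  rw [h2, mul_one] at h1
  exact h1

theorem q_p1 : pr (e 15) * p1 ≠ p1 * pr (e 15) := by
  intro h
  have h1 := k_ne
  rw [Bool.and_eq_true] at h1
  apply ne_one h1.2
  rw [val_append, val_append, val_append, val_append, val_append, val_append, val_q2]
  change pr (e 15) * p1 * pr (e 15) * p1 * p1 * p1 * p1 = 1
  have h5 := pow_five.1
  have hs := q_sq
  calc pr (e 15) * p1 * pr (e 15) * p1 * p1 * p1 * p1 = p1 * (pr (e 15) * pr (e 15)) * p1 * p1 * p1 * p1 := by
        rw [h]; simp only [mul_assoc]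
    _ = p1 ^ 5 := by rw [hs, mul_one]; simp only [pow_succ, pow_zero, one_mul]
    _ = 1 := h5

theorem p1_p2 : p1 * p2 = p2 * p1 := by
  have h := k_comm
  rw [Bool.and_eq_true, Bool.and_eq_true] at h
  have h1 := same h.1
  rwa [val_append, val_append] at h1

theorem q_p2 : pr (e 15) * p2 = p2 * pr (e 15) := by
  have h := k_comm
  rw [Bool.and_eq_true, Bool.and_eq_true] at h
  have h1 := same h.2.1
  rw [show (15 :: wp2) = [15] ++ wp2 from rfl, val_append, val_append, val_q2] at h1
  exact h1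

/-- the involution `z = (s t)²` -/
noncomputable abbrev z : Spor.Co1 := ClosingFacts.mk (signCo0 c0)

theorem z_eq : (Model.s * Model.t) ^ 2 = z := Gen.z_eq

theorem val_z : val [0, 1, 0, 1] = z := by
  rw [← z_eq, pow_two, mul_assoc]
  show Model.s * (Model.t * (Model.s * (Model.t * 1))) = _
  rw [mul_one]

theorem z_p2 : p2 * z = z * p2 := by
  have h := k_comm
  rw [Bool.and_eq_true, Bool.and_eq_true] at h
  have h1 := same h.2.2
  rw [val_append, val_append, val_z] at h1
  exact h1

theorem wt_c0 : wt c0 = 8 := ModelFinal.wt_c0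

/-! ### `p1` commutes with the letters of the Hall–Janko group -/

theorem comm_p1 {a : Spor.Co1} (h1 : StdG24.CoSide.v2 * a = a * StdG24.CoSide.v2) (h2 : Model.d * a = a * Model.d) :
    p1 * a = a * p1 := by
  rw [p1_eq]
  exact (((show Commute StdG24.CoSide.v2 a from h1).mul_left (show Commute Model.d a from h2)).pow_left 2).eq

theorem p1_s : p1 * Model.s = Model.s * p1 := comm_p1 StdG24.CoSide.v2_s Model.p957.ds
theorem p1_t : p1 * Model.t = Model.t * p1 := comm_p1 StdG24.CoSide.v2_t Model.p957.dt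
theorem p1_x : p1 * Model.x = Model.x * p1 := comm_p1 StdG24.CoSide.v2_x Model.p957.dx
theorem p1_y : p1 * Model.y = Model.y * p1 := comm_p1 StdG24.CoSide.v2_y Model.p957.dy

theorem p1_q : p1 * (Model.g * Model.h) = (Model.g * Model.h) * p1 :=
  comm_p1 StdG24.CoSide.v2_gh (Model.p957.dg.mul_right Model.p957.dh)

theorem p1_r : p1 * (Model.g * Model.f) = (Model.g * Model.f) * p1 :=
  comm_p1 StdG24.CoSide.v2_gf (Model.p957.dg.mul_right Model.p957.df)

theorem z_p1 : p1 * z = z * p1 := by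
  rw [← z_eq]
  exact (((show Commute p1 Model.s from p1_s).mul_right (show Commute p1 Model.t from p1_t)).pow_right 2).eq

/-! ### membership in the extraspecial group -/

open KFacts.Co1.InCo1 (RCo1)
open KFacts.Co1.RHat (Rh sign_mem_Rh)

theorem code_q : GolayBase.isCode 3050016 = true := by decide +kernel
theorem code_s : GolayBase.isCode 5627071 = true := by decide +kernel

theorem check_q : ∀ p : GolayPt, (fold M [15] betaL).getD (GolayBase.idx p) 0 =
    (if Nat.testBit 3050016 (GolayBase.idx p) then -1 else 1) * (8 * 64 ^ GolayBase.idx p) := by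
  decide +kernel

theorem check_s : ∀ p : GolayPt, (fold M [0] betaL).getD (GolayBase.idx p) 0 =
    (if Nat.testBit 5627071 (GolayBase.idx p) then -1 else 1) * (8 * 64 ^ GolayBase.idx p) := by
  decide +kernel

theorem permCo0_one : permCo0 1 = 1 := map_one _

theorem eq_q : e 15 = signCo0 (cw 3050016 code_q) := by
  have h := mono_eq hM [15] 3050016 code_q 1 id (fun _ => rfl) check_q
  rw [List.map_cons, List.map_nil, List.prod_cons, List.prod_nil, mul_one, permCo0_one, mul_one] at h
  exact h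

theorem eq_s : e 0 = signCo0 (cw 5627071 code_s) := by
  have h := mono_eq hM [0] 5627071 code_s 1 id (fun _ => rfl) check_s
  rw [List.map_cons, List.map_nil, List.prod_cons, List.prod_nil, mul_one, permCo0_one, mul_one] at h
  exact h

theorem mem_sup_cw {m : ℕ} (h : GolayBase.isCode m = true) (i : GolayPt) :
    i ∈ sup (cw m h) ↔ m.testBit (GolayBase.idx i) = true := by
  rw [mem_sup]
  show GolayBase.word m i = 1 ↔ _
  rw [GolayBase.word_apply]
  split_ifs with h1
  · simp [h1]
  · simp [h1]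

theorem disj_q : Disjoint (sup (cw 3050016 code_q)) (sup c0) := by
  rw [Finset.disjoint_left]
  intro i hi h0
  have h1 := (mem_sup_cw code_q i).1 hi
  have h2 := (mem_sup_cw GenCrit.m0_code i).1 h0
  have h : ∀ i : GolayPt, ¬ (Nat.testBit 3050016 (GolayBase.idx i) = true ∧
      Nat.testBit m0 (GolayBase.idx i) = true) := by decide +kernel
  exact h i ⟨h1, h2⟩

theorem disj_s : Disjoint (sup (cw 5627071 code_s + allOne)) (sup c0) := by
  rw [Finset.disjoint_left]
  intro i hi h0
  rw [sup_add_allOne, Finset.mem_compl, mem_sup_cw] at hi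
  have h2 := (mem_sup_cw GenCrit.m0_code i).1 h0
  have h : ∀ i : GolayPt, ¬ (¬ Nat.testBit 5627071 (GolayBase.idx i) = true ∧
      Nat.testBit m0 (GolayBase.idx i) = true) := by decide +kernel
  exact h i ⟨hi, h2⟩

theorem q_mem : pr (e 15) ∈ RCo1 c0 := ⟨_, sign_mem_Rh disj_q, by rw [eq_q]⟩

theorem s_mem : Model.s ∈ RCo1 c0 := by
  refine ⟨_, sign_mem_Rh disj_s, ?_⟩
  have h1 : Model.s = pr (signCo0 (cw 5627071 code_s)) := by rw [← eq_s]; rfl
  rw [h1]
  exact ClosingFacts.mk_add_allOne _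

theorem s_ne_z : Model.s ≠ z := by
  rw [← z_eq]
  intro h
  have h1 : neB M [0, 0, 1, 0, 1] = true := by decide +kernel
  apply ne_one h1
  have h2 : val [0, 0, 1, 0, 1] = Model.s * val [0, 1, 0, 1] := rfl
  rw [h2, val_z, ← z_eq, ← h]
  exact Model.v_s2

theorem q_ne_z : pr (e 15) ≠ z := by
  intro h
  have h1 : neB M [15, 0, 1, 0, 1] = true := by decide +kernel
  apply ne_one h1
  have h2 : val [15, 0, 1, 0, 1] = pr (e 15) * val [0, 1, 0, 1] := rfl
  rw [h2, val_z, ← h]
  exact q_sq

theorem s_ne_one : Model.s ≠ 1 := by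
  intro h
  exact s_p2 (by rw [h, one_mul, mul_one])

theorem q_ne_one : pr (e 15) ≠ 1 := by
  intro h
  exact q_p1 (by rw [h, one_mul, mul_one])

theorem finite_co1 : Finite Spor.Co1 := by
  have : Finite Co0 := CoOneType.FrameFix.finite_co0
  infer_instance

/-- the data of `FiveSyl` -/
theorem dat (hC : Nat.card (Subgroup.centralizer ({z} : Set Spor.Co1)) = 89181388800) :
    FiveSyl.Dat (RCo1 c0) (Subgroup.centralizer ({z} : Set Spor.Co1)) z p1 p2 where
  h512 := KFacts.Co1.YBig.card_R wt_c0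
  zz := (KFacts.Co1.InCo1.large wt_c0).z_sq
  nor := fun c hc x hx =>
    (KFacts.Co1.InCo1.large wt_c0).conj_mem c (Subgroup.mem_centralizer_singleton_iff.1 hc) x hx
  zC := fun c hc => Subgroup.mem_centralizer_singleton_iff.1 hc
  zQ := (KFacts.Co1.InCo1.large wt_c0).z_mem
  z1 := (KFacts.Co1.InCo1.large wt_c0).z_ne
  pC := Subgroup.mem_centralizer_singleton_iff.2 z_p1
  qC := Subgroup.mem_centralizer_singleton_iff.2 z_p2
  p5 := pow_five.1
  q5 := pow_five.2
  pq := p1_p2
  ex := ⟨Model.s, s_mem, s_ne_one, s_ne_z, p1_s.symm, s_p2⟩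
  ex' := ⟨pr (e 15), q_mem, q_ne_one, q_ne_z, q_p2, q_p1⟩
  idx := hC
  QC := fun q hq => Subgroup.mem_centralizer_singleton_iff.2 ((KFacts.Co1.InCo1.large wt_c0).comm_z q hq)

/-! ### the fixed ranks -/

instance fact_five : Fact (Nat.Prime 5) := ⟨by norm_num⟩

theorem lift_ne_one : v0 wp1 ≠ 1 ∧ v0 wp2 ≠ 1 := by
  constructor
  · intro h
    have h1 : p1 = 1 := by rw [p1, val_eq, h]; exact map_one _
    exact q_p1 (by rw [h1, one_mul, mul_one])
  · intro h
    have h1 : p2 = 1 := by rw [p2, val_eq, h]; exact map_one _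
    exact s_p2 (by rw [h1, one_mul, mul_one])

theorem fr_of {g : Co0} (h5 : orderOf g = 5) (htr : Cfsg.Agent.Co2Type.Mono.tr8 g = -48) :
    LThreeMB.fr (QuotientGroup.mk g : Spor.Co1) = 1 := by
  rcases CoFive.Class.main h5 with h | h | h
  · have h1 := CoFive.Dims.tr8_isConj h
    rw [htr, CoFive.Dims.tr8_r8] at h1
    norm_num at h1
  · have h1 := CoFive.Dims.tr8_isConj h
    rw [htr, CoFive.Dims.tr8_r4] at h1
    norm_num at h1
  · rw [CoFive.Ranks.fr_of_isConj (CoFive.Ranks.isConj_mk h), CoFive.Ranks.fr_r0]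

theorem fr_p1 : LThreeMB.fr p1 = 1 := by
  have h : p1 = QuotientGroup.mk (v0 wp1) := val_eq wp1
  rw [h]
  apply fr_of (orderOf_eq_prime lift_five.1 lift_ne_one.1)
  rw [PreUniqCo.TrWord.tr8_word hM]
  exact k_tr.1

theorem fr_p2 : LThreeMB.fr p2 = 1 := by
  have h : p2 = QuotientGroup.mk (v0 wp2) := val_eq wp2
  rw [h]
  apply fr_of (orderOf_eq_prime lift_five.2 lift_ne_one.2)
  rw [PreUniqCo.TrWord.tr8_word hM]
  exact k_tr.2

theorem order_p1 : orderOf p1 = 5 := orderOf_eq_prime pow_five.1 fun h => q_p1 (by rw [h, one_mul, mul_one])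
theorem order_p2 : orderOf p2 = 5 := orderOf_eq_prime pow_five.2 fun h => s_p2 (by rw [h, one_mul, mul_one])

/-- every element of order five of `C(z)` with `|C_Q(b)| = 32` is conjugate to `p1` -/
theorem isConj_p1 (hC : Nat.card (Subgroup.centralizer ({z} : Set Spor.Co1)) = 89181388800) {b : Spor.Co1}
    (hb : orderOf b = 5) (hbz : b * z = z * b)
    (h32 : Nat.card ↥(RCo1 c0 ⊓ Subgroup.centralizer ({b} : Set Spor.Co1)) = 32) : IsConj b p1 := by
  have := finite_co1
  obtain ⟨c, -, i, hi, h⟩ := (dat hC).main hb (Subgroup.mem_centralizer_singleton_iff.2 hbz) h32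
  have h1 : IsConj b (c * b * c⁻¹) := isConj_iff.2 ⟨c, rfl⟩
  apply CoFive.Ranks.isConj_of_fr hb order_p1
  rw [CoFive.Ranks.fr_of_isConj h1, fr_p1]
  rcases h with h | h
  · rw [h, CoFive.Ranks.fr_of_isConj (CoFive.Ranks.isConj_pow_co1 order_p1 hi), fr_p1]
  · rw [h, CoFive.Ranks.fr_of_isConj (CoFive.Ranks.isConj_pow_co1 order_p2 hi), fr_p2]

end Cfsg.Agent.H812.CoFiveData
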