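import Mathlib
import Cfsg.Prelude.Def_Spor_Conway
import Cfsg.Agent.LThreeCo1.Class
import Cfsg.Agent.H792.SpTool

/-!
# `FullP 3` for `Co₀` and `Co₁` (helper812)

* `fullP_co0_three : FullP 3 Co0`;
* `fullP_co1_three : IsoCo1 G → FullP 3 G`.

The Sylow 3-subgroup is `3⁶ : 3^{1+2}`; the subgroup `E = 3⁶` contains the centre and its normaliser is irreducible on `E`
(codes of the vectors, checked by the kernel); the generators `b₁`, `b₁b₂`, `b₃` of the complement are conjugate into `E`.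
-/

set_option autoImplicit false
set_option maxRecDepth 20000

namespace Cfsg.Agent.H812.FullCo1

open Subgroup Cfsg Cfsg.Agent.H749
open Cfsg.Agent.LThreeCo1 Cfsg.Agent.LThreeCo1.Ev Cfsg.Agent.LThreeCo1.AGrp Cfsg.Agent.LThreeCo1.Heis
open Cfsg.Agent.LThreeCo1.SylCls Cfsg.Agent.LThreeCo1.Rel Cfsg.Agent.LThreeCo1.Tab Cfsg.Agent.LThreeCo1.Class

local instance : Fact (Nat.Prime 3) := ⟨Nat.prime_three⟩

/-! ### Codes -/

theorem cj_of_okg {g : ℕ} (hg : okg g = true) : cj g = true := by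
  unfold okg at hg
  simp only [Bool.or_eq_true] at hg
  rcases hg with ((h | h) | h) | h
  · rw [Nat.eq_of_beq_eq_true h]; exact k_7
  · rw [Nat.eq_of_beq_eq_true h]; exact k_8
  · rw [Nat.eq_of_beq_eq_true h]; exact k_10
  · rw [Nat.eq_of_beq_eq_true h]; exact k_11

/-- A set of codes which is invariant under the five maps (both ways) and closed under sums contains all codes or no code `≠ 0`. -/
theorem all_codes {Q : ℕ → Prop} (hg : ∀ g n, okg g = true → (Q (ln (c g) n) ↔ Q n)) (ha : ∀ m n, Q m → Q n → Q (ad m n))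
    {r : ℕ} (hr : r < 729) (hr0 : r ≠ 0) (h : Q r) {n : ℕ} (hn : n < 729) (hn0 : n ≠ 0) : Q n := by
  have g7 : okg 7 = true := by decide
  have g8 : okg 8 = true := by decide
  have g10 : okg 10 = true := by decide
  have g11 : okg 11 = true := by decide
  -- one of the three representatives
  have h1 : Q r → (Q 1 ∨ Q 4 ∨ Q 79) := by
    refine Tab.closure (P := fun n => Q n → (Q 1 ∨ Q 4 ∨ Q 79)) ?_ (fun h => Or.inl h) (fun h => Or.inr (Or.inl h))
      (fun h => Or.inr (Or.inr h)) hr hr0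
    intro g n hgg ih h
    exact ih ((hg g n hgg).1 h)
  have e1 : Q 1 → Q 4 := by
    intro h
    have h576 : Q 576 := by
      have := (hg 8 1 g8).2 h
      rwa [show ln (c 8) 1 = 576 by decide +kernel] at this
    have h577 : Q 577 := by
      have := ha 1 576 h h576
      rwa [show ad 1 576 = 577 by decide +kernel] at this
    rw [show 577 = ln (c 11) 55 by decide +kernel, hg 11 55 g11, show 55 = ln (c 11) 4 by decide +kernel, hg 11 4 g11]
      at h577
    exact h577
  have e2 : Q 4 → Q 1 := by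
    intro h
    have h55 : Q 55 := by
      have := (hg 11 4 g11).2 h
      rwa [show ln (c 11) 4 = 55 by decide +kernel] at this
    have h7 : Q 7 := by
      have := (hg 7 55 g7).2 h55
      rwa [show ln (c 7) 55 = 7 by decide +kernel] at this
    have h2 : Q 2 := by
      have := ha 4 7 h h7
      rwa [show ad 4 7 = 2 by decide +kernel] at this
    rw [show 2 = ln (c 10) 1 by decide +kernel, hg 10 1 g10] at h2
    exact h2
  have e3 : Q 4 → Q 79 := by
    intro h
    have h603 : Q 603 := by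
      have := (hg 8 4 g8).2 h
      rwa [show ln (c 8) 4 = 603 by decide +kernel] at this
    have h150 : Q 150 := by
      have := (hg 7 603 g7).2 h603
      rwa [show ln (c 7) 603 = 150 by decide +kernel] at this
    have h145 : Q 145 := by
      have := ha 4 150 h h150
      rwa [show ad 4 150 = 145 by decide +kernel] at this
    rw [show 145 = ln (c 10) 209 by decide +kernel, hg 10 209 g10, show 209 = ln (c 8) 627 by decide +kernel,
      hg 8 627 g8, show 627 = ln (c 8) 79 by decide +kernel, hg 8 79 g8] at h145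
    exact h145
  have e4 : Q 79 → Q 1 := by
    intro h
    have h627 : Q 627 := by
      have := (hg 8 79 g8).2 h
      rwa [show ln (c 8) 79 = 627 by decide +kernel] at this
    have h108 : Q 108 := by
      have := (hg 7 627 g7).2 h627
      rwa [show ln (c 7) 627 = 108 by decide +kernel] at this
    have h452 : Q 452 := by
      have := (hg 8 108 g8).2 h108
      rwa [show ln (c 8) 108 = 452 by decide +kernel] at this
    have h277 : Q 277 := by
      have := (hg 8 452 g8).2 h452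
      rwa [show ln (c 8) 452 = 277 by decide +kernel] at this
    have h266 : Q 266 := by
      have := ha 79 277 h h277
      rwa [show ad 79 277 = 266 by decide +kernel] at this
    rw [show 266 = ln (c 11) 576 by decide +kernel, hg 11 576 g11, show 576 = ln (c 8) 1 by decide +kernel,
      hg 8 1 g8] at h266
    exact h266
  have hq1 : Q 1 := by
    rcases h1 h with h | h | h
    · exact h
    · exact e2 h
    · exact e4 h
  exact Tab.closure (fun g n hgg h => (hg g n hgg).2 h) hq1 (e1 hq1) (e3 (e1 hq1)) hn hn0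

/-! ### The Sylow subgroup -/

/-- the Sylow 3-subgroup -/
noncomputable def S : Sylow 3 Co0 :=
  IsPGroup.toSylow (P := PP dat) (IsPGroup.of_card (card_PP dat injI)) (by
    intro h
    have h1 := (PP dat).card_mul_index
    rw [card_PP dat injI, Cfsg.Agent.S0397.result] at h1
    obtain ⟨k, hk⟩ := h
    rw [hk] at h1
    omega)

theorem mem_S {x : Co0} : x ∈ (S : Subgroup Co0) ↔ ∃ v y, x = Ph a v * NN (e 7) (e 8) (e 9) y := Iff.rfl

/-- `E = 3⁶` -/
noncomputable def E : Subgroup Co0 where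
  carrier := {x | ∃ v, x = Ph a v}
  one_mem' := ⟨0, (Ph_zero a).symm⟩
  mul_mem' := by
    rintro _ _ ⟨v, rfl⟩ ⟨w, rfl⟩
    exact ⟨v + w, (hA.add v w).symm⟩
  inv_mem' := by
    rintro _ ⟨v, rfl⟩
    exact ⟨-v, (hA.neg v).symm⟩

theorem mem_E {x : Co0} : x ∈ E ↔ ∃ v, x = Ph a v := Iff.rfl

theorem nn_zero : NN (e 7) (e 8) (e 9) (0, 0, 0) = 1 := N_zero _ _ _

theorem E_le : E ≤ (S : Subgroup Co0) := by
  rintro _ ⟨v, rfl⟩
  exact ⟨v, (0, 0, 0), by rw [nn_zero, mul_one]⟩

theorem Z_le : (S : Subgroup Co0) ⊓ centralizer ((S : Subgroup Co0) : Set Co0) ≤ E := by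
  rintro x ⟨hx, hc⟩
  obtain ⟨v, y, rfl⟩ := mem_S.1 hx
  have h0 : y = (0, 0, 0) := by
    apply injI.reg
    intro u
    have h1 : Ph a u * (Ph a v * NN (e 7) (e 8) (e 9) y) = (Ph a v * NN (e 7) (e 8) (e 9) y) * Ph a u :=
      mem_centralizer_iff.1 hc (Ph a u) (E_le ⟨u, rfl⟩)
    rw [nn_zero, one_mul, inv_one, mul_one, mul_inv_eq_iff_eq_mul]
    have h2 : Ph a v * (NN (e 7) (e 8) (e 9) y * Ph a u) = Ph a v * (Ph a u * NN (e 7) (e 8) (e 9) y) := by
      rw [← mul_assoc, ← h1, ← mul_assoc, ← mul_assoc, hA.ph_comm u v]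
    exact mul_left_cancel h2
  subst h0
  exact ⟨v, by rw [nn_zero, mul_one]⟩

theorem norm_E {g : ℕ} (h : cj g = true) : ∀ x ∈ E, e g * x * (e g)⁻¹ ∈ E := by
  rintro _ ⟨v, rfl⟩
  exact ⟨_, cj_spec h v⟩

theorem irr (U : Subgroup Co0) (hU : U ≤ E) (hU1 : U ≠ ⊥)
    (hinv : ∀ g : Co0, (∀ x ∈ E, g * x * g⁻¹ ∈ E) → ∀ x ∈ U, g * x * g⁻¹ ∈ U) : U = E := by
  refine le_antisymm hU ?_
  obtain ⟨⟨d, hd⟩, hd1⟩ := Subgroup.ne_bot_iff_exists_ne_one.1 hU1
  have hd1' : d ≠ 1 := fun h => hd1 (Subtype.ext h)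
  obtain ⟨w, rfl⟩ := hU hd
  obtain ⟨r, hr, rfl⟩ := exists_vc w
  have hr0 : r ≠ 0 := by
    rintro rfl
    rw [vc_zero, Ph_zero] at hd1'
    exact hd1' rfl
  have hall : ∀ n, n < 729 → n ≠ 0 → Ph a (vc n) ∈ U := by
    intro n hn hn0
    refine all_codes (Q := fun n => Ph a (vc n) ∈ U) ?_ ?_ hr hr0 hd hn hn0
    · intro g n hg
      have hcj := cj_of_okg hg
      have h1 := hinv (e g) (norm_E hcj)
      rw [← cj_vc hcj]
      refine ⟨fun h => ?_, fun h => h1 _ h⟩
      -- the inverse is a power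
      have hfin : IsOfFinOrder (e g) := isOfFinOrder_of_finite _
      have hpow : ∀ k : ℕ, ∀ x ∈ U, e g ^ k * x * (e g ^ k)⁻¹ ∈ U := by
        intro k
        induction k with
        | zero => intro x hx; simpa using hx
        | succ k ih =>
          intro x hx
          have h2 := h1 _ (ih x hx)
          have e1 : e g ^ (k + 1) * x * (e g ^ (k + 1))⁻¹ = e g * (e g ^ k * x * (e g ^ k)⁻¹) * (e g)⁻¹ := by
            rw [pow_succ']; group
          rw [e1]; exact h2
      have h3 := hpow (orderOf (e g) - 1) _ h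
      have h4 : e g ^ (orderOf (e g) - 1) = (e g)⁻¹ := by
        apply eq_inv_of_mul_eq_one_left
        rw [← pow_succ, Nat.sub_add_cancel hfin.orderOf_pos, pow_orderOf_eq_one]
      rw [h4] at h3
      have h5 : (e g)⁻¹ * (e g * Ph a (vc n) * (e g)⁻¹) * (e g)⁻¹⁻¹ = Ph a (vc n) := by group
      rwa [h5] at h3
    · intro m n hm hn
      show Ph a (vc (ad m n)) ∈ U
      rw [vc_ad, hA.add]
      exact mul_mem hm hn
  rintro _ ⟨v, rfl⟩
  obtain ⟨n, hn, rfl⟩ := exists_vc v
  by_cases hn0 : n = 0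
  · subst hn0
    rw [vc_zero, Ph_zero]
    exact one_mem _
  · exact hall n hn hn0

theorem fullP_co0_three : FullP 3 Co0 := by
  rintro P hP ⟨x, hx, hx1, hPx⟩ y hy
  have hE : ∀ v, P (Ph a v) := fun v =>
    H792.SpTool.le_of_irreducible hP S E_le Z_le irr hx hx1 hPx ⟨v, rfl⟩
  have hconj : ∀ {g h : Co0}, IsConj g h → P h → P g := by
    intro g h hgh hh
    obtain ⟨x, rfl⟩ := isConj_iff.1 hgh
    exact hP.of_conj hh
  have hv0 : ∀ z : Co0, Ph a (vc 0) * z = z := fun z => by rw [vc_zero, Ph_zero, one_mul]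
  have h7 : P (e 7) := by
    have := hconj (kpos k_12 w7 w4) (hE _)
    rwa [hv0] at this
  have h78 : P (e 7 * e 8) := by
    have := hconj (kpos k_17 w78 w4) (hE _)
    rwa [hv0] at this
  have h9 : P (e 9) := by
    have := hconj (kpos k_22 w9 w4) (hE _)
    rwa [hv0] at this
  have m7 : e 7 ∈ (S : Subgroup Co0) := ⟨0, (1, 0, 0), by
    rw [Ph_zero, one_mul, NN, N]; simp [show (1 : ZMod 3).val = 1 from rfl]⟩
  have m8 : e 8 ∈ (S : Subgroup Co0) := ⟨0, (0, 1, 0), by
    rw [Ph_zero, one_mul, NN, N]; simp [show (1 : ZMod 3).val = 1 from rfl]⟩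
  have m9 : e 9 ∈ (S : Subgroup Co0) := ⟨0, (0, 0, 1), by
    rw [Ph_zero, one_mul, NN, N]; simp [show (1 : ZMod 3).val = 1 from rfl]⟩
  have h8 : P (e 8) := by
    have := hP.mul S.2 (inv_mem m7) (mul_mem m7 m8) (hP.inv h7) h78
    rwa [inv_mul_cancel_left] at this
  have hp : ∀ {z : Co0}, z ∈ (S : Subgroup Co0) → P z → ∀ n : ℕ, P (z ^ n) := fun hz h n =>
    hP.pow (PEl.of_isPGroup S.2 hz) h n
  refine H792.SpTool.all_of_sylow hP S (fun z hz => ?_) hy
  obtain ⟨v, t, rfl⟩ := mem_S.1 hz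
  refine hP.mul S.2 (E_le ⟨v, rfl⟩) ?_ (hE v) ?_
  · exact mul_mem (mul_mem (pow_mem m7 _) (pow_mem m8 _)) (pow_mem m9 _)
  · exact hP.mul S.2 (mul_mem (pow_mem m7 _) (pow_mem m8 _)) (pow_mem m9 _)
      (hP.mul S.2 (pow_mem m7 _) (pow_mem m8 _) (hp m7 h7 _) (hp m8 h8 _)) (hp m9 h9 _)

theorem fullP_co1_three {G : Type*} [Group G] [Finite G] (h : Cfsg.Spor.IsoCo1 G) : Cfsg.Agent.H749.FullP 3 G := by
  obtain ⟨f⟩ := h
  have hf : Function.Surjective ((f.symm : Spor.Co1 →* G).comp (QuotientGroup.mk' (Subgroup.center Co0))) := by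
    intro x
    obtain ⟨y, hy⟩ := QuotientGroup.mk'_surjective (Subgroup.center Co0) (f x)
    refine ⟨y, ?_⟩
    show f.symm (QuotientGroup.mk' _ y) = x
    rw [hy, f.symm_apply_apply]
  refine H792.SpTool.fullP_of_hom ((f.symm : Spor.Co1 →* G).comp (QuotientGroup.mk' (Subgroup.center Co0))) ?_
    fullP_co0_three
  rw [MonoidHom.range_eq_top.2 hf, Subgroup.index_top]
  norm_num

end Cfsg.Agent.H812.FullCo1
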