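import Cfsg.Agent.CTwoTab.Suz
import Cfsg.Agent.CpAut.SmallP.PslFour
import Cfsg.Agent.J2Type.CentQuot
import Cfsg.Agent.H812.PslSeven

/-!
# Elements of order 5 and 7 of `C(e)` in the Suzuki group (helper812)

`C(e) = (V × L)⟨xe⟩`, `L ≅ L₃(4)`. For `x ∈ C(e)` of order 5 or 7: `x ∈ L` and `C(e) ∩ C(x) = V × ⟨x⟩`.
-/

set_option autoImplicit false
set_option maxRecDepth 100000
set_option exponentiation.threshold 4000

namespace Cfsg.Agent.H812.SuzLoc

open Subgroup Cfsg Cfsg.Spor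
open Cfsg.Agent.Lib.PermNet Cfsg.Agent.SporadicRecognition.SuzPhi
open Cfsg.Agent.SporadicRecognition.SuzOrder Cfsg.Agent.SuzThree.Basic Cfsg.Agent.SuzThree.CentA
  Cfsg.Agent.KFacts.SuzLFour Cfsg.Agent.KFacts.SuzTwoB

/-- a word of order 7 -/
def w7 : List Suz.Gen := [.c, .g, .b, .f]
/-- a word of order 5 -/
def w5 : List Suz.Gen := [.b, .f, .g]
/-- words of elements of `L` -/
def l7 : List Suz.Gen := [.a, .g, .b, .a, .b, .a, .g]
def l5 : List Suz.Gen := [.a, .b, .c, .f, .b, .g, .f, .b, .c]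

noncomputable def x7 : Suz := el w7
noncomputable def x5 : Suz := el w5
noncomputable def y7 : Suz := el l7 * xe
noncomputable def y5 : Suz := el l5 * xe

theorem x7_mem : x7 ∈ L := word_mem_L (by decide)
theorem x5_mem : x5 ∈ L := word_mem_L (by decide)
theorem l7_mem : el l7 ∈ L := word_mem_L (by decide)
theorem l5_mem : el l5 ∈ L := word_mem_L (by decide)

theorem xe_notin' {l : Suz} (hl : l ∈ L) : l * xe ∉ VL := by
  intro h
  apply xe_notin
  have h1 := VL.mul_mem (L_le (L.inv_mem hl)) h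
  rwa [inv_mul_cancel_left] at h1

theorem y7_mem : y7 ∈ CE := CE.mul_mem (VL_le (L_le l7_mem)) xe_mem
theorem y5_mem : y5 ∈ CE := CE.mul_mem (VL_le (L_le l5_mem)) xe_mem
theorem y7_notin : y7 ∉ VL := xe_notin' l7_mem
theorem y5_notin : y5 ∉ VL := xe_notin' l5_mem

theorem y7_conj : y7 * x7 * y7⁻¹ = x7⁻¹ := by
  have h : el (l7 ++ xw ++ w7) = el (w7.reverse ++ (l7 ++ xw)) := eq_of (by decide +kernel)
  rw [el_append, el_append, el_append, el_append, el_reverse] at h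
  change y7 * x7 = x7⁻¹ * y7 at h
  rw [h, mul_inv_cancel_right]

theorem y5_conj : y5 * x5 * y5⁻¹ = x5 ^ 2 := by
  have h : el (l5 ++ xw ++ w5) = el (w5 ++ w5 ++ (l5 ++ xw)) := eq_of (by decide +kernel)
  rw [el_append, el_append, el_append, el_append, el_append] at h
  change y5 * x5 = x5 * x5 * y5 at h
  rw [h, mul_inv_cancel_right, pow_two]

theorem x7_pow : x7 ^ 7 = 1 := by
  have h : el (w7 ++ w7 ++ w7 ++ w7 ++ w7 ++ w7 ++ w7) = el [] := eq_of (by decide +kernel)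
  rw [el_nil] at h
  repeat rw [el_append] at h
  rw [← h]
  show x7 ^ 7 = x7 * x7 * x7 * x7 * x7 * x7 * x7
  simp only [pow_succ, pow_zero, one_mul]

theorem x5_pow : x5 ^ 5 = 1 := by
  have h : el (w5 ++ w5 ++ w5 ++ w5 ++ w5) = el [] := eq_of (by decide +kernel)
  rw [el_nil] at h
  repeat rw [el_append] at h
  rw [← h]
  show x5 ^ 5 = x5 * x5 * x5 * x5 * x5
  simp only [pow_succ, pow_zero, one_mul]

theorem x7_ne : x7 ≠ 1 := ne_one_of 1 (by decide +kernel)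
theorem x5_ne : x5 ≠ 1 := ne_one_of 1 (by decide +kernel)

theorem order_x7 : orderOf x7 = 7 := by
  have : Fact (Nat.Prime 7) := ⟨by norm_num⟩
  exact orderOf_eq_prime x7_pow x7_ne

theorem order_x5 : orderOf x5 = 5 := by
  have : Fact (Nat.Prime 5) := ⟨by norm_num⟩
  exact orderOf_eq_prime x5_pow x5_ne

theorem sq_V {v : Suz} (hv : v ∈ V) : v * v = 1 := by
  have h := CTwoTab.Suz.sq_V hv
  rwa [pow_one, pow_two] at h

theorem mem_or {c : Suz} (hc : c ∈ CE) {d : Suz} (hd : d ∈ CE) (hcn : c ∉ VL) (hdn : d ∉ VL) : c * d ∈ VL := by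
  have h3 := (mul_mem_iff_of_index_two idx.1 (a := (⟨c, hc⟩ : ↥CE)) (b := ⟨d, hd⟩)).2
    ⟨fun h => absurd (mem_subgroupOf.1 h) hcn, fun h => absurd (mem_subgroupOf.1 h) hdn⟩
  exact mem_subgroupOf.1 h3

/-- elements of odd order of `C(e)` are in `L` -/
theorem mem_L_of_odd {x : Suz} (hx : x ∈ CE) {n : ℕ} (hn : Odd n) (hxn : x ^ n = 1) : x ∈ L := by
  obtain ⟨m, rfl⟩ := hn
  have hsq : ∀ k : ℕ, (x * x) ^ k ∈ VL := by
    intro k
    refine VL.pow_mem ?_ k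
    by_cases h : x ∈ VL
    · exact VL.mul_mem h h
    · exact mem_or hx hx h h
  have h1 : x = ((x * x) ^ m)⁻¹ := by
    rw [eq_inv_iff_mul_eq_one, ← pow_two, ← pow_mul, ← pow_succ']
    exact hxn
  have h2 : x ∈ VL := by rw [h1]; exact VL.inv_mem (hsq m)
  obtain ⟨v, hv, l, hl, hvl⟩ := mem_VL.1 h2
  have hc : Commute v l := V_comm v hv l hl
  have h3 : v ^ (2 * m + 1) * l ^ (2 * m + 1) = 1 := by
    rw [← hc.mul_pow, hvl, hxn]
  have h4 : v ^ (2 * m + 1) = v := by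
    rw [pow_succ, pow_mul, pow_two, sq_V hv, one_pow, one_mul]
  rw [h4] at h3
  have h5 : v ∈ L := by
    have : v = (l ^ (2 * m + 1))⁻¹ := eq_inv_of_mul_eq_one_left h3
    rw [this]
    exact L.inv_mem (L.pow_mem hl _)
  have h6 := V_cap_L hv h5
  rw [← hvl, h6, one_mul]
  exact hl

/-- the centralizer in `L` of an element of order 5 or 7 -/
theorem cent_L_of {x : Suz} (hxL : x ∈ L) (hx : orderOf x = 7 ∨ orderOf x = 5) {c : Suz} (hc : c ∈ L)
    (hcx : c * x = x * c) : ∃ i : ℤ, c = x ^ i := by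
  let e := CTwoTab.SuzPlane.equiv
  have h1 : e ⟨c, hc⟩ * e ⟨x, hxL⟩ = e ⟨x, hxL⟩ * e ⟨c, hc⟩ := by
    rw [← map_mul, ← map_mul]
    congr 1
    exact Subtype.ext hcx
  have ho : orderOf (e ⟨x, hxL⟩) = orderOf x := by
    rw [MulEquiv.orderOf_eq, ← Subgroup.orderOf_coe]
  have h2 : ∃ i : ℤ, e ⟨c, hc⟩ = (e ⟨x, hxL⟩) ^ i := by
    rcases hx with hx | hx
    · exact CpAut.SmallP.PslFour.cent7 (by rw [ho, hx]) _ h1
    · exact CpAut.SmallP.PslFour.cent5 (by rw [ho, hx]) _ h1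
  obtain ⟨i, hi⟩ := h2
  refine ⟨i, ?_⟩
  rw [← map_zpow] at hi
  exact congrArg Subtype.val (e.injective hi)

/-- the centralizer in `VL` -/
theorem cent_VL_of {x : Suz} (hxL : x ∈ L) (hx : orderOf x = 7 ∨ orderOf x = 5) {c : Suz} (hc : c ∈ VL)
    (hcx : c * x = x * c) : ∃ v ∈ V, ∃ i : ℤ, c = v * x ^ i := by
  obtain ⟨v, hv, l, hl, rfl⟩ := mem_VL.1 hc
  have hvx : v * x = x * v := V_comm v hv x hxL
  have h1 : l * x = x * l := by
    have h2 : v * (l * x) = v * (x * l) := by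
      calc v * (l * x) = v * l * x := by group
        _ = x * (v * l) := hcx
        _ = (x * v) * l := by group
        _ = v * (x * l) := by rw [← hvx]; group
    exact mul_left_cancel h2
  obtain ⟨i, hi⟩ := cent_L_of hxL hx hl h1
  exact ⟨v, hv, i, by rw [hi]⟩

theorem conj_of_VL {c : Suz} (hc : c ∈ VL) {x : Suz} (hxL : x ∈ L) : ∃ l ∈ L, c * x * c⁻¹ = l * x * l⁻¹ := by
  obtain ⟨v, hv, l, hl, rfl⟩ := mem_VL.1 hc
  refine ⟨l, hl, ?_⟩
  have h1 : v * (l * x * l⁻¹) = l * x * l⁻¹ * v := V_comm v hv _ (L.mul_mem (L.mul_mem hl hxL) (L.inv_mem hl))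
  calc v * l * x * (v * l)⁻¹ = v * (l * x * l⁻¹) * v⁻¹ := by group
    _ = l * x * l⁻¹ := by rw [h1]; group

theorem finL : Finite ↥L := Nat.finite_of_card_ne_zero (by rw [card_L]; norm_num)

/-- an element of order 7 of `L` is not inverted in `L` -/
theorem not_inv7 {x : Suz} (hxL : x ∈ L) (hx : orderOf x = 7) {l : Suz} (hl : l ∈ L) : l * x * l⁻¹ ≠ x⁻¹ := by
  intro h
  let e := CTwoTab.SuzPlane.equiv
  have ho : orderOf (e ⟨x, hxL⟩) = 7 := by
    rw [MulEquiv.orderOf_eq, ← Subgroup.orderOf_coe]; exact hx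
  apply PslSeven.not_inv ho (e ⟨l, hl⟩)
  rw [← map_mul, ← map_inv, ← map_mul, ← map_pow]
  congr 1
  apply Subtype.ext
  show l * x * l⁻¹ = x ^ 6
  have h7 : x ^ 7 = 1 := by rw [← hx]; exact pow_orderOf_eq_one x
  rw [h, inv_eq_iff_mul_eq_one, ← pow_succ']
  exact h7

/-- an element of order 5 of `L` is not conjugate to its square in `L` -/
theorem not_sq5 {x : Suz} (hxL : x ∈ L) (hx : orderOf x = 5) {l : Suz} (hl : l ∈ L) : l * x * l⁻¹ ≠ x ^ 2 := by
  intro h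
  let e := CTwoTab.SuzPlane.equiv
  have ho : orderOf (e ⟨x, hxL⟩) = 5 := by
    rw [MulEquiv.orderOf_eq, ← Subgroup.orderOf_coe]; exact hx
  apply CpAut.SmallP.PslFour.not_sq ho (e ⟨l, hl⟩)
  rw [← map_mul, ← map_inv, ← map_mul, ← map_pow]
  congr 1
  exact Subtype.ext h

/-- elements of order `p` of `L` are conjugate to powers of a given one if `p² ∤ |L|` -/
theorem conj_pow_L {x y : Suz} (hxL : x ∈ L) (hyL : y ∈ L) {p : ℕ} (hp : p.Prime) (hpL : ¬ p ^ 2 ∣ 20160)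
    (hx : orderOf x = p) (hy : orderOf y = p) : ∃ l ∈ L, ∃ k : ℕ, l * x * l⁻¹ = y ^ k := by
  have := finL
  obtain ⟨g, k, h⟩ := CpAut.SmallP.Singer.exists_conj_pow (G := ↥L) hp (by rw [card_L]; exact hpL)
    (x := ⟨x, hxL⟩) (y := ⟨y, hyL⟩) (by rw [← Subgroup.orderOf_coe]; exact hx)
    (by rw [← Subgroup.orderOf_coe]; exact hy)
  exact ⟨g, g.2, k, congrArg Subtype.val h⟩

theorem exists_pow_pow {G : Type*} [Group G] {y : G} {p k : ℕ} (hp : p.Prime) (hy : orderOf y = p) (h : y ^ k ≠ 1) :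
    ∃ l : ℕ, (y ^ k) ^ l = y := by
  have hk : ¬ p ∣ k := by
    rintro ⟨m, rfl⟩
    apply h
    rw [pow_mul, ← hy, pow_orderOf_eq_one, one_pow]
  have hco : Nat.Coprime (orderOf y) k := by
    rw [hy]; exact (Nat.Prime.coprime_iff_not_dvd hp).2 hk
  obtain ⟨m, hm⟩ := exists_pow_eq_self_of_coprime hco.symm
  exact ⟨m, hm⟩

/-- an element of `C(e)` outside `VL` acts on `⟨x⟩` as the element `y` does on `⟨x0⟩` -/
theorem exists_out {x y x' : Suz} (hxL : x ∈ L) (hx'L : x' ∈ L) {p n : ℕ} (hp : p.Prime) (hpL : ¬ p ^ 2 ∣ 20160)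
    (hx : orderOf x = p) (hx' : orderOf x' = p) (hy : y ∈ CE) (hyn : y ∉ VL) (h : y * x' * y⁻¹ = x' ^ n) :
    ∃ g ∈ CE, g ∉ VL ∧ g * x * g⁻¹ = x ^ n := by
  obtain ⟨l, hl, k, hk⟩ := conj_pow_L hxL hx'L hp hpL hx hx'
  have hlC : l ∈ CE := VL_le (L_le hl)
  refine ⟨l⁻¹ * y * l, CE.mul_mem (CE.mul_mem (CE.inv_mem hlC) hy) hlC, ?_, ?_⟩
  · intro hcon
    apply hyn
    have h1 := VL.mul_mem (VL.mul_mem (L_le hl) hcon) (VL.inv_mem (L_le hl))
    convert h1 using 1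
    group
  · have h1 : y * (l * x * l⁻¹) * y⁻¹ = (l * x * l⁻¹) ^ n := by
      rw [hk, ← conj_pow, h, ← pow_mul, ← pow_mul, mul_comm]
    rw [conj_pow] at h1
    calc l⁻¹ * y * l * x * (l⁻¹ * y * l)⁻¹ = l⁻¹ * (y * (l * x * l⁻¹) * y⁻¹) * l := by group
      _ = x ^ n := by rw [h1]; group

/-- nothing outside `VL` commutes with an element of order 7 or 5 of `L` -/
theorem mem_VL_of_comm {x : Suz} (hxL : x ∈ L) (hx : orderOf x = 7 ∨ orderOf x = 5) {c : Suz} (hc : c ∈ CE)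
    (hcx : c * x = x * c) : c ∈ VL := by
  by_contra hcn
  have key : ∀ n : ℕ, (∃ g ∈ CE, g ∉ VL ∧ g * x * g⁻¹ = x ^ n) → ∃ l ∈ L, l * x * l⁻¹ = x ^ n := by
    rintro n ⟨g, hg, hgn, h⟩
    have h1 : g * c ∈ VL := mem_or hg hc hgn hcn
    obtain ⟨l, hl, h2⟩ := conj_of_VL h1 hxL
    refine ⟨l, hl, ?_⟩
    rw [← h2, ← h]
    calc g * c * x * (g * c)⁻¹ = g * (c * x) * c⁻¹ * g⁻¹ := by group
      _ = g * x * g⁻¹ := by rw [hcx]; group
  rcases hx with hx | hx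
  · obtain ⟨l, hl, h⟩ := key 6 (exists_out hxL x7_mem (by norm_num) (by norm_num) hx order_x7 y7_mem y7_notin
      (by rw [y7_conj, inv_eq_iff_mul_eq_one, ← pow_succ', x7_pow]))
    apply not_inv7 hxL hx hl
    have h7 : x ^ 7 = 1 := by rw [← hx]; exact pow_orderOf_eq_one x
    rw [h, eq_inv_iff_mul_eq_one, ← pow_succ]
    exact h7
  · obtain ⟨l, hl, h⟩ := key 2 (exists_out hxL x5_mem (by norm_num) (by norm_num) hx order_x5 y5_mem y5_notin
      y5_conj)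
    exact not_sq5 hxL hx hl h

/-- **`C(e) ∩ C(x) = V × ⟨x⟩`** for `x ∈ C(e)` of order 7 or 5. -/
theorem cent_CE {x : Suz} (hxL : x ∈ L) (hx : orderOf x = 7 ∨ orderOf x = 5) {c : Suz} (hc : c * e0 = e0 * c)
    (hcx : c * x = x * c) : ∃ v ∈ V, ∃ i : ℤ, c = v * x ^ i :=
  cent_VL_of hxL hx (mem_VL_of_comm hxL hx (mem_CE.2 hc) hcx) hcx

/-- the same for the other involutions of `V` -/
theorem cent_V {x : Suz} (hxL : x ∈ L) (hx : orderOf x = 7 ∨ orderOf x = 5) {u : Suz} (hu : u ∈ V) (hu1 : u ≠ 1)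
    {c : Suz} (hc : c * u = u * c) (hcx : c * x = x * c) : ∃ v ∈ V, ∃ i : ℤ, c = v * x ^ i := by
  -- `x0` permutes the involutions of `V` and commutes with `x`
  have hx0 : x0 * x = x * x0 := x0_comm x hxL
  have hx03 : x0 * x0 * x0 = 1 := x0_cube
  have hV0 : ∀ v ∈ V, x0 * v * x0⁻¹ ∈ V := by
    intro v hv
    rcases mem_V.1 hv with rfl | rfl | rfl | rfl
    · exact mem_V.2 (Or.inl (by group))
    · exact mem_V.2 (Or.inr (Or.inr (Or.inl rfl)))
    · refine mem_V.2 (Or.inr (Or.inr (Or.inr ?_)))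
      rw [e2_eq]
      show x0 * (x0 * e0 * x0⁻¹) * x0⁻¹ = _
      group
    · refine mem_V.2 (Or.inr (Or.inl ?_))
      show x0 * (x0⁻¹ * e0 * x0) * x0⁻¹ = e0
      group
  have hV0' : ∀ v ∈ V, x0⁻¹ * v * x0 ∈ V := by
    intro v hv
    have h1 := hV0 _ (hV0 v hv)
    rw [x0_inv] at h1
    rw [x0_inv]
    have h2 : x0 * x0 * v * x0 = x0 * (x0 * v * (x0 * x0)) * (x0 * x0) := by
      calc x0 * x0 * v * x0 = x0 * x0 * v * x0 * (x0 * x0 * x0) := by rw [hx03, mul_one]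
        _ = x0 * (x0 * v * (x0 * x0)) * (x0 * x0) := by group
    rw [h2]
    exact h1
  have step : ∀ g : Suz, g * x = x * g → (∀ v ∈ V, g⁻¹ * v * g ∈ V) → g * u * g⁻¹ = e0 →
      ∃ v ∈ V, ∃ i : ℤ, c = v * x ^ i := by
    intro g hgx hgV hgu
    have h1 : (g * c * g⁻¹) * e0 = e0 * (g * c * g⁻¹) := by
      rw [← hgu]
      calc g * c * g⁻¹ * (g * u * g⁻¹) = g * (c * u) * g⁻¹ := by group
        _ = g * u * g⁻¹ * (g * c * g⁻¹) := by rw [hc]; group
    have h2 : (g * c * g⁻¹) * x = x * (g * c * g⁻¹) := by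
      have h3 : Commute g x := hgx
      have h4 : Commute c x := hcx
      exact ((h3.mul_left h4).mul_left h3.inv_left).eq
    obtain ⟨v, hv, i, hi⟩ := cent_CE hxL hx h1 h2
    refine ⟨g⁻¹ * v * g, hgV v hv, i, ?_⟩
    have h3 : Commute g (x ^ i) := (show Commute g x from hgx).zpow_right i
    calc c = g⁻¹ * (g * c * g⁻¹) * g := by group
      _ = g⁻¹ * v * (x ^ i * g) := by rw [hi]; group
      _ = g⁻¹ * v * g * x ^ i := by rw [← h3.eq]; group
  rcases mem_V.1 hu with rfl | rfl | rfl | rfl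
  · exact absurd rfl hu1
  · exact cent_CE hxL hx hc hcx
  · refine step x0⁻¹ ?_ ?_ ?_
    · have h3 : Commute x0 x := hx0
      exact h3.inv_left.eq
    · intro v hv
      rw [inv_inv]; exact hV0 v hv
    · show x0⁻¹ * (x0 * e0 * x0⁻¹) * x0⁻¹⁻¹ = e0
      group
  · refine step x0 hx0 hV0' ?_
    show x0 * (x0⁻¹ * e0 * x0) * x0⁻¹ = e0
    group

/-- the order of the centralizer of an element of order 7 or 5 of `L` -/
theorem card_cases {x : Suz} (hxL : x ∈ L) {p : ℕ} (hp : p = 7 ∨ p = 5) (hx : orderOf x = p) :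
    Nat.card (centralizer ({x} : Set Suz)) = 4 * p ∨ Nat.card (centralizer ({x} : Set Suz)) = 12 * p ∨
      Nat.card (centralizer ({x} : Set Suz)) = 60 * p := by
  have := CTwoTab.Suz.finSuz
  have hx' : orderOf x = 7 ∨ orderOf x = 5 := by rw [hx]; exact hp
  refine J2Type.CentQuot.card_centralizer_cases (V := V) ?_ hx card_V (fun v hv => sq_V hv)
    (fun v hv => V_comm v hv x hxL) (fun v hv hv1 c hc hcx => cent_V hxL hx' hv hv1 hc hcx)
  rcases hp with rfl | rfl <;> decide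

end Cfsg.Agent.H812.SuzLoc
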