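import Mathlib
import Cfsg.Agent.H812.CentThree
import Cfsg.Agent.CpAutLy.Row
import Cfsg.Agent.H526.SpMcL

/-!
# `FullP 3` for `Ly` (helper812)

An element `x₀` of order three has `C(x₀) = 3.McL` of index `19212250 ≡ 1 (mod 3)`.
-/

set_option autoImplicit false

namespace Cfsg.Agent.H812.FullLy

open Subgroup Cfsg Cfsg.Agent.H749
open Cfsg.Agent.CpAutLy.Base Cfsg.Agent.CpAutLy.Types Cfsg.Agent.CpAutLy.Row

theorem fullP_ly : FullP 3 Spor.Ly := by
  have hfin : Finite Cfsg.Spor.Ly := Cfsg.Agent.Ly.Setup.finite_ly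
  obtain ⟨x₀, h₀⟩ := exists_three
  obtain ⟨L⟩ := TypeM.FactsLy.exists_mt_ly
  obtain ⟨s, hs, hsx, hsn⟩ := exists_base_nn h₀
  have hmcl := H526.SpMcL.fullP_mcl_three h₀.quot
  -- inversion
  have hinv : ∃ w : Spor.Ly, w * x₀ * w⁻¹ = x₀⁻¹ := by
    refine exists_conj_of_nn L h₀.ord hs hsx hsn (by rw [orderOf_inv, h₀.ord]) hs ?_ ?_
    · exact (show Commute s x₀ from hsx).inv_right.eq
    · rw [← hsn]
      have e : centralizer ({x₀⁻¹} : Set Spor.Ly) = centralizer ({x₀} : Set Spor.Ly) := by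
        ext g
        rw [mem_centralizer_singleton_iff, mem_centralizer_singleton_iff]
        exact ⟨fun h => by simpa using (show Commute g x₀⁻¹ from h).inv_right.eq,
          fun h => (show Commute g x₀ from h).inv_right.eq⟩
      unfold nn
      rw [e]
  -- the centre
  have hk : ∀ c : centralizer ({x₀} : Set Spor.Ly), QuotientGroup.mk' (center (centralizer ({x₀} : Set Spor.Ly))) c = 1 ↔
      (c : Spor.Ly) ∈ zpowers x₀ := by
    intro c
    rw [QuotientGroup.mk'_apply, QuotientGroup.eq_one_iff]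
    constructor
    · intro h
      obtain ⟨i, hi⟩ := center_le h₀ h
      exact ⟨i, hi.symm⟩
    · intro h
      obtain ⟨i, hi⟩ := mem_zpowers_iff.1 h
      rw [mem_center_iff]
      intro g
      apply Subtype.ext
      show (g : Spor.Ly) * (c : Spor.Ly) = (c : Spor.Ly) * (g : Spor.Ly)
      rw [← hi]
      exact ((show Commute (g : Spor.Ly) x₀ from mem_centralizer_singleton_iff.1 g.2).zpow_right i).eq
  -- the index
  have hidx : (centralizer ({x₀} : Set Spor.Ly)).index = 19212250 := by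
    have h1 := (center (centralizer ({x₀} : Set Spor.Ly))).card_mul_index
    obtain ⟨-, -, hcard, -⟩ := TypeM.FactsMcL.facts h₀.quot
    rw [h₀.zcard, Subgroup.index, hcard] at h1
    have h2 := (centralizer ({x₀} : Set Spor.Ly)).card_mul_index
    rw [← h1, Cfsg.Agent.Ly.Setup.card_ly] at h2
    omega
  refine CentThree.fullP_of_cent_three h₀.ord hinv (by rw [hidx]) _ (QuotientGroup.mk'_surjective _) hk ?_ hmcl
  intro c _
  rw [h₀.perfect]
  exact mem_top _

/-- **`Ly`, `p = 3`.** -/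
theorem fullP_ly_three {G : Type*} [Group G] [Finite G] (h : Cfsg.Spor.IsoLy G) : Cfsg.Agent.H749.FullP 3 G := by
  obtain ⟨e⟩ := h
  exact FullP.of_mulEquiv e.symm fullP_ly

end Cfsg.Agent.H812.FullLy
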