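import Cfsg.Agent.H812.CoFiveA
import Cfsg.Agent.H812.LayerSimple
import Cfsg.Agent.H812.Transport
import Cfsg.Agent.LargeExtra.Cards
import Cfsg.Agent.Lib.Cores

/-!
# Subgroups of order five of `C(z)` in groups of type `Co₁` (helper812)
-/

set_option autoImplicit false
set_option maxRecDepth 20000

namespace Cfsg.Agent.H812.CoFiveMain

open Cfsg Cfsg.Agent.SporadicA Cfsg.Agent.CoOneType
open Subgroup (centralizer mem_centralizer_singleton_iff mem_centralizer_iff)
open CoFiveData CoFiveJ CoFiveA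
open Cfsg.Agent.LThreeMB (XX Zx)

/-- `C(p1)` -/
noncomputable abbrev C1 : Subgroup Spor.Co1 := centralizer ({p1} : Set Spor.Co1)

theorem J_le_C1 : J ≤ C1 := fun a ha => mem_centralizer_singleton_iff.2 (p1_J a ha).symm

/-- the map `J → C(p1) / ⟨p1⟩` -/
noncomputable def ι : J →* XX p1 := (QuotientGroup.mk' (Zx p1)).comp (Subgroup.inclusion J_le_C1)

theorem ι_apply (a : J) : ι a = LThreeMB.mk p1 (g := (a : Spor.Co1)) (p1_J a a.2).symm := rfl

theorem ι_inj : Function.Injective ι := by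
  rw [injective_iff_map_eq_one]
  intro a ha
  rw [ι_apply] at ha
  obtain ⟨i, hi⟩ := (LThreeMB.mk_eq_one _).1 ha
  exact Subtype.ext (inf_eq a.2 (by rw [← hi]; exact A.zpow_mem p1_A i))

theorem iso_XX : Spor.IsoJ2 (XX p1) := MFive.JTwo.isoJ2 order_p1 fr_p1

theorem card_XX : Nat.card (XX p1) = 604800 := by
  obtain ⟨e⟩ := iso_XX
  rw [Nat.card_congr e.toEquiv, S1619.result.2.2.2]

theorem ι_bij : Function.Bijective ι := by
  have := finite_co1
  rw [Nat.bijective_iff_injective_and_card]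
  exact ⟨ι_inj, le_antisymm (Nat.card_le_card_of_injective ι ι_inj) (by rw [card_XX]; exact card_J_ge)⟩

theorem isoJ2_J : Spor.IsoJ2 J := by
  obtain ⟨e⟩ := iso_XX
  exact ⟨(MulEquiv.ofBijective ι ι_bij).trans e⟩

theorem split {c : Spor.Co1} (hc : c ∈ C1) : ∃ i : ℤ, ∃ j ∈ J, c = p1 ^ i * j := by
  obtain ⟨j, hj⟩ := ι_bij.2 (LThreeMB.mk p1 (g := c) (mem_centralizer_singleton_iff.1 hc))
  rw [ι_apply] at hj
  obtain ⟨i, hi⟩ := (LThreeMB.mk_eq_mk _ _).1 hj
  refine ⟨i, j, j.2, ?_⟩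
  rw [← hi]
  exact ((show Commute p1 (j : Spor.Co1) from p1_J j j.2).zpow_left i).eq.symm

theorem zp_J (i : ℤ) {j : Spor.Co1} (hj : j ∈ J) : p1 ^ i * j = j * p1 ^ i :=
  ((show Commute p1 j from p1_J j hj).zpow_left i).eq

theorem normal_J : (J.subgroupOf C1).Normal := by
  constructor
  rintro n hn c
  rw [Subgroup.mem_subgroupOf] at hn ⊢
  show (c : Spor.Co1) * n * (c : Spor.Co1)⁻¹ ∈ J
  obtain ⟨i, j, hj, hc⟩ := split c.2
  have hm : j * (n : Spor.Co1) * j⁻¹ ∈ J := J.mul_mem (J.mul_mem hj hn) (J.inv_mem hj)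
  have h : (c : Spor.Co1) * n * (c : Spor.Co1)⁻¹ = j * n * j⁻¹ := by
    rw [hc, mul_inv_rev]
    calc p1 ^ i * j * (n : Spor.Co1) * (j⁻¹ * (p1 ^ i)⁻¹) = p1 ^ i * (j * (n : Spor.Co1) * j⁻¹) * (p1 ^ i)⁻¹ := by group
      _ = j * (n : Spor.Co1) * j⁻¹ * p1 ^ i * (p1 ^ i)⁻¹ := by rw [zp_J i hm]
      _ = _ := by group
  rw [h]; exact hm

theorem comm_C1 (a b : C1) : a * b * a⁻¹ * b⁻¹ ∈ J.subgroupOf C1 := by
  rw [Subgroup.mem_subgroupOf]
  show (a : Spor.Co1) * b * (a : Spor.Co1)⁻¹ * (b : Spor.Co1)⁻¹ ∈ J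
  obtain ⟨i, j, hj, ha⟩ := split a.2
  obtain ⟨k, l, hl, hb⟩ := split b.2
  have h : (a : Spor.Co1) * b * (a : Spor.Co1)⁻¹ * (b : Spor.Co1)⁻¹ = j * l * j⁻¹ * l⁻¹ := by
    have e1 : p1 ^ k * j = j * p1 ^ k := zp_J k hj
    have e2 : p1 ^ i * l = l * p1 ^ i := zp_J i hl
    have e3 : p1 ^ i * p1 ^ k = p1 ^ k * p1 ^ i := by rw [← zpow_add, ← zpow_add, add_comm]
    have e4 : (a : Spor.Co1) * b = p1 ^ i * p1 ^ k * (j * l) := by
      rw [ha, hb]
      calc p1 ^ i * j * (p1 ^ k * l) = p1 ^ i * (j * p1 ^ k) * l := by group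
        _ = p1 ^ i * (p1 ^ k * j) * l := by rw [e1]
        _ = _ := by group
    have e5 : (b : Spor.Co1) * a = p1 ^ i * p1 ^ k * (l * j) := by
      rw [ha, hb]
      calc p1 ^ k * l * (p1 ^ i * j) = p1 ^ k * (l * p1 ^ i) * j := by group
        _ = p1 ^ k * (p1 ^ i * l) * j := by rw [e2]
        _ = (p1 ^ k * p1 ^ i) * (l * j) := by group
        _ = _ := by rw [e3]
    have e6 : p1 ^ i * p1 ^ k * (j * l * (l * j)⁻¹) = (j * l * (l * j)⁻¹) * (p1 ^ i * p1 ^ k) := by
      rw [← zpow_add]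
      exact zp_J _ (J.mul_mem (J.mul_mem hj hl) (J.inv_mem (J.mul_mem hl hj)))
    calc (a : Spor.Co1) * b * (a : Spor.Co1)⁻¹ * (b : Spor.Co1)⁻¹ = (a : Spor.Co1) * b * ((b : Spor.Co1) * a)⁻¹ := by group
      _ = p1 ^ i * p1 ^ k * (j * l * (l * j)⁻¹) * (p1 ^ i * p1 ^ k)⁻¹ := by rw [e4, e5]; group
      _ = j * l * j⁻¹ * l⁻¹ := by rw [e6]; group
  rw [h]
  exact J.mul_mem (J.mul_mem (J.mul_mem hj hl) (J.inv_mem hj)) (J.inv_mem hl)

theorem layer_C1 : layer ↥C1 = J.subgroupOf C1 := by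
  obtain ⟨e⟩ := isoJ2_J
  have e' : (J.subgroupOf C1) ≃* Spor.J2 := (Subgroup.subgroupOfEquivOfLe J_le_C1).trans e
  have hs : IsSimpleGroup Spor.J2 := S1620.result.1
  have hs' : IsSimpleGroup (J.subgroupOf C1) := e'.isSimpleGroup
  obtain ⟨a, b, hab⟩ := S1620.result.2
  refine LayerSimple.layer_eq _ normal_J hs' ⟨e'.symm a, e'.symm b, fun h => hab ?_⟩ comm_C1
  have h1 := congrArg e' h
  rwa [map_mul, map_mul, e'.apply_symm_apply, e'.apply_symm_apply] at h1

/-- the conclusion for a subgroup `C` -/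
def Concl {G : Type*} [Group G] (C : Subgroup G) : Prop :=
  Spor.IsoJ2 ↥(layer ↥C) ∧
    Nonempty (↥(centralizer (((layer ↥C).map (Subgroup.subtype C) : Subgroup G) : Set G)) ≃* alternatingGroup (Fin 5))

theorem concl_C1 : Concl C1 := by
  unfold Concl
  rw [layer_C1]
  refine ⟨?_, ?_⟩
  · obtain ⟨e⟩ := isoJ2_J
    exact ⟨(Subgroup.subgroupOfEquivOfLe J_le_C1).trans e⟩
  · rw [Subgroup.map_subgroupOf_eq_of_le J_le_C1]
    exact A_equiv

theorem Concl.of_equiv {G K : Type*} [Group G] [Group K] (e : G ≃* K) {C : Subgroup G} {C' : Subgroup K}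
    (h : C.map e.toMonoidHom = C') (hC : Concl C') : Concl C := by
  subst h
  let eC : C ≃* (C.map e.toMonoidHom : Subgroup K) := Transport.equivMap e C
  have hl : (layer ↥C).map eC.toMonoidHom = layer ↥(C.map e.toMonoidHom : Subgroup K) :=
    SignalizersComponents.LayerBasic.layer_map_equiv eC
  have h2 : ((layer ↥C).map C.subtype).map e.toMonoidHom =
      (layer ↥(C.map e.toMonoidHom : Subgroup K)).map (C.map e.toMonoidHom : Subgroup K).subtype := by
    rw [← hl, Subgroup.map_map, Subgroup.map_map]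
    rfl
  obtain ⟨⟨e1⟩, ⟨e2⟩⟩ := hC
  refine ⟨⟨((Transport.equivMap eC (layer ↥C)).trans (MulEquiv.subgroupCongr hl)).trans e1⟩, ?_⟩
  obtain ⟨e3⟩ := Transport.nonempty_centralizer h2
  exact ⟨e3.trans e2⟩

/-! ### the isomorphism with `Co₁` -/

open Cfsg.Agent.CoOneType.SignFacts (wt)
open Cfsg.Agent.CoOneType.GenCrit (c0)
open KFacts.Co1.InCo1 (RCo1)

/-- the class of an involution whose centralizer has the order of that of an octad -/
theorem isConj_z {G : Type*} [Group G] (ψ : G ≃* Spor.Co1) {y : G} (hz : orderOf y = 2)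
    (hC : Nat.card (centralizer ({y} : Set G)) = 89181388800) : IsConj z (ψ y) := by
  have hzz : ψ y * ψ y = 1 := by
    rw [← map_mul, ← pow_two, ← hz, pow_orderOf_eq_one, map_one]
  have hz1 : ψ y ≠ 1 := by
    intro h
    rw [map_eq_one_iff ψ ψ.injective] at h
    rw [h, orderOf_one] at hz
    omega
  have hC' : Nat.card (centralizer ({ψ y} : Set Spor.Co1)) = 89181388800 := by
    rw [← hC]
    have h1 : centralizer ({ψ y} : Set Spor.Co1) = (centralizer ({y} : Set G)).map ψ.toMonoidHom := by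
      ext c
      rw [mem_centralizer_singleton_iff, Subgroup.mem_map]
      constructor
      · intro h
        refine ⟨ψ.symm c, ?_, ψ.apply_symm_apply c⟩
        rw [mem_centralizer_singleton_iff]
        apply ψ.injective
        rw [map_mul, map_mul, ψ.apply_symm_apply, h]
      · rintro ⟨d, hd, rfl⟩
        rw [mem_centralizer_singleton_iff] at hd
        show ψ d * ψ y = ψ y * ψ d
        rw [← map_mul, hd, map_mul]
    rw [h1]
    exact Nat.card_congr ((centralizer ({y} : Set G)).equivMapOfInjective ψ.toMonoidHom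
      ψ.injective).symm.toEquiv
  obtain ⟨d, hd⟩ := ClosingCo1.exists_dodecad
  rcases ClosingFacts.co1_cases c0 d ClosingCo1.a1 ClosingCo1.a1' wt_c0 hd (ψ y) hzz hz1 with h | h | ⟨t, ht, h⟩
  · exact h
  · exfalso
    have h11 := ClosingFacts.isConj_dvd h (Thirteen.eleven_dvd d hd)
    rw [hC'] at h11
    revert h11; norm_num
  · exfalso
    have h13 := Thirteen.thirteen_dvd_of_conj t h
    have h14 : (13 : ℕ) ∣ Nat.card (centralizer ({ClosingFacts.mk t} : Set Spor.Co1)) := h13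
    rw [ht, hC'] at h14
    revert h14; norm_num

/-- the isomorphism can be chosen to map the involution to `z` -/
theorem exists_iso {G : Type*} [Group G] (ψ : G ≃* Spor.Co1) {y : G} (hz : orderOf y = 2)
    (hC : Nat.card (centralizer ({y} : Set G)) = 89181388800) : ∃ ψ : G ≃* Spor.Co1, ψ y = z := by
  obtain ⟨g, hg⟩ := isConj_iff.1 (isConj_z ψ hz hC)
  refine ⟨ψ.trans (MulAut.conj g⁻¹), ?_⟩
  show g⁻¹ * ψ y * g⁻¹⁻¹ = z
  rw [← hg]; group

/-- the isomorphism can be chosen to map `B` to `⟨p1⟩` (auxiliary form) -/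
theorem exists_iso_aux {G : Type*} [Group G] [Finite G] (y : G) (C : Subgroup G)
    (hCdef : C = centralizer ({y} : Set G)) (Q : Subgroup C) [Q.Normal]
    (hF : Cfsg.generalizedFittingSubgroup C = Q) (hcard : Nat.card Q = 2 ^ 9)
    (hC : Nat.card C = 89181388800)
    (B : Subgroup C) (hB : Nat.card B = 5) (h32 : Nat.card ↥(Q ⊓ centralizer (B : Set C)) = 32)
    (ψ : G ≃* Spor.Co1) (hψ : ψ y = z) :
    ∃ ψ : G ≃* Spor.Co1, (B.map C.subtype).map ψ.toMonoidHom = Subgroup.zpowers p1 := by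
  have hfin : Finite Spor.Co1 := Finite.of_equiv G ψ.toEquiv
  set RQ : Subgroup Spor.Co1 := RCo1 c0 with hRQ
  have hlarge := KFacts.Co1.InCo1.large wt_c0
  have hR512 : Nat.card RQ = 512 := KFacts.Co1.YBig.card_R wt_c0
  set D : Subgroup Spor.Co1 := centralizer ({z} : Set Spor.Co1) with hD
  have hmemC : ∀ c : G, c ∈ C ↔ ψ c ∈ D := by
    intro c
    rw [hCdef, mem_centralizer_singleton_iff, hD, mem_centralizer_singleton_iff, ← hψ,
      ← map_mul, ← map_mul]
    exact ψ.injective.eq_iff.symm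
  have hCmap : C.map ψ.toMonoidHom = D := by
    ext c
    constructor
    · rintro ⟨d, hd, rfl⟩; exact (hmemC d).1 hd
    · intro hc
      refine ⟨ψ.symm c, (hmemC _).2 ?_, ψ.apply_symm_apply c⟩
      rw [ψ.apply_symm_apply]; exact hc
  have hcD : Nat.card D = 89181388800 := by
    rw [← hCmap, Nat.card_congr (C.equivMapOfInjective ψ.toMonoidHom ψ.injective).symm.toEquiv, hC]
  let f : C →* Spor.Co1 := ψ.toMonoidHom.comp C.subtype
  have hfinj : Function.Injective f := ψ.injective.comp Subtype.val_injective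
  have hfC : ∀ c : C, f c ∈ D := fun c => (hmemC c).1 c.2
  have hnorm : ∀ c ∈ D, ∀ q ∈ RQ, c * q * c⁻¹ ∈ RQ := fun c hc q hq =>
    hlarge.conj_mem c (mem_centralizer_singleton_iff.1 hc) q hq
  have hRQC : ∀ q ∈ RQ, q ∈ D := fun q hq =>
    mem_centralizer_singleton_iff.2 (hlarge.comm_z q hq)
  have hpR : IsPGroup 2 RQ := IsPGroup.of_card (n := 9) (by rw [hR512]; norm_num)
  -- `RQ` is contained in the image of `Q`
  have hN : RQ.comap f ≤ Q := by
    have hp : IsPGroup 2 (RQ.comap f) := hpR.comap_of_injective f hfinj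
    have h2 : Fact (Nat.Prime 2) := ⟨Nat.prime_two⟩
    have hnil : Group.IsNilpotent (RQ.comap f) := hp.isNilpotent
    have hnor : (RQ.comap f).Normal := by
      constructor
      intro n hn c
      show f (c * n * c⁻¹) ∈ RQ
      rw [map_mul, map_mul, map_inv]
      exact hnorm (f c) (hfC c) (f n) hn
    have h3 : RQ.comap f ≤ Cfsg.fittingSubgroup C := le_sSup ⟨hnor, hnil⟩
    refine h3.trans ?_
    rw [← hF]; exact le_sup_right
  have hQle : RQ ≤ Q.map f := by
    intro u hu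
    have hu1 : ψ.symm u ∈ C := by
      rw [hmemC, ψ.apply_symm_apply]; exact hRQC u hu
    have hfu : f ⟨ψ.symm u, hu1⟩ = u := ψ.apply_symm_apply u
    have h1 : (⟨ψ.symm u, hu1⟩ : C) ∈ Q := hN (by
      show f ⟨ψ.symm u, hu1⟩ ∈ RQ
      rw [hfu]; exact hu)
    exact ⟨⟨ψ.symm u, hu1⟩, h1, hfu⟩
  have hQeq : Q.map f = RQ := by
    symm
    apply Subgroup.eq_of_le_of_card_ge hQle
    rw [Nat.card_congr (Q.equivMapOfInjective f hfinj).symm.toEquiv, hcard, hR512]
    norm_num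
  -- a generator
  have hcyc : IsCyclic B := isCyclic_of_prime_card (p := 5) (hp := ⟨Nat.prime_five⟩) hB
  obtain ⟨g, hg⟩ := IsCyclic.exists_generator (α := B)
  have hBg : B = Subgroup.zpowers (g : C) := by
    apply le_antisymm
    · intro x hx
      obtain ⟨k, hk⟩ := Subgroup.mem_zpowers_iff.1 (hg ⟨x, hx⟩)
      exact Subgroup.mem_zpowers_iff.2 ⟨k, by rw [← SubgroupClass.coe_zpow, hk]⟩
    · rw [Subgroup.zpowers_le]; exact g.2
  set s : Spor.Co1 := f g with hs
  have hBs : (B.map C.subtype).map ψ.toMonoidHom = Subgroup.zpowers s := by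
    rw [Subgroup.map_map]
    show B.map f = _
    rw [hBg, MonoidHom.map_zpowers]
  have hos : orderOf s = 5 := by
    rw [← Nat.card_zpowers, ← hBs, Subgroup.map_map,
      Nat.card_congr (B.equivMapOfInjective f hfinj).symm.toEquiv, hB]
  have hsz : s * z = z * s := mem_centralizer_singleton_iff.1 (hfC g)
  have hcent : (Q ⊓ centralizer (B : Set C)).map f = RQ ⊓ centralizer ({s} : Set Spor.Co1) := by
    ext u
    constructor
    · rintro ⟨x, ⟨hx1, hx2⟩, rfl⟩
      refine ⟨by rw [← hQeq]; exact ⟨x, hx1, rfl⟩, ?_⟩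
      have h1 := mem_centralizer_iff.1 hx2 g g.2
      show f x ∈ centralizer ({s} : Set Spor.Co1)
      rw [mem_centralizer_singleton_iff, hs, ← map_mul, ← map_mul, h1]
    · rintro ⟨hu1, hu2⟩
      have hu2 : u ∈ centralizer ({s} : Set Spor.Co1) := hu2
      have hu1' : u ∈ Q.map f := by rw [hQeq]; exact hu1
      obtain ⟨x, hx, rfl⟩ := hu1'
      refine ⟨x, ⟨hx, ?_⟩, rfl⟩
      show x ∈ centralizer (B : Set C)
      rw [mem_centralizer_singleton_iff, hs, ← map_mul, ← map_mul] at hu2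
      have h1 : x * (g : C) = g * x := hfinj hu2
      rw [hBg, Transport.centralizer_zpowers, mem_centralizer_singleton_iff]
      exact h1
  have h32' : Nat.card ↥(RQ ⊓ centralizer ({s} : Set Spor.Co1)) = 32 := by
    rw [← hcent, Nat.card_congr ((Q ⊓ centralizer (B : Set C)).equivMapOfInjective f hfinj).symm.toEquiv, h32]
  obtain ⟨c, hc⟩ := isConj_iff.1 (isConj_p1 hcD hos hsz h32')
  refine ⟨ψ.trans (MulAut.conj c), ?_⟩
  have h1 : (B.map C.subtype).map (ψ.trans (MulAut.conj c)).toMonoidHom =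
      ((B.map C.subtype).map ψ.toMonoidHom).map (MulAut.conj c).toMonoidHom := by
    rw [Subgroup.map_map (B.map C.subtype)]; rfl
  rw [h1, hBs, MonoidHom.map_zpowers]
  have h2 : (MulAut.conj c).toMonoidHom s = c * s * c⁻¹ := rfl
  rw [h2, hc]

theorem main {G : Type*} [Group G] [Finite G] (y : G) (hz : orderOf y = 2)
    (Q : Subgroup (centralizer ({y} : Set G))) [Q.Normal]
    (hF : Cfsg.generalizedFittingSubgroup (centralizer ({y} : Set G)) = Q) (hcard : Nat.card Q = 2 ^ 9)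
    (e : (centralizer ({y} : Set G)) ⧸ Q ≃* Cfsg.Omega (ZMod 2) (Cfsg.quadFormPlus 4 (ZMod 2)))
    (B : Subgroup (centralizer ({y} : Set G))) (hB : Nat.card B = 5)
    (h32 : Nat.card ↥(Q ⊓ centralizer (B : Set (centralizer ({y} : Set G)))) = 32) (hG : Spor.IsoCo1 G) :
    Concl (centralizer ((B.map (Subgroup.subtype (centralizer ({y} : Set G))) : Subgroup G) : Set G)) := by
  have hC : Nat.card (centralizer ({y} : Set G)) = 89181388800 := by
    rw [Subgroup.card_eq_card_quotient_mul_card_subgroup Q, hcard, Nat.card_congr e.toEquiv,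
      Cfsg.Agent.LargeExtra.Cards.card_omega_plus_eight]
    norm_num
  obtain ⟨ψ₀⟩ := hG
  obtain ⟨ψ, hψ⟩ := exists_iso ψ₀ hz hC
  obtain ⟨ψ', hψ'⟩ := exists_iso_aux y _ rfl Q hF hcard hC B hB h32 ψ hψ
  refine Concl.of_equiv ψ' ?_ concl_C1
  rw [Transport.map_centralizer, hψ', Transport.centralizer_zpowers]

end Cfsg.Agent.H812.CoFiveMain
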