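import Mathlib
import Cfsg.Agent.H780.SpDefs

/-!
# The action on `Sym²` : basic facts (helper812; S5260-B)
-/

set_option autoImplicit false
set_option linter.unusedSectionVars false

open scoped Pointwise

namespace Cfsg.Agent.H812.Sym

open Cfsg.Agent.H780

/-- the module -/
abbrev V (K : Type*) : Type _ := K × K × K

variable {K : Type*} [Field K]

/-- `Z = {(0,0,z)}` -/
def Zs (K : Type*) [Field K] : AddSubgroup (V K) where
  carrier := {v | v.1 = 0 ∧ v.2.1 = 0}
  zero_mem' := ⟨rfl, rfl⟩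
  add_mem' := by
    rintro a b ⟨h1, h2⟩ ⟨h3, h4⟩
    exact ⟨by show a.1 + b.1 = 0; rw [h1, h3, add_zero], by show a.2.1 + b.2.1 = 0; rw [h2, h4, add_zero]⟩
  neg_mem' := by
    rintro a ⟨h1, h2⟩
    exact ⟨by show -a.1 = 0; rw [h1, neg_zero], by show -a.2.1 = 0; rw [h2, neg_zero]⟩

theorem mem_Zs {v : V K} : v ∈ Zs K ↔ v.1 = 0 ∧ v.2.1 = 0 := Iff.rfl

theorem mem_Zs' (z : K) : ((0, 0, z) : V K) ∈ Zs K := ⟨rfl, rfl⟩

theorem eq_of_mem_Zs {v : V K} (h : v ∈ Zs K) : v = (0, 0, v.2.2) := by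
  obtain ⟨a, b, c⟩ := v
  obtain ⟨h1, h2⟩ := h
  simp only at h1 h2
  rw [h1, h2]

/-- the basic data -/
structure Base (p : ℕ) (K : Type*) [Field K] (G : Type*) [Group G] [DistribMulAction G (V K)] where
  T : K → G
  hT : ∀ (t : K) (v : V K), T t • v = phi t v
  faith : ∀ g : G, (∀ v : V K, g • v = v) → g = 1
  P : Sylow p G
  memP : ∀ g : G, g ∈ P ↔ ∃ t, g = T t
  norm : ∀ g : G, g • Zs K = Zs K → ∀ t, ∃ t', g * T t * g⁻¹ = T t'

namespace Base

variable {p : ℕ} {G : Type*} [Group G] [DistribMulAction G (V K)] (B : Base p K G)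

include B

theorem ext {g h : G} (e : ∀ v : V K, g • v = h • v) : g = h := by
  have h1 := B.faith (h⁻¹ * g) (fun v => by rw [mul_smul, e, inv_smul_smul])
  rw [inv_mul_eq_one] at h1
  exact h1.symm

theorem T_add (s t : K) : B.T (s + t) = B.T s * B.T t := by
  apply B.ext
  intro v
  rw [mul_smul, B.hT, B.hT, B.hT, phi_add]
  rfl

theorem T_zero : B.T 0 = 1 := by
  have h := B.T_add 0 0
  rw [add_zero] at h
  exact mul_eq_left.1 h.symm

theorem T_neg (t : K) : B.T (-t) = (B.T t)⁻¹ := by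
  rw [eq_inv_iff_mul_eq_one, ← B.T_add, neg_add_cancel, B.T_zero]

theorem T_comm (s t : K) : B.T s * B.T t = B.T t * B.T s := by rw [← B.T_add, ← B.T_add, add_comm]

theorem T_inj {s t : K} (h : B.T s = B.T t) : s = t := by
  have h1 : B.T s • ((1, 0, 0) : V K) = B.T t • ((1, 0, 0) : V K) := by rw [h]
  rw [B.hT, B.hT, phi_apply, phi_apply] at h1
  have h2 := congrArg (fun v : V K => v.2.1) h1
  simpa using h2

theorem T_apply (t s u z : K) : B.T t • ((s, u, z) : V K) = (s, u + t * s, z + 2 * t * u + t ^ 2 * s) := by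
  rw [B.hT, phi_apply]

theorem T_sub (t : K) (v : V K) : B.T t • v - v = (0, t * v.1, 2 * t * v.2.1 + t ^ 2 * v.1) := by
  obtain ⟨s, u, z⟩ := v
  rw [B.T_apply]
  ext
  · simp
  · simp
  · show z + 2 * t * u + t ^ 2 * s - z = _
    ring

theorem T_mem (t : K) : B.T t ∈ B.P := (B.memP _).2 ⟨t, rfl⟩

theorem T_Z (t : K) {v : V K} (hv : v ∈ Zs K) : B.T t • v = v := by
  rw [eq_of_mem_Zs hv, B.T_apply]
  simp

/-- the fixed points of `T t` -/
theorem fix_T (h2 : (2 : K) ≠ 0) {t : K} (ht : t ≠ 0) {v : V K} (h : B.T t • v = v) : v ∈ Zs K := by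
  obtain ⟨s, u, z⟩ := v
  rw [B.T_apply] at h
  have h1 := congrArg (fun v : V K => v.2.1) h
  have h3 := congrArg (fun v : V K => v.2.2) h
  simp only at h1 h3
  have hs : s = 0 := by
    have : t * s = 0 := by linear_combination h1
    exact (mul_eq_zero.1 this).resolve_left ht
  subst hs
  have hu : u = 0 := by
    have : 2 * t * u = 0 := by linear_combination h3
    exact (mul_eq_zero.1 this).resolve_left (mul_ne_zero h2 ht)
  exact ⟨rfl, hu⟩

/-- **Semiregularity.** -/
theorem semireg [Finite G] [Fact p.Prime] (h2 : (2 : K) ≠ 0) {t : K} (ht : t ≠ 0) {g : G}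
    (h : B.T t • (g • Zs K) = g • Zs K) : g • Zs K = Zs K := by
  -- `θ' = g⁻¹ T t g` fixes `Z`
  have h1 : (g⁻¹ * B.T t * g) • Zs K = Zs K := by
    rw [mul_smul, mul_smul, h, inv_smul_smul]
  -- it is in `P`
  have h3 : g⁻¹ * B.T t * g ∈ B.P := by
    have hp : IsPGroup p (Subgroup.zpowers (g⁻¹ * B.T t * g)) := by
      have e : Subgroup.zpowers (g⁻¹ * B.T t * g) = (Subgroup.zpowers (B.T t)).map (MulAut.conj g⁻¹).toMonoidHom := by
        rw [MonoidHom.map_zpowers]
        congr 1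
        show _ = g⁻¹ * B.T t * g⁻¹⁻¹
        rw [inv_inv]
      rw [e]
      exact (B.P.2.to_le (Subgroup.zpowers_le.2 (B.T_mem t))).map _
    have hn : Subgroup.zpowers (g⁻¹ * B.T t * g) ≤ Subgroup.normalizer ((B.P : Subgroup G) : Set G) := by
      rw [Subgroup.zpowers_le, Subgroup.mem_normalizer_iff]
      intro x
      have hfin : Finite (B.P : Subgroup G) := inferInstance
      have key : ∀ y : G, y • Zs K = Zs K → ∀ x ∈ (B.P : Subgroup G), y * x * y⁻¹ ∈ (B.P : Subgroup G) := by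
        intro y hy x hx
        obtain ⟨t, rfl⟩ := (B.memP x).1 hx
        obtain ⟨t', ht'⟩ := B.norm y hy t
        rw [ht']
        exact B.T_mem t'
      refine ⟨key _ h1 x, fun hx => ?_⟩
      have h5 := key (g⁻¹ * B.T t * g)⁻¹ (by rw [inv_smul_eq_iff, h1]) _ hx
      have e : (g⁻¹ * B.T t * g)⁻¹ * (g⁻¹ * B.T t * g * x * (g⁻¹ * B.T t * g)⁻¹) * (g⁻¹ * B.T t * g)⁻¹⁻¹ = x := by group
      rwa [e] at h5
    have hsup : IsPGroup p ↥(Subgroup.zpowers (g⁻¹ * B.T t * g) ⊔ (B.P : Subgroup G)) :=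
      hp.to_sup_of_normal_right' B.P.2 hn
    have h4 := B.P.3 hsup le_sup_right
    have h5 : g⁻¹ * B.T t * g ∈ Subgroup.zpowers (g⁻¹ * B.T t * g) ⊔ (B.P : Subgroup G) :=
      (le_sup_left : Subgroup.zpowers (g⁻¹ * B.T t * g) ≤ _) (Subgroup.mem_zpowers _)
    rw [h4] at h5
    exact h5
  obtain ⟨s, hs⟩ := (B.memP _).1 h3
  have hs0 : s ≠ 0 := by
    rintro rfl
    rw [B.T_zero] at hs
    apply ht
    apply B.T_inj
    rw [B.T_zero]
    calc B.T t = g * (g⁻¹ * B.T t * g) * g⁻¹ := by group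
      _ = 1 := by rw [hs]; group
  -- fixed points
  have h6 : ∀ v : V K, v ∈ Zs K ↔ g⁻¹ • v ∈ Zs K := by
    intro v
    constructor
    · intro hv
      apply B.fix_T h2 hs0
      rw [← hs, mul_smul, mul_smul, smul_inv_smul, B.T_Z t hv]
    · intro hv
      apply B.fix_T h2 ht
      have h7 := B.T_Z s hv
      rw [← hs, mul_smul, mul_smul, smul_inv_smul] at h7
      exact smul_left_cancel _ h7
  ext v
  rw [AddSubgroup.mem_pointwise_smul_iff_inv_smul_mem]
  exact (h6 v).symm

end Base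

/-! ### Elements acting on the filtration `0 < Z < Z₂ < V` -/

section act

variable {G : Type*} [Group G] [DistribMulAction G (V K)]

/-- `g` acts as `1`, `c`, `c²` on the factors of the filtration -/
structure Act (c : K) (g : G) : Prop where
  z : ∀ v : V K, v ∈ Zs K → g • v = v
  u : ∀ v : V K, v.1 = 0 → (g • v).1 = 0 ∧ (g • v).2.1 = c * v.2.1
  s : ∀ v : V K, (g • v).1 = c ^ 2 * v.1

theorem Act.one : Act (1 : K) (1 : G) where
  z v _ := one_smul _ v
  u v hv := by rw [one_smul, one_mul]; exact ⟨hv, rfl⟩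
  s v := by rw [one_smul]; ring

theorem Act.mul {c d : K} {g h : G} (hg : Act c g) (hh : Act d h) : Act (c * d) (g * h) where
  z v hv := by rw [mul_smul, hh.z v hv, hg.z v hv]
  u v hv := by
    rw [mul_smul]
    obtain ⟨h1, h2⟩ := hh.u v hv
    obtain ⟨h3, h4⟩ := hg.u (h • v) h1
    exact ⟨h3, by rw [h4, h2]; ring⟩
  s v := by rw [mul_smul, hg.s, hh.s]; ring

theorem Act.pow {c : K} {g : G} (hg : Act c g) (n : ℕ) : Act (c ^ n) (g ^ n) := by
  induction n with
  | zero => rw [pow_zero, pow_zero]; exact Act.one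
  | succ n ih => rw [pow_succ, pow_succ]; exact ih.mul hg

theorem Act.inv {c : K} (hc : c ≠ 0) {g : G} (hg : Act c g) : Act c⁻¹ g⁻¹ where
  z v hv := by rw [inv_smul_eq_iff, hg.z v hv]
  u v hv := by
    have h1 := hg.s (g⁻¹ • v)
    rw [smul_inv_smul, hv] at h1
    have h2 : (g⁻¹ • v).1 = 0 := (mul_eq_zero.1 h1.symm).resolve_left (pow_ne_zero 2 hc)
    obtain ⟨-, h4⟩ := hg.u (g⁻¹ • v) h2
    rw [smul_inv_smul] at h4
    exact ⟨h2, by rw [h4, inv_mul_cancel_left₀ hc]⟩
  s v := by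
    have h1 := hg.s (g⁻¹ • v)
    rw [smul_inv_smul] at h1
    rw [h1, inv_pow, inv_mul_cancel_left₀ (pow_ne_zero 2 hc)]

theorem Act.stab {c : K} {g : G} (hg : Act c g) : g • Zs K = Zs K := by
  ext v
  rw [AddSubgroup.mem_pointwise_smul_iff_inv_smul_mem]
  constructor
  · intro h
    have h1 := hg.z _ h
    rw [smul_inv_smul] at h1
    rw [h1]; exact h
  · intro h
    have h1 := hg.z _ h
    have h2 : g⁻¹ • v = v := by rw [inv_smul_eq_iff, h1]
    rw [h2]; exact h

theorem Act.of_maps {c : K} {g : G} (h0 : ∀ z : K, g • ((0, 0, z) : V K) = (0, 0, z))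
    (h1 : ∀ u : K, ∃ z' : K, g • ((0, u, 0) : V K) = (0, c * u, z'))
    (h2 : ∀ s : K, ∃ u' z' : K, g • ((s, 0, 0) : V K) = (c ^ 2 * s, u', z')) : Act c g where
  z v hv := by rw [eq_of_mem_Zs hv]; exact h0 _
  u v hv := by
    obtain ⟨s, u, z⟩ := v
    simp only at hv
    subst hv
    have e : ((0, u, z) : V K) = (0, u, 0) + (0, 0, z) := by ext <;> simp
    obtain ⟨z', hz'⟩ := h1 u
    rw [e, smul_add, hz', h0]
    exact ⟨by simp, by simp⟩
  s v := by
    obtain ⟨s, u, z⟩ := v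
    have e : ((s, u, z) : V K) = (s, 0, 0) + ((0, u, 0) + (0, 0, z)) := by ext <;> simp
    obtain ⟨z', hz'⟩ := h1 u
    obtain ⟨u'', z'', hz''⟩ := h2 s
    rw [e, smul_add, smul_add, hz', h0, hz'']
    simp

/-- iterates of a unipotent map -/
theorem pow_smul_sub {g : G} {v : V K} (h : g • (g • v - v) = g • v - v) (n : ℕ) :
    g ^ n • v = v + n • (g • v - v) := by
  induction n with
  | zero => simp
  | succ n ih =>
    rw [pow_succ', mul_smul, ih, smul_add, smul_comm g n, h, succ_nsmul]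
    abel

theorem p_smul {p : ℕ} [CharP K p] (v : V K) : p • v = 0 := by
  obtain ⟨s, u, z⟩ := v
  ext <;> simp

/-- elements acting trivially on the factors are `p`-elements -/
theorem Act.pow_eq {p : ℕ} [Fact p.Prime] [CharP K p] {g : G} (hg : Act (1 : K) g) (v : V K) :
    g ^ (p ^ 2) • v = v := by
  -- `g ^ p` is trivial modulo `Z`
  have key : ∀ v : V K, g ^ p • v - v ∈ Zs K := by
    intro v
    -- `g • v - v ∈ Z₂`, and `g` is trivial on `Z₂ / Z`
    have h1 : (g • v - v).1 = 0 := by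
      show (g • v).1 - v.1 = 0
      rw [hg.s]; ring
    have step : ∀ n : ℕ, g ^ n • v - v - n • (g • v - v) ∈ Zs K := by
      intro n
      induction n with
      | zero => simp [Zs]
      | succ n ih =>
        have e0 : ∀ w x : V K, g • v = w + v →
            g • x - v - (n + 1) • w = g • (x - v - n • w) + n • (g • w - w) := by
          intro w x h
          rw [smul_sub, smul_sub, smul_comm g n w, h, nsmul_sub, add_nsmul, one_nsmul]
          abel
        have e : g ^ (n + 1) • v - v - (n + 1) • (g • v - v) =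
            (g • (g ^ n • v - v - n • (g • v - v))) + n • (g • (g • v - v) - (g • v - v)) := by
          rw [pow_succ', mul_smul]
          exact e0 _ _ (by abel)
        rw [e]
        refine add_mem ?_ (nsmul_mem ?_ n)
        · rw [hg.z _ ih]; exact ih
        · obtain ⟨h2, h3⟩ := hg.u _ h1
          refine ⟨?_, ?_⟩
          · show (g • (g • v - v)).1 - (g • v - v).1 = 0
            rw [h2, h1, sub_zero]
          · show (g • (g • v - v)).2.1 - (g • v - v).2.1 = 0
            rw [h3]; ring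
    have h4 := step p
    rwa [p_smul, sub_zero] at h4
  have h5 := pow_smul_sub (g := g ^ p) (v := v) ((hg.pow p).z _ (key v)) p
  rw [p_smul, add_zero, ← pow_mul, ← pow_two] at h5
  exact h5

end act

namespace Base

variable {p : ℕ} {G : Type*} [Group G] [DistribMulAction G (V K)] (B : Base p K G)

include B

theorem act_T (t : K) : Act (1 : K) (B.T t) where
  z v hv := B.T_Z t hv
  u v hv := by
    obtain ⟨s, u, z⟩ := v
    simp only at hv
    subst hv
    rw [B.T_apply]
    exact ⟨rfl, by simp⟩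
  s v := by
    obtain ⟨s, u, z⟩ := v
    rw [B.T_apply]
    simp

/-- **Lemma B**: elements acting trivially on the factors are in `P` -/
theorem of_act_one [Finite G] [Fact p.Prime] [CharP K p] {g : G} (hg : Act (1 : K) g) : ∃ t, g = B.T t := by
  let N : Subgroup G :=
    { carrier := {g | Act (1 : K) g}
      one_mem' := Act.one
      mul_mem' := fun {a b} ha hb => by
        have := Act.mul ha hb
        rwa [one_mul] at this
      inv_mem' := fun {a} ha => by
        have := Act.inv one_ne_zero ha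
        rwa [inv_one] at this }
  have hN : IsPGroup p N := by
    rintro ⟨x, hx⟩
    refine ⟨2, Subtype.ext ?_⟩
    show x ^ p ^ 2 = 1
    exact B.faith _ (fun v => Act.pow_eq hx v)
  have hle : (B.P : Subgroup G) ≤ N := by
    intro x hx
    obtain ⟨t, rfl⟩ := (B.memP x).1 hx
    exact B.act_T t
  have h1 := B.P.3 hN hle
  have h2 : g ∈ N := hg
  rw [h1] at h2
  exact (B.memP g).1 h2

/-- **Lemma A**: an element fixing `Z` pointwise has the shape `Act c`, `c ≠ 0` -/
theorem exists_act (h2 : (2 : K) ≠ 0) {g : G} (hg : ∀ v : V K, v ∈ Zs K → g • v = v) :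
    ∃ c : K, c ≠ 0 ∧ Act c g := by
  have hstab : g • Zs K = Zs K := by
    ext v
    rw [AddSubgroup.mem_pointwise_smul_iff_inv_smul_mem]
    constructor
    · intro h
      have h1 := hg _ h
      rw [smul_inv_smul] at h1
      rw [h1]; exact h
    · intro h
      have h1 := hg _ h
      have h2 : g⁻¹ • v = v := by rw [inv_smul_eq_iff, h1]
      rw [h2]; exact h
  obtain ⟨a, ha⟩ := B.norm g hstab 1
  have ha0 : a ≠ 0 := by
    rintro rfl
    rw [B.T_zero, mul_inv_eq_one] at ha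
    have h3 : B.T 1 = 1 := by
      have : g * B.T 1 = g * 1 := by rw [ha, mul_one]
      exact mul_left_cancel this
    rw [← B.T_zero] at h3
    exact one_ne_zero (B.T_inj h3)
  -- `T a (g v) - g v = g (T 1 v - v)`
  have key : ∀ v : V K, B.T a • (g • v) - g • v = g • (B.T 1 • v - v) := by
    intro v
    rw [← ha, ← mul_smul, inv_mul_cancel_right, mul_smul, smul_sub]
  have hu : ∀ v : V K, v.1 = 0 → (g • v).1 = 0 ∧ (g • v).2.1 = a⁻¹ * v.2.1 := by
    intro v hv
    have h3 := key v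
    rw [B.T_sub, B.T_sub, hv] at h3
    have h4 : ((0, 1 * 0, 2 * 1 * v.2.1 + 1 ^ 2 * 0) : V K) ∈ Zs K := ⟨rfl, by simp⟩
    rw [hg _ h4] at h3
    have h5 := congrArg (fun v : V K => v.2.1) h3
    have h6 := congrArg (fun v : V K => v.2.2) h3
    simp only at h5 h6
    have h7 : (g • v).1 = 0 := by
      rw [mul_zero] at h5
      exact (mul_eq_zero.1 h5).resolve_left ha0
    refine ⟨h7, ?_⟩
    rw [h7] at h6
    rw [eq_inv_mul_iff_mul_eq₀ ha0]
    apply mul_left_cancel₀ h2
    linear_combination h6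
  refine ⟨a⁻¹, inv_ne_zero ha0, hg, hu, fun v => ?_⟩
  have h3 := key v
  rw [B.T_sub, B.T_sub] at h3
  have h4 := (hu (0, 1 * v.1, 2 * 1 * v.2.1 + 1 ^ 2 * v.1) rfl).2
  rw [← h3] at h4
  simp only at h4
  rw [inv_pow, eq_inv_mul_iff_mul_eq₀ (pow_ne_zero 2 ha0), pow_two, mul_assoc, h4, one_mul, mul_inv_cancel_left₀ ha0]

/-- conjugation of `T t` -/
theorem conj_T (h2 : (2 : K) ≠ 0) {g : G} {c : K} (hc : c ≠ 0) (hg : Act c g) (t : K) :
    g * B.T t * g⁻¹ = B.T (c⁻¹ * t) := by
  obtain ⟨a, ha⟩ := B.norm g hg.stab t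
  rw [ha]
  congr 1
  have key : ∀ v : V K, B.T a • (g • v) - g • v = g • (B.T t • v - v) := by
    intro v
    rw [← ha, ← mul_smul, inv_mul_cancel_right, mul_smul, smul_sub]
  have h3 := key (0, 1, 0)
  rw [B.T_sub, B.T_sub] at h3
  have h4 : ((0, t * ((0, 1, 0) : V K).1, 2 * t * ((0, 1, 0) : V K).2.1 + t ^ 2 * ((0, 1, 0) : V K).1) : V K) ∈ Zs K :=
    ⟨rfl, by simp⟩
  rw [hg.z _ h4] at h3
  obtain ⟨h5, h6⟩ := hg.u (0, 1, 0) rfl
  have h7 := congrArg (fun v : V K => v.2.2) h3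
  simp only [h5, h6] at h7
  rw [eq_inv_mul_iff_mul_eq₀ hc]
  apply mul_left_cancel₀ h2
  linear_combination h7

end Base

end Cfsg.Agent.H812.Sym
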