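import Mathlib
import Cfsg.Agent.H812.SymBase

/-!
# The reduced situation of S5260-B: orbits of `Z` (helper812)
-/

set_option autoImplicit false
set_option linter.unusedSectionVars false

open scoped Pointwise

namespace Cfsg.Agent.H812.Sym

open Cfsg.Agent.H780

/-- the situation after the reduction to the centraliser of `D` -/
structure Dat (p : ℕ) (K : Type*) [Field K] [Fintype K] (G : Type*) [Group G] [DistribMulAction G (V K)] extends
    Base p K G where
  two : (2 : K) ≠ 0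
  D : AddSubgroup (V K)
  D_le : D ≤ Zs K
  D_fix : ∀ (g : G) (d : V K), d ∈ D → g • d = d
  D_ne : ∃ d ∈ D, d ≠ 0
  max : ∀ g : G, g • Zs K ≠ Zs K → Zs K ⊓ g • Zs K = D
  move : ∃ g : G, g • Zs K ≠ Zs K
  c : K
  hc : orderOf c = Fintype.card K - 1
  ζ : G
  hζ : Act c ζ
  ζ_pow : ζ ^ (Fintype.card K - 1) = 1

theorem card_smul {K : Type*} [Field K] {G : Type*} [Group G] [DistribMulAction G (V K)] (g : G)
    (W : AddSubgroup (V K)) : Nat.card (g • W : AddSubgroup (V K)) = Nat.card W := by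
  symm
  exact Nat.card_congr
    { toFun := fun v => ⟨g • (v : V K), AddSubgroup.smul_mem_pointwise_smul _ _ _ v.2⟩
      invFun := fun v => ⟨g⁻¹ • (v : V K), AddSubgroup.mem_pointwise_smul_iff_inv_smul_mem.1 v.2⟩
      left_inv := fun v => Subtype.ext (inv_smul_smul _ _)
      right_inv := fun v => Subtype.ext (smul_inv_smul _ _) }

namespace Dat

variable {p : ℕ} [Fact p.Prime] {K : Type*} [Field K] [Fintype K] [CharP K p] {G : Type*} [Group G] [Finite G]
  [DistribMulAction G (V K)] (A : Dat p K G)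

include A

omit [Fact p.Prime] [CharP K p] [Finite G] in
theorem mem_smul_of_mem_D (g : G) {d : V K} (hd : d ∈ A.D) : d ∈ g • Zs K := by
  rw [AddSubgroup.mem_pointwise_smul_iff_inv_smul_mem, A.D_fix g⁻¹ d hd]
  exact A.D_le hd

omit [Fact p.Prime] [CharP K p] [Finite G] in
theorem smul_D (g : G) : g • A.D = A.D := by
  ext v
  rw [AddSubgroup.mem_pointwise_smul_iff_inv_smul_mem]
  constructor
  · intro h
    have h1 := A.D_fix g _ h
    rw [smul_inv_smul] at h1
    rw [h1]; exact h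
  · intro h
    rw [A.D_fix g⁻¹ v h]; exact h

omit [Fact p.Prime] [CharP K p] [Finite G] in
/-- two members of the orbit meet in `D` -/
theorem inter {x y : G} (h : x • Zs K ≠ y • Zs K) {v : V K} (hx : v ∈ x • Zs K) (hy : v ∈ y • Zs K) : v ∈ A.D := by
  have h1 : (x⁻¹ * y) • Zs K ≠ Zs K := by
    intro h2
    apply h
    rw [mul_smul, inv_smul_eq_iff] at h2
    exact h2.symm
  have h3 : x⁻¹ • v ∈ Zs K ⊓ (x⁻¹ * y) • Zs K := by
    refine ⟨AddSubgroup.mem_pointwise_smul_iff_inv_smul_mem.1 hx, ?_⟩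
    show x⁻¹ • v ∈ (x⁻¹ * y) • Zs K
    rw [AddSubgroup.mem_pointwise_smul_iff_inv_smul_mem, mul_inv_rev, inv_inv, mul_smul, smul_inv_smul]
    exact AddSubgroup.mem_pointwise_smul_iff_inv_smul_mem.1 hy
  rw [A.max _ h1] at h3
  have h4 := A.D_fix x _ h3
  rw [smul_inv_smul] at h4
  rw [h4]
  exact h3

omit [CharP K p] in
theorem not_fix {g : G} (hg : g • Zs K ≠ Zs K) {t : K} (ht : t ≠ 0) : A.T t • (g • Zs K) ≠ g • Zs K :=
  fun h => hg (A.toBase.semireg A.two ht h)

omit [CharP K p] in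
/-- **Step 2** -/
theorem inf_Z2 {g : G} (hg : g • Zs K ≠ Zs K) {w : V K} (hw : w ∈ g • Zs K) (h0 : w.1 = 0) : w ∈ A.D := by
  by_cases hu : w.2.1 = 0
  · have h1 : w ∈ Zs K := ⟨h0, hu⟩
    have h2 : w ∈ Zs K ⊓ g • Zs K := ⟨h1, hw⟩
    rwa [A.max _ hg] at h2
  · exfalso
    obtain ⟨d, hd, hd0⟩ := A.D_ne
    have hdz := eq_of_mem_Zs (A.D_le hd)
    have hd2 : d.2.2 ≠ 0 := by
      intro h
      apply hd0
      rw [hdz, h]
      rfl
    have h2u : 2 * w.2.1 ≠ 0 := mul_ne_zero A.two hu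
    have ht : d.2.2 / (2 * w.2.1) ≠ 0 := div_ne_zero hd2 h2u
    have h1 : A.T (d.2.2 / (2 * w.2.1)) • w = w + d := by
      have h3 := A.toBase.T_sub (d.2.2 / (2 * w.2.1)) w
      rw [sub_eq_iff_eq_add'] at h3
      rw [h3]
      congr 1
      rw [hdz, h0]
      ext
      · rfl
      · simp
      · show 2 * (d.2.2 / (2 * w.2.1)) * w.2.1 + (d.2.2 / (2 * w.2.1)) ^ 2 * 0 = d.2.2
        have h2 := A.two
        field_simp
        ring
    have h4 : w + d ∈ A.D := by
      refine A.inter (x := g) (y := A.T (d.2.2 / (2 * w.2.1)) * g) ?_ ?_ ?_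
      · rw [mul_smul]
        exact (A.not_fix hg ht).symm
      · exact add_mem hw (A.mem_smul_of_mem_D g hd)
      · rw [← h1, mul_smul]
        exact AddSubgroup.smul_mem_pointwise_smul _ _ _ hw
    have h5 : w ∈ A.D := by
      have := sub_mem h4 hd
      rwa [add_sub_cancel_right] at this
    exact hu (A.D_le h5).2

/-- `W ⊄ D` -/
theorem exists_notMem (g : G) (hg : g • Zs K ≠ Zs K) : ∃ w ∈ g • Zs K, w ∉ A.D := by
  by_contra hcon
  push Not at hcon
  apply hg
  have h1 : g • Zs K ≤ Zs K := fun w hw => A.D_le (hcon w hw)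
  have h2 : Nat.card (g • Zs K : AddSubgroup (V K)) = Nat.card (Zs K) := card_smul g (Zs K)
  exact AddSubgroup.eq_of_le_of_card_ge h1 h2.ge

/-! ### The involution `j` -/

/-- the involution -/
def j (A : Dat p K G) : G := A.ζ ^ ((Fintype.card K - 1) / 2)

omit [Fact p.Prime] [CharP K p] [Finite G] in
theorem even_card : 2 * ((Fintype.card K - 1) / 2) = Fintype.card K - 1 := by
  have h : Odd (Fintype.card K) := by
    rw [← Nat.not_even_iff_odd]
    intro he
    have h1 := FiniteField.even_card_iff_char_two.2 (Nat.even_iff.1 he)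
    have h2 : CharP K 2 := by
      rw [← h1]; exact ringChar.charP K
    exact A.two (by exact_mod_cast (CharP.cast_eq_zero K 2))
  obtain ⟨k, hk⟩ := h
  omega

omit [Fact p.Prime] [CharP K p] [Finite G] in
theorem j_sq : A.j * A.j = 1 := by
  rw [j, ← pow_add, ← two_mul, A.even_card, A.ζ_pow]

omit [Fact p.Prime] [CharP K p] [Finite G] in
theorem act_j : Act (-1 : K) A.j := by
  have h1 := A.hζ.pow ((Fintype.card K - 1) / 2)
  have h2 : A.c ^ ((Fintype.card K - 1) / 2) = -1 := by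
    have h3 : A.c ^ ((Fintype.card K - 1) / 2) * A.c ^ ((Fintype.card K - 1) / 2) = 1 := by
      rw [← pow_add, ← two_mul, A.even_card, ← A.hc, pow_orderOf_eq_one]
    rcases mul_self_eq_one_iff.1 h3 with h4 | h4
    · exfalso
      have h5 := orderOf_dvd_of_pow_eq_one h4
      rw [A.hc] at h5
      have h6 := A.even_card
      have h7 : 1 < Fintype.card K := Fintype.one_lt_card
      have h8 := Nat.le_of_dvd (by omega) h5
      omega
    · exact h4
  rw [h2] at h1
  exact h1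

omit [Fact p.Prime] [CharP K p] [Finite G] in
theorem j_inv : A.j⁻¹ = A.j := inv_eq_of_mul_eq_one_left A.j_sq

omit [Fact p.Prime] [CharP K p] [Finite G] in
theorem j_T (t : K) : A.j * A.T t = A.T (-t) * A.j := by
  have h := A.toBase.conj_T A.two (neg_ne_zero.2 one_ne_zero) A.act_j t
  rw [inv_neg, inv_one, neg_one_mul] at h
  rw [← h, inv_mul_cancel_right]

omit [Fact p.Prime] [CharP K p] [Finite G] in
theorem j_ne_one : A.j ≠ 1 := by
  intro h
  have h1 := (A.act_j.u (0, 1, 0) rfl).2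
  rw [h, one_smul] at h1
  simp only [mul_one] at h1
  apply A.two
  linear_combination h1

omit [Fact p.Prime] [CharP K p] [Finite G] in
theorem TJ_sq (t : K) : (A.T t * A.j) * (A.T t * A.j) = 1 := by
  calc (A.T t * A.j) * (A.T t * A.j) = A.T t * (A.j * A.T t) * A.j := by group
    _ = (A.T t * A.T (-t)) * (A.j * A.j) := by rw [A.j_T]; group
    _ = 1 := by rw [← A.toBase.T_add, add_neg_cancel, A.toBase.T_zero, A.j_sq, one_mul]

omit [Fact p.Prime] [CharP K p] [Finite G] in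
theorem act_TJ (t : K) : Act (-1 : K) (A.T t * A.j) := by
  have h := (A.toBase.act_T t).mul A.act_j
  rwa [one_mul] at h

omit [Fact p.Prime] [CharP K p] [Finite G] in
/-- **Step 3**, existence: a fixed point of some `T t * j` -/
theorem exists_TJ {x : V K} (hx : x.1 ≠ 0) : ∃ t, (A.T t * A.j) • x = x := by
  have hs : (A.j • x).1 = x.1 := by
    rw [A.act_j.s]; ring
  refine ⟨(x.2.1 - (A.j • x).2.1) / x.1, ?_⟩
  set t := (x.2.1 - (A.j • x).2.1) / x.1 with ht
  have hZ : (A.T t * A.j) • x - x ∈ Zs K := by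
    have h1 := A.toBase.T_sub t (A.j • x)
    rw [sub_eq_iff_eq_add'] at h1
    rw [mul_smul, h1, hs]
    refine ⟨?_, ?_⟩
    · show (A.j • x).1 + 0 - x.1 = 0
      rw [hs]; ring
    · show (A.j • x).2.1 + t * x.1 - x.2.1 = 0
      rw [ht]
      field_simp
      ring
  have h2 : (A.T t * A.j) • ((A.T t * A.j) • x - x) = (A.T t * A.j) • x - x := (A.act_TJ t).z _ hZ
  rw [smul_sub, ← mul_smul, A.TJ_sq, one_smul] at h2
  -- `x - τ x = τ x - x`
  have h3 : (2 : K) * ((A.T t * A.j) • x - x).2.2 = 0 := by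
    have h4 := congrArg (fun v : V K => v.2.2) h2
    have h5 : x.2.2 - ((A.T t * A.j) • x).2.2 = ((A.T t * A.j) • x).2.2 - x.2.2 := h4
    show 2 * (((A.T t * A.j) • x).2.2 - x.2.2) = 0
    linear_combination -h5
  have h6 := (mul_eq_zero.1 h3).resolve_left A.two
  have h7 := eq_of_mem_Zs hZ
  rw [h6] at h7
  exact sub_eq_zero.1 h7

omit [CharP K p] in
theorem fx_unique {g : G} (hg : g • Zs K ≠ Zs K) {s t : K} (hs : (A.T s * A.j) • (g • Zs K) = g • Zs K)
    (ht : (A.T t * A.j) • (g • Zs K) = g • Zs K) : s = t := by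
  by_contra hne
  apply A.not_fix hg (sub_ne_zero.2 hne)
  have e : A.T (s - t) = (A.T s * A.j) * (A.T t * A.j)⁻¹ := by
    rw [sub_eq_add_neg, A.toBase.T_add, A.toBase.T_neg]
    group
  rw [e, mul_smul, inv_smul_eq_iff.2 ht.symm, hs]

/-- **Step 3** -/
theorem exists_fx {g : G} (hg : g • Zs K ≠ Zs K) : ∃ t, (A.T t * A.j) • (g • Zs K) = g • Zs K ∧
    ∀ w ∈ g • Zs K, (A.T t * A.j) • w = w := by
  -- one element
  have key : ∀ w ∈ g • Zs K, w ∉ A.D → ∃ t, (A.T t * A.j) • (g • Zs K) = g • Zs K ∧ (A.T t * A.j) • w = w := by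
    intro w hw hwD
    have h0 : w.1 ≠ 0 := fun h => hwD (A.inf_Z2 hg hw h)
    obtain ⟨t, ht⟩ := A.exists_TJ h0
    refine ⟨t, ?_, ht⟩
    by_contra hne
    apply hwD
    refine A.inter (x := A.T t * A.j * g) (y := g) (by rw [mul_smul]; exact hne) ?_ hw
    rw [mul_smul, ← ht]
    exact AddSubgroup.smul_mem_pointwise_smul _ _ _ hw
  obtain ⟨w₀, hw₀, hwD₀⟩ := A.exists_notMem g hg
  obtain ⟨t, ht, -⟩ := key w₀ hw₀ hwD₀
  refine ⟨t, ht, fun w hw => ?_⟩
  by_cases hwD : w ∈ A.D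
  · exact A.D_fix _ _ hwD
  · obtain ⟨s, hs, hsw⟩ := key w hw hwD
    rw [A.fx_unique hg ht hs]
    exact hsw

/-- `j` fixes pointwise the members of the orbit it normalises -/
theorem j_fix {g : G} (hg : A.j • (g • Zs K) = g • Zs K) {w : V K} (hw : w ∈ g • Zs K) : A.j • w = w := by
  by_cases h : g • Zs K = Zs K
  · rw [h] at hw
    exact A.act_j.z w hw
  · obtain ⟨t, ht, htw⟩ := A.exists_fx h
    have h0 : (A.T 0 * A.j) • (g • Zs K) = g • Zs K := by rw [A.toBase.T_zero, one_mul, hg]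
    have h1 : t = 0 := A.fx_unique h ht h0
    subst h1
    have := htw w hw
    rwa [A.toBase.T_zero, one_mul] at this

/-- **The conjugates of `j` normalising `Z`** -/
theorem conj_j {g : G} (hg : (g * A.j * g⁻¹) • Zs K = Zs K) : ∃ t, g * A.j * g⁻¹ = A.T t * A.j := by
  have h1 : A.j • (g⁻¹ • Zs K) = g⁻¹ • Zs K := by
    rw [mul_smul, mul_smul] at hg
    rw [eq_inv_smul_iff]; exact hg
  have hfix : ∀ v : V K, v ∈ Zs K → (g * A.j * g⁻¹) • v = v := by
    intro v hv
    have h2 : g⁻¹ • v ∈ g⁻¹ • Zs K := AddSubgroup.smul_mem_pointwise_smul _ _ _ hv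
    rw [mul_smul, mul_smul, A.j_fix h1 h2, smul_inv_smul]
  obtain ⟨c, hc, hact⟩ := A.toBase.exists_act A.two hfix
  have hsq : (g * A.j * g⁻¹) * (g * A.j * g⁻¹) = 1 := by
    calc (g * A.j * g⁻¹) * (g * A.j * g⁻¹) = g * (A.j * A.j) * g⁻¹ := by group
      _ = 1 := by rw [A.j_sq]; group
  have hcc : c * c = 1 := by
    have h3 := ((hact.mul hact).u (0, 1, 0) rfl).2
    rw [hsq, one_smul] at h3
    simpa using h3.symm
  rcases mul_self_eq_one_iff.1 hcc with h | h
  · exfalso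
    subst h
    obtain ⟨t, ht⟩ := A.toBase.of_act_one hact
    rw [ht, ← A.toBase.T_add, ← A.toBase.T_zero] at hsq
    have h4 := A.toBase.T_inj hsq
    rw [← two_mul] at h4
    have h5 := (mul_eq_zero.1 h4).resolve_left A.two
    rw [h5, A.toBase.T_zero] at ht
    exact A.j_ne_one (conj_eq_one_iff.1 ht)
  · subst h
    have h3 := hact.mul A.act_j
    rw [neg_one_mul, neg_neg] at h3
    obtain ⟨t, ht⟩ := A.toBase.of_act_one h3
    refine ⟨t, ?_⟩
    rw [← ht, mul_assoc (g * A.j * g⁻¹), A.j_sq, mul_one]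

end Dat

end Cfsg.Agent.H812.Sym
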