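import Mathlib
import Cfsg.Agent.H812.SymDat

/-!
# Counting the orbit of `Z` (helper812; S5260-B)
-/

set_option autoImplicit false
set_option linter.unusedSectionVars false

open scoped Pointwise

namespace Cfsg.Agent.H812.Sym

open Cfsg.Agent.H780

namespace Dat

variable {p : ℕ} [Fact p.Prime] {K : Type*} [Field K] [Fintype K] [CharP K p] {G : Type*} [Group G] [Finite G]
  [DistribMulAction G (V K)] (A : Dat p K G)

include A

/-- the stabiliser of `Z` -/
def N (_ : Dat p K G) : Subgroup G := MulAction.stabilizer G (Zs K)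

/-- the centraliser of `j` -/
def C (A : Dat p K G) : Subgroup G := Subgroup.centralizer ({A.j} : Set G)

/-- the orbit of `Z` -/
def Om (_ : Dat p K G) : Set (AddSubgroup (V K)) := MulAction.orbit G (Zs K)

/-- the members of the orbit fixed by `j` -/
def F (A : Dat p K G) : Set (AddSubgroup (V K)) := {W | W ∈ A.Om ∧ A.j • W = W}

theorem mem_N {g : G} : g ∈ A.N ↔ g • Zs K = Zs K := MulAction.mem_stabilizer_iff

theorem mem_C {g : G} : g ∈ A.C ↔ g * A.j = A.j * g := Subgroup.mem_centralizer_singleton_iff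

theorem T_mem_N (t : K) : A.T t ∈ A.N := A.mem_N.2 (A.toBase.act_T t).stab

/-- `T t ∈ C` only for `t = 0` -/
theorem T_mem_C {t : K} (h : A.T t ∈ A.C) : t = 0 := by
  rw [A.mem_C, A.j_T] at h
  have h1 := A.toBase.T_inj (mul_right_cancel h)
  have h2 : 2 * t = 0 := by linear_combination h1
  exact (mul_eq_zero.1 h2).resolve_left A.two

/-- elements `x` with `x j x⁻¹ = T r j` become elements of `C` -/
theorem mem_C_of_conj {x : G} {r : K} (h : x⁻¹ * A.j * x = A.T r * A.j) : x * A.T (r / 2) ∈ A.C := by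
  rw [A.mem_C]
  have h2 := A.two
  have e : A.j * x = x * (A.T r * A.j) := by rw [← h]; group
  calc x * A.T (r / 2) * A.j = x * (A.T (r + -(r / 2)) * A.j) := by
        rw [mul_assoc]
        congr 3
        field_simp
        ring
    _ = x * (A.T r * A.j) * A.T (r / 2) := by
        rw [A.toBase.T_add]
        simp only [mul_assoc]
        rw [A.j_T]
    _ = A.j * (x * A.T (r / 2)) := by rw [← e, mul_assoc]

theorem card_P : Nat.card A.P = Fintype.card K := by
  rw [← Nat.card_eq_fintype_card]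
  symm
  refine Nat.card_congr (Equiv.ofBijective (fun t => (⟨A.T t, A.toBase.T_mem t⟩ : A.P)) ⟨?_, ?_⟩)
  · intro s t h
    exact A.toBase.T_inj (congrArg Subtype.val h)
  · rintro ⟨g, hg⟩
    obtain ⟨t, rfl⟩ := (A.memP g).1 hg
    exact ⟨t, rfl⟩

theorem card_N : Nat.card A.N = Fintype.card K * Nat.card (A.C ⊓ A.N : Subgroup G) := by
  rw [← Nat.card_eq_fintype_card, ← Nat.card_prod]
  symm
  refine Nat.card_congr (Equiv.ofBijective
    (fun x : K × (A.C ⊓ A.N : Subgroup G) => (⟨A.T x.1 * x.2, mul_mem (A.T_mem_N _) x.2.2.2⟩ : A.N)) ⟨?_, ?_⟩)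
  · rintro ⟨s, x, hx⟩ ⟨t, y, hy⟩ h
    have h1 : A.T s * x = A.T t * y := congrArg Subtype.val h
    have h2 : A.T (-t + s) = y * x⁻¹ := by
      rw [A.toBase.T_add, A.toBase.T_neg, inv_mul_eq_iff_eq_mul, ← mul_assoc, ← h1, mul_inv_cancel_right]
    have h3 : -t + s = 0 := by
      apply A.T_mem_C
      rw [h2]
      exact mul_mem hy.1 (inv_mem hx.1)
    have h4 : s = t := by linear_combination h3
    subst h4
    have h5 : x = y := mul_left_cancel h1
    subst h5
    rfl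
  · rintro ⟨g, hg⟩
    have hg' : g⁻¹ ∈ A.N := inv_mem hg
    have hgZ := A.mem_N.1 hg
    have hgZ' := A.mem_N.1 hg'
    have hj : A.j • Zs K = Zs K := A.act_j.stab
    obtain ⟨r, hr⟩ := A.conj_j (g := g) (by rw [mul_smul, mul_smul, hgZ', hj, hgZ])
    have hc : g⁻¹ * A.T (r / 2) ∈ A.C := A.mem_C_of_conj (x := g⁻¹) (by rw [inv_inv]; exact hr)
    refine ⟨⟨r / 2, ⟨A.T (-(r / 2)) * g, ?_, mul_mem (A.T_mem_N _) hg⟩⟩, Subtype.ext ?_⟩
    · have := inv_mem hc
      rwa [mul_inv_rev, inv_inv, ← A.toBase.T_neg] at this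
    · show A.T (r / 2) * (A.T (-(r / 2)) * g) = g
      rw [A.toBase.T_neg, mul_inv_cancel_left]

theorem card_Om : Nat.card A.Om * Nat.card A.N = Nat.card G := by
  have h := MulAction.index_stabilizer G (Zs K)
  have h1 : A.N.index = Nat.card A.Om := h
  rw [← h1, mul_comm]
  exact A.N.card_mul_index

/-- `F` is the orbit of `Z` under `C` -/
theorem F_eq : A.F = MulAction.orbit A.C (Zs K) := by
  ext W
  constructor
  · rintro ⟨⟨g, rfl⟩, hj⟩
    simp only at hj
    have h1 : (g⁻¹ * A.j * g) • Zs K = Zs K := by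
      rw [mul_smul, mul_smul, hj, inv_smul_smul]
    obtain ⟨r, hr⟩ := A.conj_j (g := g⁻¹) (by rw [inv_inv]; exact h1)
    rw [inv_inv] at hr
    refine ⟨⟨g * A.T (r / 2), A.mem_C_of_conj hr⟩, ?_⟩
    show (g * A.T (r / 2)) • Zs K = g • Zs K
    rw [mul_smul, A.mem_N.1 (A.T_mem_N _)]
  · rintro ⟨⟨x, hx⟩, rfl⟩
    refine ⟨⟨x, rfl⟩, ?_⟩
    show A.j • (x • Zs K) = x • Zs K
    rw [← mul_smul, ← A.mem_C.1 hx, mul_smul, A.act_j.stab]

theorem card_F : Nat.card A.F * Nat.card (A.C ⊓ A.N : Subgroup G) = Nat.card A.C := by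
  have h := MulAction.index_stabilizer A.C (Zs K)
  have h1 : (MulAction.stabilizer A.C (Zs K)).index = Nat.card A.F := by rw [h, A.F_eq]; rfl
  have h2 : Nat.card (MulAction.stabilizer A.C (Zs K)) = Nat.card (A.C ⊓ A.N : Subgroup G) :=
    Nat.card_congr
      { toFun := fun x => ⟨(x : A.C), x.1.2, A.mem_N.2 (MulAction.mem_stabilizer_iff.1 x.2)⟩
        invFun := fun x => ⟨⟨x, x.2.1⟩, MulAction.mem_stabilizer_iff.2 (A.mem_N.1 x.2.2)⟩
        left_inv := fun _ => rfl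
        right_inv := fun _ => rfl }
  rw [← h1, ← h2, mul_comm]
  exact Subgroup.card_mul_index _

theorem p_not_dvd : ¬ p ∣ Nat.card A.C := by
  intro h
  obtain ⟨⟨x, hx⟩, hxo⟩ := exists_prime_orderOf_dvd_card' p h
  rw [Subgroup.orderOf_mk] at hxo
  -- conjugate into `P`
  have hp : IsPGroup p (Subgroup.zpowers x) := by
    refine IsPGroup.of_card (n := 1) ?_
    rw [Nat.card_zpowers, hxo, pow_one]
  obtain ⟨Q, hQ⟩ := hp.exists_le_sylow
  obtain ⟨g, hg⟩ := MulAction.exists_smul_eq G Q A.P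
  have h1 : g * x * g⁻¹ ∈ A.P := by
    rw [← hg]
    exact ⟨x, hQ (Subgroup.mem_zpowers x), rfl⟩
  obtain ⟨t, ht⟩ := (A.memP _).1 h1
  have ht0 : t ≠ 0 := by
    rintro rfl
    rw [A.toBase.T_zero, conj_eq_one_iff] at ht
    rw [ht, orderOf_one] at hxo
    exact (Fact.out : p.Prime).one_lt.ne hxo
  -- `g j g⁻¹` commutes with `T t`
  have hcomm : (g * A.j * g⁻¹) * A.T t = A.T t * (g * A.j * g⁻¹) := by
    rw [← ht]
    calc g * A.j * g⁻¹ * (g * x * g⁻¹) = g * (A.j * x) * g⁻¹ := by group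
      _ = g * (x * A.j) * g⁻¹ := by rw [A.mem_C.1 hx]
      _ = g * x * g⁻¹ * (g * A.j * g⁻¹) := by group
  have hZ : (g * A.j * g⁻¹) • Zs K = Zs K := by
    have key : ∀ y : G, y * A.T t = A.T t * y → ∀ v ∈ Zs K, y • v ∈ Zs K := by
      intro y hy v hv
      apply A.toBase.fix_T A.two ht0
      rw [← mul_smul, ← hy, mul_smul, A.toBase.T_Z t hv]
    ext v
    rw [AddSubgroup.mem_pointwise_smul_iff_inv_smul_mem]
    constructor
    · intro hv
      have := key _ hcomm _ hv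
      rwa [smul_inv_smul] at this
    · intro hv
      refine key _ ?_ v hv
      rw [inv_mul_eq_iff_eq_mul, ← mul_assoc, hcomm, mul_inv_cancel_right]
  obtain ⟨r, hr⟩ := A.conj_j hZ
  rw [hr] at hcomm
  apply ht0
  apply A.T_mem_C
  rw [A.mem_C]
  have h2 : A.T r * (A.j * A.T t) = A.T r * (A.T t * A.j) := by
    rw [← mul_assoc, hcomm, ← mul_assoc, A.toBase.T_comm, mul_assoc]
  exact (mul_left_cancel h2).symm

theorem card_mul_dvd : Fintype.card K * Nat.card A.C ∣ Nat.card G := by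
  refine Nat.Coprime.mul_dvd_of_dvd_of_dvd ?_ ?_ (Subgroup.card_subgroup_dvd_card _)
  · obtain ⟨n, hn⟩ := IsPGroup.iff_card.1 A.P.2
    rw [← A.card_P, hn]
    exact Nat.Coprime.pow_left n (((Fact.out : p.Prime).coprime_iff_not_dvd).2 A.p_not_dvd)
  · rw [← A.card_P]
    exact Subgroup.card_subgroup_dvd_card _

theorem F_dvd : Nat.card A.F ∣ Nat.card A.Om := by
  have h1 := A.card_mul_dvd
  rw [← A.card_F, ← A.card_Om, A.card_N] at h1
  obtain ⟨k, hk⟩ := h1
  have hpos : 0 < Fintype.card K * Nat.card (A.C ⊓ A.N : Subgroup G) :=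
    Nat.mul_pos Fintype.card_pos Nat.card_pos
  refine ⟨k, ?_⟩
  apply Nat.eq_of_mul_eq_mul_right hpos
  rw [hk]
  ring

/-! ### `|Ω| = 1 + q n` -/

/-- the members of `F` different from `Z` -/
def F' (A : Dat p K G) : Set (AddSubgroup (V K)) := {W | W ∈ A.F ∧ W ≠ Zs K}

theorem card_F' : Nat.card A.F = Nat.card A.F' + 1 := by
  classical
  have hZ : Zs K ∈ A.F := ⟨⟨1, one_smul _ _⟩, A.act_j.stab⟩
  have h1 : A.F = insert (Zs K) A.F' := by
    ext W
    constructor
    · intro h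
      by_cases hW : W = Zs K
      · exact Or.inl hW
      · exact Or.inr ⟨h, hW⟩
    · rintro (rfl | h)
      · exact hZ
      · exact h.1
  rw [h1, Nat.card_coe_set_eq, Set.ncard_insert_of_notMem (fun h => h.2 rfl) (Set.toFinite _), Nat.card_coe_set_eq]

theorem smul_mem_Om {W : AddSubgroup (V K)} (g : G) (h : W ∈ A.Om) : g • W ∈ A.Om := by
  obtain ⟨x, rfl⟩ := h
  exact ⟨g * x, mul_smul _ _ _⟩

theorem card_Om' : Nat.card A.Om = Fintype.card K * Nat.card A.F' + 1 := by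
  classical
  have hZ : Zs K ∈ A.Om := ⟨1, one_smul _ _⟩
  have h1 : A.Om = insert (Zs K) {W | W ∈ A.Om ∧ W ≠ Zs K} := by
    ext W
    constructor
    · intro h
      by_cases hW : W = Zs K
      · exact Or.inl hW
      · exact Or.inr ⟨h, hW⟩
    · rintro (rfl | h)
      · exact hZ
      · exact h.1
  rw [h1, Nat.card_coe_set_eq, Set.ncard_insert_of_notMem (fun h => h.2 rfl) (Set.toFinite _)]
  congr 1
  rw [← Nat.card_coe_set_eq, ← Nat.card_eq_fintype_card, ← Nat.card_prod]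
  symm
  have hTZ : ∀ (t : K) (W : AddSubgroup (V K)), W ≠ Zs K → A.T t • W ≠ Zs K := by
    intro t W hW h
    apply hW
    rw [← A.mem_N.1 (A.T_mem_N t)] at h
    exact smul_left_cancel _ h
  refine Nat.card_congr (Equiv.ofBijective (fun x : K × A.F' => (⟨A.T x.1 • (x.2 : AddSubgroup (V K)),
    A.smul_mem_Om _ x.2.2.1.1, hTZ _ _ x.2.2.2⟩ : {W | W ∈ A.Om ∧ W ≠ Zs K})) ⟨?_, ?_⟩)
  · rintro ⟨s, W, ⟨⟨⟨x, rfl⟩, hj⟩, hne⟩⟩ ⟨t, W', ⟨⟨hO', hj'⟩, hne'⟩⟩ h
    have h1 : A.T s • (x • Zs K) = A.T t • W' := congrArg Subtype.val h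
    simp only at hj hne
    -- `W' = T (s - t) W`
    have h2 : W' = A.T (-t + s) • (x • Zs K) := by
      rw [A.toBase.T_add, A.toBase.T_neg, mul_smul, h1, inv_smul_smul]
    -- `T (2 (s - t)) j` fixes `W'`, and `j` fixes `W'`
    have hne2 : (A.T (-t + s) * x) • Zs K ≠ Zs K := by rw [mul_smul, ← h2]; exact hne'
    have h3 : (A.T (2 * (-t + s)) * A.j) • ((A.T (-t + s) * x) • Zs K) = (A.T (-t + s) * x) • Zs K := by
      have e : A.T (2 * (-t + s)) * A.j * (A.T (-t + s) * x) = A.T (-t + s) * (A.j * x) := by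
        rw [two_mul, A.toBase.T_add]
        calc A.T (-t + s) * A.T (-t + s) * A.j * (A.T (-t + s) * x)
            = A.T (-t + s) * A.T (-t + s) * (A.j * A.T (-t + s)) * x := by group
          _ = A.T (-t + s) * (A.T (-t + s) * A.T (-(-t + s))) * A.j * x := by rw [A.j_T]; group
          _ = A.T (-t + s) * (A.j * x) := by
            rw [← A.toBase.T_add, add_neg_cancel, A.toBase.T_zero]; group
      rw [← mul_smul, e, mul_smul, mul_smul, hj, ← mul_smul]
    have h4 : (A.T 0 * A.j) • ((A.T (-t + s) * x) • Zs K) = (A.T (-t + s) * x) • Zs K := by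
      rw [A.toBase.T_zero, one_mul, mul_smul (A.T (-t + s)), ← h2, hj']
    have h5 := A.fx_unique hne2 h3 h4
    have h6 := (mul_eq_zero.1 h5).resolve_left A.two
    have h7 : s = t := by linear_combination h6
    subst h7
    have h8 : W' = x • Zs K := by rw [h2, neg_add_cancel, A.toBase.T_zero, one_smul]
    subst h8
    rfl
  · rintro ⟨W, ⟨⟨x, rfl⟩, hne⟩⟩
    simp only at hne
    obtain ⟨t, ht, -⟩ := A.exists_fx hne
    have h2 := A.two
    refine ⟨⟨t / 2, ⟨A.T (-(t / 2)) • (x • Zs K), ⟨⟨A.smul_mem_Om _ ⟨x, rfl⟩, ?_⟩, hTZ _ _ hne⟩⟩⟩, Subtype.ext ?_⟩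
    · -- `j T(-t/2) = T(t/2) j`, `T(t) j W = W`
      have e : A.j * A.T (-(t / 2)) = A.T (-(t / 2)) * (A.T t * A.j) := by
        rw [A.j_T, neg_neg, ← mul_assoc, ← A.toBase.T_add]
        congr 2
        field_simp
        ring
      rw [← mul_smul, e, mul_smul, ht]
    · show A.T (t / 2) • (A.T (-(t / 2)) • (x • Zs K)) = x • Zs K
      rw [A.toBase.T_neg, smul_inv_smul]

theorem F'_pos : 0 < Nat.card A.F' := by
  by_contra hcon
  have h0 : Nat.card A.F' = 0 := by omega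
  have h1 := A.card_Om'
  rw [h0, mul_zero, zero_add] at h1
  obtain ⟨g, hg⟩ := A.move
  rw [Nat.card_coe_set_eq, Set.ncard_eq_one] at h1
  obtain ⟨W, hW⟩ := h1
  have h2 : Zs K ∈ A.Om := ⟨1, one_smul _ _⟩
  have h3 : g • Zs K ∈ A.Om := ⟨g, rfl⟩
  rw [hW] at h2 h3
  rw [Set.mem_singleton_iff] at h2 h3
  exact hg (h3.trans h2.symm)

/-- `f` divides `q - 1` -/
theorem F_dvd' : (Nat.card A.F' + 1) ∣ Fintype.card K - 1 := by
  have h1 := A.F_dvd
  rw [A.card_Om', A.card_F'] at h1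
  have hq : 1 ≤ Fintype.card K := Fintype.card_pos
  obtain ⟨m, hm⟩ : ∃ m, Fintype.card K = m + 1 := ⟨Fintype.card K - 1, by omega⟩
  rw [hm] at h1 ⊢
  -- `(m+1) n + 1 = (m+1)(n+1) - m`
  have h2 : (m + 1) * Nat.card A.F' + 1 + m = (m + 1) * (Nat.card A.F' + 1) := by ring
  have h3 : (Nat.card A.F' + 1) ∣ (m + 1) * Nat.card A.F' + 1 + m := by rw [h2]; exact Dvd.intro_left _ rfl
  have h4 := (Nat.dvd_add_right h1).1 h3
  simpa using h4

end Dat

end Cfsg.Agent.H812.Sym
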