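import Mathlib
import Cfsg.Agent.H812.SymCount

/-!
# The orders of `D` and of the image of `W` (helper812; S5260-B, steps 6-7)
-/

set_option autoImplicit false
set_option linter.unusedSectionVars false

open scoped Pointwise

namespace Cfsg.Agent.H812.Sym

open Cfsg.Agent.H780

namespace Dat

variable {p : ℕ} [Fact p.Prime] {K : Type*} [Field K] [Fintype K] [CharP K p] {G : Type*} [Group G] [Finite G]
  [DistribMulAction G (V K)] (A : Dat p K G)

include A

/-- **Step 6** -/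
theorem six {W : AddSubgroup (V K)} (hW : W ∈ A.F') {w : V K} (hw : w ∈ W) (h0 : w.1 ≠ 0) {t : K} (ht : t ≠ 0) :
    ((0, 0, t ^ 2 * w.1) : V K) ∉ A.D := by
  intro hd
  obtain ⟨hF, hne⟩ := hW
  have hF2 := hF
  rw [A.F_eq] at hF2
  obtain ⟨⟨g, hg⟩, rfl⟩ := hF2
  have hw' : w ∈ g • Zs K := hw
  have hne' : g • Zs K ≠ Zs K := hne
  have hgj : A.j * g = g * A.j := (A.mem_C.1 hg).symm
  have hjw : A.j • w = w := A.j_fix hF.2 hw
  set d : V K := (0, 0, t ^ 2 * w.1) with hdef
  set v : V K := (0, t * w.1, 2 * t * w.2.1) with hv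
  -- `T t w = w + d + v`, `T (-t) w = w + d - v`
  have h1 : A.T t • w = w + d + v := by
    have := A.toBase.T_sub t w
    rw [sub_eq_iff_eq_add'] at this
    rw [this, add_assoc]
    congr 1
    ext
    · simp [hdef, hv]
    · simp [hdef, hv]
    · show 2 * t * w.2.1 + t ^ 2 * w.1 = t ^ 2 * w.1 + 2 * t * w.2.1
      ring
  have h2 : A.T (-t) • w = w + d - v := by
    have := A.toBase.T_sub (-t) w
    rw [sub_eq_iff_eq_add'] at this
    rw [this, add_sub_assoc]
    congr 1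
    ext
    · simp [hdef, hv]
    · simp [hdef, hv]
    · show 2 * -t * w.2.1 + (-t) ^ 2 * w.1 = t ^ 2 * w.1 - 2 * t * w.2.1
      ring
  -- `j v = -v`
  have hjd : A.j • d = d := A.D_fix _ _ hd
  have hjv : A.j • v = -v := by
    have h3 : A.j • (A.T t • w) = A.T (-t) • w := by
      rw [← mul_smul, A.j_T, mul_smul, hjw]
    rw [h1, h2, smul_add, smul_add, hjw, hjd] at h3
    have h4 : w + d + A.j • v = w + d + -v := by rw [h3, sub_eq_add_neg]
    exact add_left_cancel h4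
  -- `y = g⁻¹ v` is in `Z₂ ∖ Z`
  have hjy : A.j • (g⁻¹ • v) = -(g⁻¹ • v) := by
    rw [← mul_smul]
    have e : A.j * g⁻¹ = g⁻¹ * A.j := by
      rw [eq_inv_mul_iff_mul_eq, ← mul_assoc, ← hgj, mul_inv_cancel_right]
    rw [e, mul_smul, hjv, smul_neg]
  set y : V K := g⁻¹ • v with hy
  have hy1 : y.1 = 0 := by
    have h3 := A.act_j.s y
    rw [hjy] at h3
    have h4 : -y.1 = (-1) ^ 2 * y.1 := h3
    have h5 : 2 * y.1 = 0 := by linear_combination -h4
    exact (mul_eq_zero.1 h5).resolve_left A.two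
  have hv0 : v ≠ 0 := by
    intro h
    have h3 := congrArg (fun v : V K => v.2.1) h
    have h4 : t * w.1 = 0 := h3
    exact (mul_ne_zero ht h0) h4
  have hy0 : y ≠ 0 := by
    intro h
    apply hv0
    rw [← smul_inv_smul g v, ← hy, h, smul_zero]
  have hy2 : y.2.1 ≠ 0 := by
    intro h
    have h3 : y ∈ Zs K := ⟨hy1, h⟩
    have h4 := A.act_j.z y h3
    rw [hjy] at h4
    have h5 : -y.2.2 = y.2.2 := congrArg (fun v : V K => v.2.2) h4
    have h6 : 2 * y.2.2 = 0 := by linear_combination -h5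
    have h7 := (mul_eq_zero.1 h6).resolve_left A.two
    apply hy0
    rw [eq_of_mem_Zs h3, h7]
    rfl
  -- `w' = w + d ∈ W`
  have hw2 : g⁻¹ • (w + d) ∈ Zs K :=
    AddSubgroup.mem_pointwise_smul_iff_inv_smul_mem.1 (add_mem hw' (A.mem_smul_of_mem_D g hd))
  -- `θ = T r` with `T r y = y - g⁻¹ w'`
  obtain ⟨r, hr⟩ : ∃ r : K, A.T r • y = y - g⁻¹ • (w + d) := by
    have h2y : 2 * y.2.1 ≠ 0 := mul_ne_zero A.two hy2
    refine ⟨-(g⁻¹ • (w + d)).2.2 / (2 * y.2.1), ?_⟩
    have h3 := A.toBase.T_sub (-(g⁻¹ • (w + d)).2.2 / (2 * y.2.1)) y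
    rw [sub_eq_iff_eq_add'] at h3
    rw [h3, sub_eq_add_neg]
    congr 1
    have h4 := eq_of_mem_Zs hw2
    generalize g⁻¹ • (w + d) = x at h4 ⊢
    rw [h4, hy1]
    ext
    · simp
    · simp
    · have h2 := A.two
      show 2 * (-x.2.2 / (2 * y.2.1)) * y.2.1 + (-x.2.2 / (2 * y.2.1)) ^ 2 * 0 = -x.2.2
      field_simp
      ring
  -- `θ' = g T(r) g⁻¹`
  have hθv : (g * A.T r * g⁻¹) • v = v - (w + d) := by
    rw [mul_smul, mul_smul, ← hy, hr, smul_sub, smul_inv_smul, smul_inv_smul]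
  have hθw : (g * A.T r * g⁻¹) • (w + d) = w + d := by
    rw [mul_smul, mul_smul, A.toBase.T_Z r hw2, smul_inv_smul]
  have hθ : (g * A.T r * g⁻¹) • (A.T t • w) = v := by
    rw [h1, smul_add, hθw, hθv]
    abel
  -- `v` is in a member of the orbit
  have hvW : v ∈ (g * A.T r * g⁻¹ * A.T t * g) • Zs K := by
    have h3 : (g * A.T r * g⁻¹ * A.T t * g) • Zs K = (g * A.T r * g⁻¹) • (A.T t • (g • Zs K)) := by
      rw [mul_smul, mul_smul]
    rw [h3, ← hθ]
    exact AddSubgroup.smul_mem_pointwise_smul _ _ _ (AddSubgroup.smul_mem_pointwise_smul _ _ _ hw')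
  have hvZ : v ∉ Zs K := fun h => mul_ne_zero ht h0 h.2
  have hne3 : (g * A.T r * g⁻¹ * A.T t * g) • Zs K ≠ Zs K := fun h => by rw [h] at hvW; exact hvZ hvW
  exact hvZ (A.D_le (A.inf_Z2 hne3 hvW rfl))

/-- the values on `D` -/
def D' (A : Dat p K G) : AddSubgroup K where
  carrier := {z | ((0, 0, z) : V K) ∈ A.D}
  zero_mem' := A.D.zero_mem
  add_mem' := by
    intro a b ha hb
    have := A.D.add_mem ha hb
    simpa using this
  neg_mem' := by
    intro a ha
    have := A.D.neg_mem ha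
    simpa using this

theorem card_D' : Nat.card A.D' = Nat.card A.D := by
  refine Nat.card_congr
    { toFun := fun z => ⟨(0, 0, (z : K)), z.2⟩
      invFun := fun d => ⟨(d : V K).2.2, ?_⟩
      left_inv := fun z => rfl
      right_inv := fun d => Subtype.ext (eq_of_mem_Zs (A.D_le d.2)).symm }
  show ((0, 0, (d : V K).2.2) : V K) ∈ A.D
  rw [← eq_of_mem_Zs (A.D_le d.2)]
  exact d.2

/-- first coordinates -/
def Sg (W : AddSubgroup (V K)) : AddSubgroup K := W.map (AddMonoidHom.fst K (K × K))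

omit A in
theorem mem_Sg {W : AddSubgroup (V K)} {x : K} : x ∈ Sg W ↔ ∃ w ∈ W, w.1 = x := Iff.rfl

theorem card_Zs : Nat.card (Zs K) = Fintype.card K := by
  rw [← Nat.card_eq_fintype_card]
  exact Nat.card_congr
    { toFun := fun v => (v : V K).2.2
      invFun := fun z => ⟨(0, 0, z), mem_Zs' z⟩
      left_inv := fun v => Subtype.ext (eq_of_mem_Zs v.2).symm
      right_inv := fun z => rfl }

theorem card_Sg {W : AddSubgroup (V K)} (hW : W ∈ A.F') : Nat.card A.D' * Nat.card (Sg W) = Fintype.card K := by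
  obtain ⟨⟨⟨g, rfl⟩, hj⟩, hne⟩ := hW
  have hne' : g • Zs K ≠ Zs K := hne
  have h1 : Nat.card (g • Zs K : AddSubgroup (V K)) = Fintype.card K := by rw [card_smul, A.card_Zs]
  let f : (g • Zs K : AddSubgroup (V K)) →+ K := (AddMonoidHom.fst K (K × K)).comp (g • Zs K : AddSubgroup (V K)).subtype
  have hr : f.range = Sg (g • Zs K) := by
    ext x
    constructor
    · rintro ⟨⟨w, hw⟩, rfl⟩
      exact ⟨w, hw, rfl⟩
    · rintro ⟨w, hw, rfl⟩
      exact ⟨⟨w, hw⟩, rfl⟩
  have hk : Nat.card f.ker = Nat.card A.D := by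
    refine Nat.card_congr
      { toFun := fun w => ⟨((w : (g • Zs K : AddSubgroup (V K))) : V K), A.inf_Z2 hne' w.1.2 w.2⟩
        invFun := fun d => ⟨⟨(d : V K), A.mem_smul_of_mem_D g d.2⟩, (A.D_le d.2).1⟩
        left_inv := fun w => rfl
        right_inv := fun d => rfl }
  have h2 := f.ker.card_mul_index
  rw [AddSubgroup.index_ker, hr, hk, h1, ← A.card_D'] at h2
  exact h2

theorem not_isSquare {W : AddSubgroup (V K)} (hW : W ∈ A.F') {x y : K} (hx : x ∈ Sg W) (hx0 : x ≠ 0)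
    (hy : y ∈ A.D') (hy0 : y ≠ 0) : ¬ IsSquare (x * y) := by
  rintro ⟨a, ha⟩
  obtain ⟨w, hw, rfl⟩ := hx
  have ha0 : a ≠ 0 := by
    rintro rfl
    rw [mul_zero] at ha
    exact mul_ne_zero hx0 hy0 ha
  apply A.six hW hw hx0 (t := a / w.1) (div_ne_zero ha0 hx0)
  have e : (a / w.1) ^ 2 * w.1 = y := by
    have h1 : w.1 ≠ 0 := hx0
    have h2 : w.1 * y = a * a := ha
    field_simp
    linear_combination -h2
  rw [e]
  exact hy

/-- there is a nonzero element in `D'` -/
theorem exists_D' : ∃ y ∈ A.D', y ≠ 0 := by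
  obtain ⟨d, hd, hd0⟩ := A.D_ne
  refine ⟨d.2.2, ?_, fun h => hd0 ?_⟩
  · show ((0, 0, d.2.2) : V K) ∈ A.D
    rw [← eq_of_mem_Zs (A.D_le hd)]
    exact hd
  · rw [eq_of_mem_Zs (A.D_le hd), h]
    rfl

theorem exists_Sg {W : AddSubgroup (V K)} (hW : W ∈ A.F') : ∃ x ∈ Sg W, x ≠ 0 := by
  obtain ⟨⟨⟨g, rfl⟩, hj⟩, hne⟩ := hW
  obtain ⟨w, hw, hwD⟩ := A.exists_notMem g hne
  exact ⟨w.1, ⟨w, hw, rfl⟩, fun h => hwD (A.inf_Z2 hne hw h)⟩

omit A in
/-- additive subgroups whose nonzero elements are in one class modulo squares -/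
theorem card_sq_le {X : AddSubgroup K} {y : K} (h2 : (2 : K) ≠ 0)
    (h : ∀ x ∈ X, x ≠ 0 → ¬ IsSquare (x * y)) : Nat.card X * Nat.card X ≤ Fintype.card K := by
  classical
  have hchar : ringChar K ≠ 2 := by
    intro h3
    apply h2
    have h4 : CharP K 2 := by rw [← h3]; exact ringChar.charP K
    exact_mod_cast (CharP.cast_eq_zero K 2)
  obtain ⟨ν, hν⟩ := FiniteField.exists_nonsquare hchar
  have hν0 : ν ≠ 0 := by
    rintro rfl
    exact hν ⟨0, by simp⟩
  rw [← Nat.card_prod, ← Nat.card_eq_fintype_card]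
  refine Nat.card_le_card_of_injective (fun x : X × X => (x.1 : K) + ν * (x.2 : K)) ?_
  rintro ⟨a, b⟩ ⟨a', b'⟩ he
  have he' : (a : K) + ν * b = a' + ν * b' := he
  have h3 : ((a - a' : X) : K) = ν * ((b' - b : X) : K) := by
    push_cast
    linear_combination he'
  by_cases hb : ((b' - b : X) : K) = 0
  · have hb' : b = b' := by
      have h5 : (b : K) = b' := by
        push_cast at hb
        linear_combination -hb
      exact Subtype.ext h5
    have ha' : a = a' := by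
      rw [hb, mul_zero] at h3
      have h5 : (a : K) = a' := by
        push_cast at h3
        linear_combination h3
      exact Subtype.ext h5
    rw [ha', hb']
  · exfalso
    have ha : ((a - a' : X) : K) ≠ 0 := by rw [h3]; exact mul_ne_zero hν0 hb
    have c1 := h _ (a - a').2 ha
    have c2 := h _ (b' - b).2 hb
    have d1 := quadraticChar_neg_one_iff_not_isSquare.2 c1
    have d2 := quadraticChar_neg_one_iff_not_isSquare.2 c2
    have d3 := quadraticChar_neg_one_iff_not_isSquare.2 hν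
    rw [h3, map_mul, map_mul] at d1
    rw [map_mul] at d2
    rw [mul_assoc, d2, d3] at d1
    norm_num at d1

/-- **Step 7** -/
theorem card_eq {W : AddSubgroup (V K)} (hW : W ∈ A.F') :
    Nat.card (Sg W) = Nat.card A.D' ∧ Nat.card A.D' * Nat.card A.D' = Fintype.card K := by
  obtain ⟨y, hy, hy0⟩ := A.exists_D'
  obtain ⟨x, hx, hx0⟩ := A.exists_Sg hW
  have h1 := card_sq_le (X := Sg W) A.two (fun x' hx' hx0' => A.not_isSquare hW hx' hx0' hy hy0)
  have h2 := card_sq_le (X := A.D') A.two (fun y' hy' hy0' => by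
    rw [mul_comm]; exact A.not_isSquare hW hx hx0 hy' hy0')
  have h3 := A.card_Sg hW
  have h4 : 0 < Nat.card A.D' := Nat.card_pos
  have h5 : 0 < Nat.card (Sg W) := Nat.card_pos
  rw [← h3] at h1 h2
  have h6 : Nat.card (Sg W) ≤ Nat.card A.D' := Nat.le_of_mul_le_mul_right h1 h5
  have h7 : Nat.card A.D' ≤ Nat.card (Sg W) := Nat.le_of_mul_le_mul_left h2 h4
  have h8 := le_antisymm h6 h7
  exact ⟨h8, by rw [← h3, h8]⟩

end Dat

end Cfsg.Agent.H812.Sym
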