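import Mathlib
import Cfsg.Agent.H812.SymSix

/-!
# The contradiction (helper812; S5260-B, steps 8-9)
-/

set_option autoImplicit false
set_option linter.unusedSectionVars false
set_option linter.unusedVariables false

open scoped Pointwise

namespace Cfsg.Agent.H812.Sym

open Cfsg.Agent.H780

/-! ### Orbits -/

/-- if all the orbits have size divisible by `m` (after multiplication by `k`), so has the set -/
theorem dvd_card_of_orbits {H X : Type*} [Group H] [MulAction H X] [Finite X] {m k : ℕ}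
    (h : ∀ x : X, m ∣ k * Nat.card (MulAction.orbit H x)) : m ∣ k * Nat.card X := by
  classical
  have hfin : Finite (Quotient (MulAction.orbitRel H X)) := Quotient.finite _
  have := Fintype.ofFinite (Quotient (MulAction.orbitRel H X))
  rw [Nat.card_congr (MulAction.selfEquivSigmaOrbits' H X)]
  rw [Nat.card_sigma, Finset.mul_sum]
  refine Finset.dvd_sum fun ω _ => ?_
  induction ω using Quotient.inductionOn with
  | h x => exact h x

/-- elements of order `l` in a group acting faithfully on `V` -/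
theorem no_order {K : Type*} [Field K] [Fintype K] {G : Type*} [Group G] [Finite G] [DistribMulAction G (V K)]
    (faith : ∀ g : G, (∀ v : V K, g • v = v) → g = 1) {l P N : ℕ} (hl : l.Prime) (hP : P.Prime)
    (hd : l ∣ Nat.card G) (hc : Nat.card (V K) = P ^ N) (h : ∀ a < N, ¬ P ^ N ≡ P ^ a [MOD l]) : False := by
  have : Fact l.Prime := ⟨hl⟩
  obtain ⟨g, hg⟩ := exists_prime_orderOf_dvd_card' l hd
  have hp : IsPGroup l (Subgroup.zpowers g) := IsPGroup.of_card (n := 1) (by rw [Nat.card_zpowers, hg, pow_one])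
  have h1 := hp.card_modEq_card_fixedPoints (V K)
  let Fx : AddSubgroup (V K) :=
    { carrier := {v | g • v = v}
      zero_mem' := smul_zero g
      add_mem' := fun {a b} ha hb => by
        show g • (a + b) = a + b
        rw [smul_add, show g • a = a from ha, show g • b = b from hb]
      neg_mem' := fun {a} ha => by
        show g • (-a) = -a
        rw [smul_neg, show g • a = a from ha] }
  have h2 : Nat.card (MulAction.fixedPoints (Subgroup.zpowers g) (V K)) = Nat.card Fx := by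
    refine Nat.card_congr (Equiv.subtypeEquivRight fun v => ?_)
    rw [MulAction.mem_fixedPoints]
    constructor
    · intro h
      exact h ⟨g, Subgroup.mem_zpowers g⟩
    · rintro hv ⟨x, hx⟩
      show x • v = v
      obtain ⟨k, rfl⟩ := Subgroup.mem_zpowers_iff.1 hx
      have h4 : g ∈ MulAction.stabilizer G v := hv
      exact (MulAction.stabilizer G v).zpow_mem h4 k
  have h3 : Nat.card Fx ∣ P ^ N := by rw [← hc]; exact AddSubgroup.card_addSubgroup_dvd_card Fx
  obtain ⟨a, ha, hFa⟩ := (Nat.dvd_prime_pow hP).1 h3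
  rw [h2, hFa, hc] at h1
  rcases Nat.lt_or_ge a N with ha' | ha'
  · exact h a ha' h1
  · have haN : a = N := le_antisymm ha ha'
    have h5 : Fx = ⊤ := by
      apply AddSubgroup.eq_top_of_card_eq
      rw [hFa, hc, haN]
    have h6 : g = 1 := faith g fun v => by
      have : v ∈ Fx := by rw [h5]; exact AddSubgroup.mem_top v
      exact this
    rw [h6, orderOf_one] at hg
    exact hl.one_lt.ne hg

namespace Dat

variable {p : ℕ} [Fact p.Prime] {K : Type*} [Field K] [Fintype K] [CharP K p] {G : Type*} [Group G] [Finite G]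
  [DistribMulAction G (V K)] (A : Dat p K G)

include A

theorem c_ne : A.c ≠ 0 := by
  intro h
  have h1 := A.hc
  have h2 : 1 < Fintype.card K := Fintype.one_lt_card
  have h3 : A.c ^ (orderOf A.c) = 1 := pow_orderOf_eq_one _
  rw [h1, h, zero_pow (by omega)] at h3
  exact zero_ne_one h3

theorem c_pow_of_ζ_pow {m : ℕ} (h : A.ζ ^ m = 1) : A.c ^ m = 1 := by
  have h1 := (A.hζ.pow m).u (0, 1, 0) rfl
  rw [h, one_smul] at h1
  simpa using h1.2.symm

theorem ζ_pow_of_c_pow {m : ℕ} (h : A.c ^ m = 1) : A.ζ ^ m = 1 := by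
  have h1 := orderOf_dvd_of_pow_eq_one h
  rw [A.hc] at h1
  obtain ⟨k, rfl⟩ := h1
  rw [pow_mul, A.ζ_pow, one_pow]

theorem orderOf_ζ : orderOf A.ζ = Fintype.card K - 1 := by
  apply Nat.dvd_antisymm
  · exact orderOf_dvd_of_pow_eq_one A.ζ_pow
  · rw [← A.hc]
    exact orderOf_dvd_of_pow_eq_one (A.c_pow_of_ζ_pow (pow_orderOf_eq_one _))

/-- multiplication on `Sg W` -/
theorem scal {W : AddSubgroup (V K)} {m : ℕ} (h : A.ζ ^ m • W = W) :
    ((A.c ^ m) ^ 2) ^ (Nat.card (Sg W) - 1) = 1 := by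
  classical
  have hl : (A.c ^ m) ^ 2 ≠ 0 := pow_ne_zero 2 (pow_ne_zero m A.c_ne)
  have hmap : ∀ x ∈ Sg W, (A.c ^ m) ^ 2 * x ∈ Sg W := by
    rintro _ ⟨w, hw, rfl⟩
    refine ⟨A.ζ ^ m • w, ?_, (A.hζ.pow m).s w⟩
    rw [← h]
    exact AddSubgroup.smul_mem_pointwise_smul _ _ _ hw
  set lam := (A.c ^ m) ^ 2 with hlam
  let s : Finset K := Finset.univ.filter fun x => x ∈ Sg W ∧ x ≠ 0
  have hs : s.card = Nat.card (Sg W) - 1 := by
    have h1 : insert 0 s = Finset.univ.filter fun x => x ∈ Sg W := by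
      ext x
      simp only [s, Finset.mem_insert, Finset.mem_filter, Finset.mem_univ, true_and]
      constructor
      · rintro (rfl | h)
        · exact (Sg W).zero_mem
        · exact h.1
      · intro h
        by_cases hx : x = 0
        · exact Or.inl hx
        · exact Or.inr ⟨h, hx⟩
    have h2 : (insert 0 s).card = s.card + 1 := Finset.card_insert_of_notMem (by simp [s])
    have h3 : (insert 0 s).card = Nat.card (Sg W) := by
      rw [h1, Nat.card_eq_fintype_card, Fintype.card_subtype]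
    omega
  have hprod : ∏ x ∈ s, (lam * x) = ∏ x ∈ s, x := by
    refine Finset.prod_bij (fun x _ => lam * x) ?_ ?_ ?_ (fun _ _ => rfl)
    · intro x hx
      simp only [s, Finset.mem_filter, Finset.mem_univ, true_and] at hx ⊢
      exact ⟨hmap x hx.1, mul_ne_zero hl hx.2⟩
    · intro x _ y _ h
      exact mul_left_cancel₀ hl h
    · have hinj : Set.InjOn (fun x => lam * x) (s : Set K) := fun x _ y _ h => mul_left_cancel₀ hl h
      have himg : s.image (fun x => lam * x) = s := by
        apply Finset.eq_of_subset_of_card_le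
        · intro y hy
          obtain ⟨x, hx, rfl⟩ := Finset.mem_image.1 hy
          simp only [s, Finset.mem_filter, Finset.mem_univ, true_and] at hx ⊢
          exact ⟨hmap x hx.1, mul_ne_zero hl hx.2⟩
        · rw [Finset.card_image_of_injOn hinj]
      intro y hy
      rw [← himg] at hy
      obtain ⟨x, hx, rfl⟩ := Finset.mem_image.1 hy
      exact ⟨x, hx, rfl⟩
  rw [Finset.prod_mul_distrib, Finset.prod_const, hs] at hprod
  have hne : ∏ x ∈ s, x ≠ 0 := Finset.prod_ne_zero_iff.2 fun x hx => by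
    simp only [s, Finset.mem_filter] at hx
    exact hx.2.2
  exact mul_right_cancel₀ hne (by rw [hprod, one_mul])

theorem ζ_stab (m : ℕ) {W : AddSubgroup (V K)} (hW : W ∈ A.F') : A.ζ ^ m • W ∈ A.F' := by
  obtain ⟨⟨hO, hj⟩, hne⟩ := hW
  refine ⟨⟨A.smul_mem_Om _ hO, ?_⟩, ?_⟩
  · rw [← mul_smul, j, ← pow_add, add_comm, pow_add, mul_smul]
    congr 1
  · intro h
    apply hne
    rw [← (A.hζ.pow m).stab] at h
    exact smul_left_cancel _ h

theorem exists_pow {x : G} (hx : x ∈ Subgroup.zpowers A.ζ) : ∃ m : ℕ, A.ζ ^ m = x :=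
  (isOfFinOrder_of_finite A.ζ).mem_powers_iff_mem_zpowers.2 hx

theorem zstab {x : G} (hx : x ∈ Subgroup.zpowers A.ζ) {W : AddSubgroup (V K)} (hW : W ∈ A.F') : x • W ∈ A.F' := by
  obtain ⟨m, rfl⟩ := A.exists_pow hx
  exact A.ζ_stab m hW

/-- the action of `⟨ζ⟩` on `F'` -/
@[reducible] def actF' (A : Dat p K G) : MulAction (Subgroup.zpowers A.ζ) A.F' where
  smul x W := ⟨(x : G) • (W : AddSubgroup (V K)), A.zstab x.2 W.2⟩
  one_smul W := Subtype.ext (one_smul _ _)
  mul_smul x y W := Subtype.ext (mul_smul _ _ _)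

/-- **Step 8** -/
theorem eight : (Nat.card A.D' + 1) ∣ 2 * Nat.card A.F' := by
  let _ := A.actF'
  refine dvd_card_of_orbits (H := Subgroup.zpowers A.ζ) (X := A.F') fun W => ?_
  obtain ⟨hr1, hr2⟩ := A.card_eq W.2
  set r := Nat.card A.D' with hr
  have hr0 : 0 < r := Nat.card_pos
  -- the stabiliser
  have hexp : ∀ x : Subgroup.zpowers A.ζ, x ∈ MulAction.stabilizer (Subgroup.zpowers A.ζ) W →
      x ^ (2 * (r - 1)) = 1 := by
    intro x hx
    obtain ⟨m, hm⟩ := A.exists_pow x.2
    have h1 : A.ζ ^ m • (W : AddSubgroup (V K)) = W := by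
      rw [hm]
      exact congrArg Subtype.val (MulAction.mem_stabilizer_iff.1 hx)
    have h2 := A.scal h1
    rw [hr1, ← pow_mul, ← pow_mul] at h2
    have h3 := A.ζ_pow_of_c_pow h2
    apply Subtype.ext
    show (x : G) ^ (2 * (r - 1)) = 1
    rw [← hm, ← pow_mul, ← h3]
  have hcard : Nat.card (MulAction.stabilizer (Subgroup.zpowers A.ζ) W) ∣ 2 * (r - 1) := by
    rw [← IsCyclic.exponent_eq_card]
    exact Monoid.exponent_dvd_of_forall_pow_eq_one fun x => Subtype.ext (hexp x x.2)
  have horb : Nat.card (MulAction.orbit (Subgroup.zpowers A.ζ) W) *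
      Nat.card (MulAction.stabilizer (Subgroup.zpowers A.ζ) W) = (r - 1) * (r + 1) := by
    have h1 := MulAction.index_stabilizer (Subgroup.zpowers A.ζ) W
    have h2 : (MulAction.stabilizer (Subgroup.zpowers A.ζ) W).index =
      Nat.card (MulAction.orbit (Subgroup.zpowers A.ζ) W) := h1
    rw [← h2, mul_comm, Subgroup.card_mul_index, Nat.card_zpowers, A.orderOf_ζ, ← hr2]
    obtain ⟨k, hk⟩ : ∃ k, r = k + 1 := ⟨r - 1, by omega⟩
    rw [hk]
    have : (k + 1) * (k + 1) - 1 = k * (k + 2) := by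
      have : (k + 1) * (k + 1) = k * (k + 2) + 1 := by ring
      omega
    rw [this]
    simp
  obtain ⟨k, hk⟩ := hcard
  refine ⟨k, ?_⟩
  have hpos : 0 < Nat.card (MulAction.stabilizer (Subgroup.zpowers A.ζ) W) := Nat.card_pos
  apply Nat.eq_of_mul_eq_mul_right hpos
  calc 2 * Nat.card (MulAction.orbit (Subgroup.zpowers A.ζ) W) *
        Nat.card (MulAction.stabilizer (Subgroup.zpowers A.ζ) W)
      = 2 * ((r - 1) * (r + 1)) := by rw [mul_assoc, horb]
    _ = (2 * (r - 1)) * (r + 1) := by ring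
    _ = (Nat.card (MulAction.stabilizer (Subgroup.zpowers A.ζ) W) * k) * (r + 1) := by rw [hk]
    _ = _ := by ring

omit A in
/-- **Step 9**, arithmetic -/
theorem arith {r n : ℕ} (hr : Odd r) (hr1 : 1 < r) (hn : 0 < n) (h1 : (n + 1) ∣ r * r - 1) (h2 : (r + 1) ∣ 2 * n) :
    (r = 9 ∧ n = 15) ∨ (r = 5 ∧ n = 3) ∨ (r = 13 ∧ n = 7) := by
  obtain ⟨e', rfl⟩ := hr
  -- `e = e' + 1`
  obtain ⟨m, hm⟩ := h2
  have hn' : n = m * (e' + 1) := by
    have : 2 * n = 2 * (m * (e' + 1)) := by rw [hm]; ring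
    omega
  have he0 : 0 < e' := by omega
  have hm0 : 0 < m := by
    rcases Nat.eq_zero_or_pos m with h | h
    · rw [h, zero_mul] at hn'; omega
    · exact h
  have h3 : (2 * e' + 1) * (2 * e' + 1) - 1 = 4 * e' * (e' + 1) := by
    have : (2 * e' + 1) * (2 * e' + 1) = 4 * e' * (e' + 1) + 1 := by ring
    omega
  rw [h3, hn'] at h1
  have hcop : Nat.Coprime (m * (e' + 1) + 1) (e' + 1) := by
    simp [Nat.Coprime]
  have h4 : (m * (e' + 1) + 1) ∣ 4 * e' := hcop.dvd_of_dvd_mul_right h1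
  obtain ⟨l, hl⟩ := h4
  -- `4 e' = (m (e'+1) + 1) l`
  have hl0 : 0 < l := by
    rcases Nat.eq_zero_or_pos l with h | h
    · rw [h, mul_zero] at hl; omega
    · exact h
  have hlm : l * m < 4 := by
    by_contra hcon
    push Not at hcon
    have h5 : 4 * (e' + 1) ≤ (l * m) * (e' + 1) := Nat.mul_le_mul_right _ hcon
    have h6 : (m * (e' + 1) + 1) * l = (l * m) * (e' + 1) + l := by ring
    omega
  have hl4 : l < 4 := lt_of_le_of_lt (Nat.le_mul_of_pos_right l hm0) hlm
  have hm4 : m < 4 := lt_of_le_of_lt (Nat.le_mul_of_pos_left m hl0) hlm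
  rw [hn']
  interval_cases l <;> interval_cases m <;> omega

theorem odd_r : Odd (Nat.card A.D') := by
  obtain ⟨W, hW⟩ : ∃ W, W ∈ A.F' := by
    have h := A.F'_pos
    obtain ⟨⟨W, hW⟩⟩ := (Nat.card_pos_iff.1 h).1
    exact ⟨W, hW⟩
  have h1 := (A.card_eq hW).2
  have h2 := A.even_card
  have h3 : 1 < Fintype.card K := Fintype.one_lt_card
  rw [← Nat.not_even_iff_odd]
  rintro ⟨k, hk⟩
  rw [← h1, hk] at h2 h3
  have h4 : (k + k) * (k + k) = 4 * (k * k) := by ring
  rw [h4] at h2 h3
  omega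

theorem false : False := by
  obtain ⟨W, hW⟩ : ∃ W, W ∈ A.F' := by
    have h := A.F'_pos
    obtain ⟨⟨W, hW⟩⟩ := (Nat.card_pos_iff.1 h).1
    exact ⟨W, hW⟩
  have hq := (A.card_eq hW).2
  have h1 := A.F_dvd'
  have hr1 : 1 < Nat.card A.D' := by
    by_contra hcon
    have h3 : 1 < Fintype.card K := Fintype.one_lt_card
    have h4 : Nat.card A.D' ≤ 1 := by omega
    have h5 := Nat.mul_le_mul h4 h4
    omega
  have h2 := arith A.odd_r hr1 A.F'_pos (by rw [hq]; exact h1) A.eight
  have hOm : Nat.card A.Om ∣ Nat.card G := ⟨_, A.card_Om.symm⟩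
  rw [A.card_Om', ← hq] at hOm
  have hV : Nat.card (V K) = Fintype.card K ^ 3 := by
    rw [Nat.card_prod, Nat.card_prod, Nat.card_eq_fintype_card]
    ring
  rw [← hq] at hV
  rcases h2 with ⟨hr, hn⟩ | ⟨hr, hn⟩ | ⟨hr, hn⟩
  · rw [hr, hn] at hOm
    rw [hr] at hV
    refine no_order A.faith (l := 19) (P := 3) (N := 12) (by norm_num) (by norm_num)
      ((by norm_num : 19 ∣ 9 * 9 * 15 + 1).trans hOm) (by rw [hV]; norm_num) ?_
    intro a ha
    interval_cases a <;> decide
  · rw [hr, hn] at hOm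
    rw [hr] at hV
    refine no_order A.faith (l := 19) (P := 5) (N := 6) (by norm_num) (by norm_num)
      ((by norm_num : 19 ∣ 5 * 5 * 3 + 1).trans hOm) (by rw [hV]; norm_num) ?_
    intro a ha
    interval_cases a <;> decide
  · rw [hr, hn] at hOm
    rw [hr] at hV
    refine no_order A.faith (l := 37) (P := 13) (N := 6) (by norm_num) (by norm_num)
      ((by norm_num : 37 ∣ 13 * 13 * 7 + 1).trans hOm) (by rw [hV]; norm_num) ?_
    intro a ha
    interval_cases a <;> decide

end Dat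

end Cfsg.Agent.H812.Sym
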