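import Mathlib
import Cfsg.Agent.H812.SymFin

/-!
# `sym_lemma` (S5260-B; helper812)
-/

set_option autoImplicit false
set_option linter.unusedSectionVars false

open scoped Pointwise

namespace Cfsg.Agent.H812.Sym

open Cfsg.Agent.H780

variable {p : ℕ} [Fact p.Prime] {K : Type*} [Field K] [Fintype K] [CharP K p] {G : Type*} [Group G] [Finite G]
  [DistribMulAction G (V K)]

theorem Base.T_pow {p : ℕ} {K : Type*} [Field K] {G : Type*} [Group G] [DistribMulAction G (V K)] (B : Base p K G)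
    (t : K) (n : ℕ) : B.T t ^ n = B.T (n * t) := by
  induction n with
  | zero => rw [pow_zero, Nat.cast_zero, zero_mul, B.T_zero]
  | succ n ih => rw [pow_succ, ih, ← B.T_add]; congr 1; push_cast; ring

/-- **The module version.** -/
theorem main (B : Base p K G) (h2 : (2 : K) ≠ 0)
    (hH : ∀ c : K, c ≠ 0 → ∃ h : G, Act c h) {d₀ : V K} (hd₀ : d₀ ∈ Zs K) (hd0 : d₀ ≠ 0)
    (hfix : ∀ g : G, g • d₀ = d₀) (g : G) : g • Zs K = Zs K := by
  classical
  by_contra hcon
  -- the maximal intersection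
  have hne : Nonempty {g : G // g • Zs K ≠ Zs K} := ⟨⟨g, hcon⟩⟩
  obtain ⟨⟨g₀, hg₀⟩, hmax⟩ := Finite.exists_max
    (fun g : {g : G // g • Zs K ≠ Zs K} => Nat.card (Zs K ⊓ (g : G) • Zs K : AddSubgroup (V K)))
  simp only [Subtype.forall] at hmax
  set D : AddSubgroup (V K) := Zs K ⊓ g₀ • Zs K with hD
  have hdD : d₀ ∈ D := by
    refine ⟨hd₀, ?_⟩
    show d₀ ∈ g₀ • Zs K
    rw [AddSubgroup.mem_pointwise_smul_iff_inv_smul_mem, hfix]
    exact hd₀
  -- the centraliser of `D`
  let G₁ : Subgroup G :=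
    { carrier := {x | ∀ d ∈ D, x • d = d}
      one_mem' := fun d _ => one_smul _ _
      mul_mem' := fun {a b} ha hb d hd => by rw [mul_smul, hb d hd, ha d hd]
      inv_mem' := fun {a} ha d hd => by rw [inv_smul_eq_iff, ha d hd] }
  have hG₁ : ∀ x : G, (∀ v ∈ Zs K, x • v = v) → x ∈ G₁ := fun x hx d hd => hx d hd.1
  have hT : ∀ t, B.T t ∈ G₁ := fun t => hG₁ _ fun v hv => B.T_Z t hv
  have hP : (B.P : Subgroup G) ≤ G₁ := by
    intro x hx
    obtain ⟨t, rfl⟩ := (B.memP x).1 hx
    exact hT t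
  have hsm : ∀ (x : G₁) (v : V K), x • v = (x : G) • v := fun _ _ => rfl
  have hsmZ : ∀ (x : G₁), x • Zs K = (x : G) • Zs K := fun _ => rfl
  -- the generator
  obtain ⟨u, hu⟩ := IsCyclic.exists_generator (α := Kˣ)
  have hcu : orderOf (u : K) = Fintype.card K - 1 := by
    rw [orderOf_units, orderOf_eq_card_of_forall_mem_zpowers hu, Nat.card_eq_fintype_card, Fintype.card_units]
  obtain ⟨h, hh⟩ := hH (u : K) u.ne_zero
  obtain ⟨t, ht⟩ : ∃ t, h ^ (Fintype.card K - 1) = B.T t := by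
    apply B.of_act_one
    have h3 := hh.pow (Fintype.card K - 1)
    rwa [← hcu, pow_orderOf_eq_one, hcu] at h3
  have hact : Act (u : K) (h ^ Fintype.card K) := by
    have h3 := hh.pow (Fintype.card K)
    rwa [FiniteField.pow_card] at h3
  have hz : (h ^ Fintype.card K) ^ (Fintype.card K - 1) = 1 := by
    rw [← pow_mul, mul_comm, pow_mul, ht, B.T_pow, Nat.cast_card_eq_zero, zero_mul, B.T_zero]
  have hζ : h ^ Fintype.card K ∈ G₁ := hG₁ _ hact.z
  let A : Dat p K G₁ :=
    { T := fun t => ⟨B.T t, hT t⟩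
      hT := fun t v => B.hT t v
      faith := fun x hx => Subtype.ext (B.faith x hx)
      P := B.P.subtype hP
      memP := fun x => by
        have e : x ∈ B.P.subtype hP ↔ (x : G) ∈ B.P := by
          show x ∈ ((B.P.subtype hP : Sylow p G₁) : Subgroup G₁) ↔ _
          rw [Sylow.coe_subtype]
          exact Subgroup.mem_subgroupOf
        rw [e, B.memP]
        constructor
        · rintro ⟨t, ht⟩
          exact ⟨t, Subtype.ext ht⟩
        · rintro ⟨t, ht⟩
          exact ⟨t, congrArg Subtype.val ht⟩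
      norm := fun x hx t => by
        obtain ⟨t', ht'⟩ := B.norm x hx t
        exact ⟨t', Subtype.ext ht'⟩
      two := h2
      D := D
      D_le := inf_le_left
      D_fix := fun x d hd => x.2 d hd
      D_ne := ⟨d₀, hdD, hd0⟩
      max := fun x hx => by
        symm
        have hle : D ≤ Zs K ⊓ (x : G) • Zs K := by
          intro d hd
          refine ⟨hd.1, ?_⟩
          show d ∈ (x : G) • Zs K
          rw [AddSubgroup.mem_pointwise_smul_iff_inv_smul_mem]
          have h3 := (x⁻¹).2 d hd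
          have h4 : (x : G)⁻¹ • d = d := h3
          rw [h4]
          exact hd.1
        exact AddSubgroup.eq_of_le_of_card_ge hle (hmax x hx)
      move := by
        refine ⟨⟨g₀ * B.T 1 * g₀⁻¹, ?_⟩, ?_⟩
        · intro d hd
          have h3 : g₀⁻¹ • d ∈ Zs K := AddSubgroup.mem_pointwise_smul_iff_inv_smul_mem.1 hd.2
          rw [mul_smul, mul_smul, B.T_Z 1 h3, smul_inv_smul]
        · intro h3
          have h4 : (g₀ * B.T 1 * g₀⁻¹) • Zs K = Zs K := h3
          rw [mul_smul, mul_smul, ← eq_inv_smul_iff] at h4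
          have h5 := B.semireg h2 one_ne_zero h4
          apply hg₀
          rw [inv_smul_eq_iff] at h5
          exact h5.symm
      c := u
      hc := hcu
      ζ := ⟨h ^ Fintype.card K, hζ⟩
      hζ := ⟨hact.z, hact.u, hact.s⟩
      ζ_pow := Subtype.ext hz }
  exact A.false

omit [DistribMulAction G (V K)] in
/-- **`sym_lemma`** -/
theorem sym_lemma (hp : p ≠ 2) (ρ : G →* Equiv.Perm (K × K × K)) (hρ : Function.Injective ρ)
    (hadd : ∀ g v w, ρ g (v + w) = ρ g v + ρ g w) (P : Sylow p G)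
    (hP1 : ∀ g ∈ P, ∃ t : K, ρ g = phi t) (hP2 : ∀ t : K, ∃ g ∈ P, ρ g = phi t)
    (hN : ∀ g, (∀ z, ∃ z', ρ g (0, 0, z) = (0, 0, z')) → ∀ x ∈ P, g * x * g⁻¹ ∈ P)
    (hH : ∀ c : K, c ≠ 0 → ∃ h : G, (∀ z, ρ h (0, 0, z) = (0, 0, z)) ∧ (∀ u, ∃ z', ρ h (0, u, 0) = (0, c * u, z')) ∧
      (∀ s, ∃ u' z', ρ h (s, 0, 0) = (c ^ 2 * s, u', z')))
    (z₀ : K) (hz₀ : z₀ ≠ 0) (hfix : ∀ g, ρ g (0, 0, z₀) = (0, 0, z₀)) :
    ∀ g z, ∃ z', ρ g (0, 0, z) = (0, 0, z') := by
  have h2 : (2 : K) ≠ 0 := by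
    intro h
    have h1 : ((2 : ℕ) : K) = 0 := by exact_mod_cast h
    have h3 := (CharP.cast_eq_zero_iff K p 2).1 h1
    exact hp ((Nat.prime_dvd_prime_iff_eq (Fact.out : p.Prime) Nat.prime_two).1 h3)
  let _ : DistribMulAction G (V K) :=
    { smul := fun g v => ρ g v
      one_smul := fun v => by show ρ 1 v = v; rw [map_one]; rfl
      mul_smul := fun g h v => by show ρ (g * h) v = ρ g (ρ h v); rw [map_mul]; rfl
      smul_zero := fun g => by
        show ρ g 0 = 0
        have h := hadd g 0 0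
        rw [add_zero] at h
        exact left_eq_add.1 h
      smul_add := hadd }
  have hsm : ∀ (g : G) (v : V K), g • v = ρ g v := fun _ _ => rfl
  choose T hTP hT using hP2
  have hfaith : ∀ g : G, (∀ v : V K, g • v = v) → g = 1 := by
    intro g hg
    apply hρ
    rw [map_one]
    exact Equiv.ext hg
  let B : Base p K G :=
    { T := T
      hT := fun t v => by rw [hsm, hT]
      faith := hfaith
      P := P
      memP := fun g => by
        constructor
        · intro hg
          obtain ⟨t, ht⟩ := hP1 g hg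
          exact ⟨t, hρ (by rw [ht, hT])⟩
        · rintro ⟨t, rfl⟩
          exact hTP t
      norm := fun g hg t => by
        have h1 := hN g (fun z => by
          have h3 : g • ((0, 0, z) : V K) ∈ g • Zs K := AddSubgroup.smul_mem_pointwise_smul _ _ _ (mem_Zs' z)
          rw [hg] at h3
          exact ⟨_, eq_of_mem_Zs h3⟩) (T t) (hTP t)
        obtain ⟨t', ht'⟩ := hP1 _ h1
        exact ⟨t', hρ (by rw [ht', hT])⟩ }
  intro g z
  have h1 := main B h2 (fun c hc => by
    obtain ⟨h, h3, h4, h5⟩ := hH c hc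
    exact ⟨h, Act.of_maps h3 h4 h5⟩) (mem_Zs' z₀) (fun h => hz₀ (congrArg (fun v : V K => v.2.2) h)) hfix g
  have h3 : g • ((0, 0, z) : V K) ∈ g • Zs K := AddSubgroup.smul_mem_pointwise_smul _ _ _ (mem_Zs' z)
  rw [h1] at h3
  exact ⟨_, eq_of_mem_Zs h3⟩

end Cfsg.Agent.H812.Sym
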