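import Cfsg.Agent.H812.CoFiveJ
import Cfsg.Agent.H899.J2Words
import Cfsg.Agent.J2Type.FourSelfCent
import Cfsg.Agent.MFive.JTwo
import Cfsg.Agent.S1619
import Cfsg.Agent.S1620

/-!
# `C(p1) = ⟨p1⟩ × J`, `J ≅ J₂`, `C(J) ≅ A₅` in `Co₁` (helper812)
-/

set_option autoImplicit false
set_option maxRecDepth 20000

namespace Cfsg.Agent.H812.CoFiveA

open Cfsg Cfsg.Agent.SporadicA Cfsg.Agent.SporadicStructure.Co0Matrix Cfsg.Agent.CoOneType.CoEval
  Cfsg.Agent.CoOneType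
open Cfsg.Agent.StdG24 Cfsg.Agent.StdG24.Perm416 Cfsg.Agent.StdG24.Sift Cfsg.Agent.StdG24.Words
open Cfsg.Agent.KFacts.Co1D4
open CoFiveData CoFiveJ

/-! ### the order of `JL` -/

/-- the conjugating word and its inverse -/
def hW : ℕ := 0xf5102321045
def hI : ℕ := 0xf5401232015

/-- the five conjugated letters as words in `jg` -/
def ix : List (List ℕ) := [[4,6,5,6,3,2,5,0,6,0], [3,6,3,6,0,5,2,6,5,1], [6,2,4,6,4,2,6], [5,1,6,1,6,4,6,5,6,3],
  [5,6,5,6,0,3,1,6,1,6,1]]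

theorem k_ix : ((List.range 5).all fun c => eqc [hW, 0xf0 + c, hI] (gw PWords.jg (ix.getD c []))) = true := by
  decide +kernel

theorem k_inv : eqc [hW, hI] [] = true := by decide +kernel

theorem perm_eq : ∀ (i : Fin 6) (p : Fin 416), perm i p = H899.Perm416.P i p := by decide +kernel

theorem card_JL : 604800 ≤ Nat.card GenJ.JL := by
  rw [← H899.J2Words.card_Q]
  have e0 : Nat.card GenJ.JL = Nat.card (GenJ.JL.map LL.subtype) :=
    (Subgroup.card_map_of_injective LL.subtype_injective).symm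
  have e1 : Nat.card H899.J2Words.Q = Nat.card (H899.J2Words.Q.map (MulAut.conj (el hW)).toMonoidHom) :=
    (Subgroup.card_map_of_injective (MulAut.conj (el hW)).injective).symm
  rw [e0, e1]
  refine Subgroup.card_le_of_le ?_
  rw [Subgroup.map_le_iff_le_comap]
  unfold H899.J2Words.Q
  rw [Subgroup.closure_le]
  rintro _ ⟨i, hi, rfl⟩
  have hi5 : i.val < 5 := hi
  have hinv : (el hW)⁻¹ = el hI := by
    have h1 := congrArg (Subtype.val : L0 → Equiv.Perm (Fin 416)) (E_eq k_inv)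
    have h2 : el hW * el hI = 1 := by
      have e : ((E [hW, hI] : L0) : Equiv.Perm (Fin 416)) = el hW * (el hI * 1) := rfl
      rw [e, mul_one] at h1
      exact h1
    exact inv_eq_of_mul_eq_one_right h2
  have h3 := List.all_eq_true.1 k_ix i.val (List.mem_range.2 hi5)
  have h4 : E [hW, 0xf0 + i.val, hI] ∈ GenJ.JL := mem_of_gw GenJ.jg_mem h3
  have h5 : ((E [hW, 0xf0 + i.val, hI] : L0) : Equiv.Perm (Fin 416)) = el hW * (el (0xf0 + i.val) * (el hI * 1)) := rfl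
  have h6 : el (0xf0 + i.val) = H899.Perm416.P i := by
    have hpk : ∀ c : Fin 6, pk (0xf0 + c.val) = [c.val] := by decide +kernel
    unfold el
    rw [hpk i, List.map_singleton, List.prod_singleton]
    unfold lt
    rw [dif_pos i.isLt]
    exact Equiv.ext (perm_eq i)
  refine ⟨_, h4, ?_⟩
  show ((E [hW, 0xf0 + i.val, hI] : L0) : Equiv.Perm (Fin 416)) = el hW * H899.Perm416.P i * (el hW)⁻¹
  rw [h5, h6, hinv, mul_one, mul_assoc]

theorem card_J_ge : 604800 ≤ Nat.card J := by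
  have h : Nat.card J = Nat.card GenJ.JL := Subgroup.card_map_of_injective f_inj
  rw [h]; exact card_JL

/-! ### the centralizer of `J` -/

/-- the centralizer of `J` -/
noncomputable abbrev A : Subgroup Spor.Co1 := Subgroup.centralizer (J : Set Spor.Co1)

theorem mem_A {c : Spor.Co1} : c ∈ A ↔ ∀ a ∈ J, a * c = c * a := Subgroup.mem_centralizer_iff

theorem w_A : TwoB.w ∈ A := mem_A.2 fun a ha => TwoB.Lw a (J_le_L ha)
theorem v_A : TwoB.v ∈ A := mem_A.2 fun a ha => TwoB.Lv a (J_le_L ha)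
theorem r_A : TwoB.r ∈ A := mem_A.2 fun a ha => TwoB.Lr a (J_le_L ha)
theorem p1_A : p1 ∈ A := mem_A.2 fun a ha => (p1_J a ha).symm

theorem Z_le_A : Main.setup.Z ≤ A := by
  rintro g (rfl | rfl | rfl | rfl)
  · exact A.one_mem
  · exact w_A
  · exact v_A
  · exact A.mul_mem w_A v_A

/-- the elements of `C(J)` commuting with `w` lie in the four-group -/
theorem mem_Z_of_w {c : Spor.Co1} (hc : c ∈ A) (hw : c * TwoB.w = TwoB.w * c) : c ∈ Main.setup.Z := by
  have := finite_co1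
  refine Main.setup.cent c hw ?_
  have hwi : c⁻¹ * TwoB.w = TwoB.w * c⁻¹ := by
    rw [inv_mul_eq_iff_eq_mul, ← mul_assoc, hw, mul_inv_cancel_right]
  have hL : ∀ l ∈ GTwo.L, c * l * c⁻¹ ∈ GTwo.L := fun l hl => Main.setup.conj_L hw hl
  have hL' : ∀ l ∈ GTwo.L, c⁻¹ * l * c⁻¹⁻¹ ∈ GTwo.L := fun l hl => Main.setup.conj_L hwi hl
  let α : GTwo.L ≃* GTwo.L :=
    { toFun := fun l => ⟨c * l * c⁻¹, hL l l.2⟩
      invFun := fun l => ⟨c⁻¹ * l * c⁻¹⁻¹, hL' l l.2⟩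
      left_inv := fun l => Subtype.ext (by
        show c⁻¹ * (c * (l : Spor.Co1) * c⁻¹) * c⁻¹⁻¹ = l
        group)
      right_inv := fun l => Subtype.ext (by
        show c * (c⁻¹ * (l : Spor.Co1) * c⁻¹⁻¹) * c⁻¹ = l
        group)
      map_mul' := fun l m => Subtype.ext (by
        show c * ((l : Spor.Co1) * m) * c⁻¹ = c * l * c⁻¹ * (c * m * c⁻¹)
        group) }
  have hα : ∀ l : GTwo.L, ((α l : GTwo.L) : Spor.Co1) = c * l * c⁻¹ := fun _ => rfl
  have h1 := AutX.aut_JL ((φ.trans α).trans φ.symm) (by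
    intro a ha
    rw [MulEquiv.trans_apply, MulEquiv.trans_apply, MulEquiv.symm_apply_eq]
    apply Subtype.ext
    rw [hα]
    have h2 : f a ∈ J := ⟨a, ha, rfl⟩
    have h3 := mem_A.1 hc _ h2
    show c * f a * c⁻¹ = f a
    rw [← h3, mul_inv_cancel_right])
  intro l hl
  have h2 := h1 (φ.symm ⟨l, hl⟩)
  rw [MulEquiv.trans_apply, MulEquiv.trans_apply, MulEquiv.symm_apply_eq, MulEquiv.apply_symm_apply] at h2
  have h3 := congrArg (Subtype.val : GTwo.L → Spor.Co1) h2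
  rw [hα] at h3
  have h4 : c * l * c⁻¹ = l := h3
  calc c * l = c * l * c⁻¹ * c := by group
    _ = l * c := by rw [h4]

theorem conj_Z {g : Spor.Co1} (hg : TwoB.r⁻¹ * g * TwoB.r ∈ Main.setup.Z) : g ∈ Main.setup.Z := by
  have h0 : g = TwoB.r * (TwoB.r⁻¹ * g * TwoB.r) * TwoB.r⁻¹ := by group
  rw [h0]
  generalize TwoB.r⁻¹ * g * TwoB.r = y at hg
  rcases hg with rfl | rfl | rfl | rfl
  · rw [mul_one, mul_inv_cancel]; exact Main.setup.Z.one_mem
  · rw [TwoB.rw_]; exact Main.setup.v_mem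
  · rw [TwoB.rv]; exact Main.setup.wv_mem
  · have h : TwoB.r * (TwoB.w * TwoB.v) * TwoB.r⁻¹ = (TwoB.r * TwoB.w * TwoB.r⁻¹) * (TwoB.r * TwoB.v * TwoB.r⁻¹) := by
      group
    rw [h, TwoB.rw_, TwoB.rv]
    exact Main.setup.Z.mul_mem Main.setup.v_mem Main.setup.wv_mem

theorem conj_A {c : Spor.Co1} (hc : c ∈ A) : TwoB.r⁻¹ * c * TwoB.r ∈ A :=
  A.mul_mem (A.mul_mem (A.inv_mem r_A) hc) r_A

theorem comm_conj {c u : Spor.Co1} (h : c * (TwoB.r * u * TwoB.r⁻¹) = (TwoB.r * u * TwoB.r⁻¹) * c) :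
    (TwoB.r⁻¹ * c * TwoB.r) * u = u * (TwoB.r⁻¹ * c * TwoB.r) := by
  calc (TwoB.r⁻¹ * c * TwoB.r) * u = TwoB.r⁻¹ * (c * (TwoB.r * u * TwoB.r⁻¹)) * TwoB.r := by group
    _ = TwoB.r⁻¹ * ((TwoB.r * u * TwoB.r⁻¹) * c) * TwoB.r := by rw [h]
    _ = u * (TwoB.r⁻¹ * c * TwoB.r) := by group

theorem mem_Z_of_v {c : Spor.Co1} (hc : c ∈ A) (hv : c * TwoB.v = TwoB.v * c) : c ∈ Main.setup.Z := by
  apply conj_Z
  apply mem_Z_of_w (conj_A hc)
  apply comm_conj
  rw [TwoB.rw_]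
  exact hv

theorem mem_Z_of_wv {c : Spor.Co1} (hc : c ∈ A) (hv : c * (TwoB.w * TwoB.v) = (TwoB.w * TwoB.v) * c) :
    c ∈ Main.setup.Z := by
  apply conj_Z
  apply mem_Z_of_v (conj_A hc)
  apply comm_conj
  rw [TwoB.rv]
  exact hv

theorem mem_Z {c u : Spor.Co1} (hc : c ∈ A) (hu : u ∈ Main.setup.Z) (hu1 : u ≠ 1) (h : c * u = u * c) :
    c ∈ Main.setup.Z := by
  rcases hu with rfl | rfl | rfl | rfl
  · exact absurd rfl hu1
  · exact mem_Z_of_w hc h
  · exact mem_Z_of_v hc h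
  · exact mem_Z_of_wv hc h

theorem sq_Z {u : Spor.Co1} (hu : u ∈ Main.setup.Z) : u * u = 1 := by
  rcases hu with rfl | rfl | rfl | rfl
  · exact one_mul 1
  · exact TwoB.ww
  · exact TwoB.vv
  · calc TwoB.w * TwoB.v * (TwoB.w * TwoB.v) = TwoB.w * (TwoB.v * TwoB.w) * TwoB.v := by group
      _ = (TwoB.w * TwoB.w) * (TwoB.v * TwoB.v) := by rw [← TwoB.wv]; group
      _ = 1 := by rw [TwoB.ww, TwoB.vv, one_mul]

theorem hyp : J2Type.FourSelfCent.Hyp (Main.setup.Z.subgroupOf A) where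
  card4 := by
    rw [Nat.card_congr (Subgroup.subgroupOfEquivOfLe Z_le_A).toEquiv]
    exact Main.setup.card_Z
  sq := fun u hu => Subtype.ext (sq_Z (Subgroup.mem_subgroupOf.1 hu))
  cent := fun u hu hu1 x hx => Subgroup.mem_subgroupOf.2
    (mem_Z x.2 (Subgroup.mem_subgroupOf.1 hu) (fun h => hu1 (Subtype.ext h)) (congrArg Subtype.val hx))

theorem card_A : Nat.card A = 60 := by
  have := finite_co1
  have h5 : 5 ∣ Nat.card A := by
    have h := orderOf_dvd_natCard (⟨p1, p1_A⟩ : A)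
    rwa [Subgroup.orderOf_mk, order_p1] at h
  rcases hyp.card_cases with h | h | h
  · rw [h] at h5; revert h5; decide
  · rw [h] at h5; revert h5; decide
  · exact h

theorem A_equiv : Nonempty (A ≃* alternatingGroup (Fin 5)) := by
  have := finite_co1
  exact hyp.equiv_of_card_60 card_A

/-- `J ∩ C(J) = 1` -/
theorem inf_eq {g : Spor.Co1} (h1 : g ∈ J) (h2 : g ∈ A) : g = 1 :=
  Main.setup.inf_eq g (mem_Z_of_w h2 (TwoB.Lw g (J_le_L h1))) (J_le_L h1)

end Cfsg.Agent.H812.CoFiveA
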