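import Cfsg.Agent.H812.CoFiveData
import Cfsg.Agent.StdG24.AutX
import Cfsg.Agent.StdG24.GenJL
import Cfsg.Agent.StdG24.Iso416
import Cfsg.Agent.KFacts.Co1D4.Main

/-!
# The images of `JL` in `Co₁` (helper812)

`f : L0 →* Co₁` is the isomorphism of the group on 416 points with the subgroup `GTwo.L`; it maps the letters
`s, t, x, y, q, r, v` of `PWords` to the letters of `CoOneType.Model`.
-/

set_option autoImplicit false
set_option maxRecDepth 20000

namespace Cfsg.Agent.H812.CoFiveJ

open Cfsg Cfsg.Agent.SporadicA Cfsg.Agent.SporadicStructure.Co0Matrix Cfsg.Agent.CoOneType.CoEval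
  Cfsg.Agent.CoOneType
open Cfsg.Agent.StdG24 Cfsg.Agent.StdG24.Perm416 Cfsg.Agent.StdG24.Sift Cfsg.Agent.StdG24.Words
open Cfsg.Agent.KFacts.Co1D4 (Letters.x Letters.e Letters.x_rel)
open CoFiveData

/-- the isomorphism -/
theorem exists_phi : ∃ φ : L0 ≃* KFacts.Co1D4.GTwo.L,
    ∀ i, ((φ ⟨perm i, perm_mem i⟩ : KFacts.Co1D4.GTwo.L) : Spor.Co1) = Letters.x i :=
  Iso416.exists_equiv Letters.x Letters.x_rel KFacts.Co1D4.GTwo.L rfl KFacts.Co1D4.GTwo.card_L.ge

noncomputable def φ : L0 ≃* KFacts.Co1D4.GTwo.L := exists_phi.choose

theorem φ_perm (i : Fin 6) : ((φ ⟨perm i, perm_mem i⟩ : KFacts.Co1D4.GTwo.L) : Spor.Co1) = Letters.x i :=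
  exists_phi.choose_spec i

/-- the embedding -/
noncomputable def f : L0 →* Spor.Co1 := KFacts.Co1D4.GTwo.L.subtype.comp φ.toMonoidHom

theorem f_apply (g : L0) : f g = (φ g : Spor.Co1) := rfl

theorem f_inj : Function.Injective f := fun a b h => φ.injective (Subtype.ext h)

theorem f_mem (g : L0) : f g ∈ KFacts.Co1D4.GTwo.L := (φ g).2

theorem f_lt {c : ℕ} (hc : c < 6) : f ⟨lt c, lt_mem c⟩ = pr (CoFiveData.e (20 + c)) := by
  have h1 : (⟨lt c, lt_mem c⟩ : L0) = ⟨perm ⟨c, hc⟩, perm_mem ⟨c, hc⟩⟩ := by
    apply Subtype.ext
    show lt c = _
    unfold lt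
    rw [dif_pos hc]
  rw [h1, f_apply, φ_perm]
  show pr (Letters.e c) = _
  interval_cases c <;> rfl

theorem pkf_lt (n : ℕ) : ∀ w : ℕ, ∀ c ∈ pkf n w, c < 6 := by
  induction n with
  | zero => intro w c hc; exact absurd hc (List.not_mem_nil)
  | succ n ih =>
    intro w c hc
    change c ∈ cond (Nat.blt (Nat.land w 15) 6) (Nat.land w 15 :: pkf n (Nat.shiftRight w 4)) [] at hc
    cases h : Nat.blt (Nat.land w 15) 6 with
    | false => rw [h] at hc; exact absurd hc (List.not_mem_nil)
    | true =>
      rw [h, cond_true, List.mem_cons] at hc
      rcases hc with rfl | hc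
      · exact blt_iff.1 h
      · exact ih _ c hc

theorem f_word : ∀ (l : List ℕ) (hl : ∀ c ∈ l, c < 6) (hm : (l.map lt).prod ∈ LL),
    f ⟨(l.map lt).prod, hm⟩ = val (l.map (20 + ·)) := by
  intro l
  induction l with
  | nil => intro _ hm; exact map_one f
  | cons c l ih =>
    intro hl hm
    have hm' : (l.map lt).prod ∈ LL := Subgroup.list_prod_mem _ fun g hg => by
      obtain ⟨c, _, rfl⟩ := List.mem_map.1 hg
      exact lt_mem c
    have h1 : (⟨((c :: l).map lt).prod, hm⟩ : L0) = ⟨lt c, lt_mem c⟩ * ⟨(l.map lt).prod, hm'⟩ := by
      apply Subtype.ext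
      show ((c :: l).map lt).prod = lt c * (l.map lt).prod
      rw [List.map_cons, List.prod_cons]
    rw [h1, map_mul, f_lt (hl c List.mem_cons_self), ih (fun c' hc' => hl c' (List.mem_cons_of_mem _ hc')) hm']
    rfl

/-- the word over `20 … 25` of a list of packed words -/
noncomputable def wd (ws : List ℕ) : List ℕ := (ws.flatMap pk).map (20 + ·)

theorem f_E (ws : List ℕ) : f (E ws) = val (wd ws) := by
  induction ws with
  | nil => exact map_one f
  | cons w ws ih =>
    rw [E_cons, map_mul, ih]
    unfold wd
    rw [List.flatMap_cons, List.map_append, val_append]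
    congr 1
    have h1 : E [w] = ⟨el w, el_mem w⟩ := by
      unfold E; rw [List.map_singleton, List.prod_singleton]
    rw [h1]
    exact f_word (pk w) (pkf_lt _ w) _

/-! The three longest words are checked in two halves (memory). -/

theorem sameZ_split {w a b w' : List ℕ} (hw : w = a ++ b) {V : List ℤ}
    (hb : eqL (LThreeCo1.Ev.foldZ M b betaL) V = true)
    (ha : (eqL (LThreeCo1.Ev.foldZ M a V) (LThreeCo1.Ev.foldZ M w' betaL) ||
      eqL (LThreeCo1.Ev.foldZ M a V) (negL (LThreeCo1.Ev.foldZ M w' betaL))) = true) : sameZ w w' = true := by
  subst hw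
  have h1 : LThreeCo1.Ev.foldZ M (a ++ b) betaL = LThreeCo1.Ev.foldZ M a V := by
    rw [← eqL_eq hb]
    exact List.foldr_append
  unfold sameZ
  rw [h1]
  exact ha

theorem wd_append (a b : List ℕ) : wd (a ++ b) = wd a ++ wd b := by
  unfold wd
  rw [List.flatMap_append, List.map_append]

theorem gw_append (gs : List (List ℕ)) (a b : List ℕ) : Words.gw gs (a ++ b) = Words.gw gs a ++ Words.gw gs b := by
  unfold Words.gw
  rw [List.map_append, List.flatten_append]

/-- the image of `beta` under the second half of the word of `x` -/
def v_x : List ℤ :=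
  [1393456291892208376445598866517745973330046, -82427710153360455299144757837037698,
   -686182092900421558880414670371735035977728, 649034632645550894682384417423486,
   -707960081286329551733539906614643321217024, 1393456293190277639319439168348435678494594,
   -21778070833900478483468148370667296259970, -707960164363396124778512313799626559840256,
   -649351544086686672046558104010882, -649039660568034599867527916420994, -628757173593430233698236452307074,
   -83725789319754028811579324884320126, 707954764394628745511373254013250275647488,
   5316262948508226566852609289949282434, 686182009823988813553407873001570422480896,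
   -649034630227699111337937992155262, -686176775968156088193449587595531740258304,
   -648717718786572557345809752375426, 669321992800733574546680710692994,
   21778072131979644877622733243556196515966, -707954847471695470880999076756697737322496,
   -5317561017771100416377812007921385342, -686176692891723185706086384438762356596736,
   -649039505825529689194993688248194]

theorem k_xb : eqL (LThreeCo1.Ev.foldZ M (wd (Words.gw PWords.jg [5, 6, 1, 4, 2])) betaL) v_x = true := by decide +kernel

theorem k_xa : (eqL (LThreeCo1.Ev.foldZ M (wd (Words.gw PWords.jg [1, 3, 6, 3, 6])) v_x) (LThreeCo1.Ev.foldZ M [2] betaL) ||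
    eqL (LThreeCo1.Ev.foldZ M (wd (Words.gw PWords.jg [1, 3, 6, 3, 6])) v_x) (negL (LThreeCo1.Ev.foldZ M [2] betaL))) = true := by
  decide +kernel

/-- the image of `beta` under the second half of the word of `y` -/
def v_y : List ℤ :=
  [-11059176904487158253803246181768895660160, -696900986809552470677574860802460143312894,
   -696895586820819671828093572347358712700930, -11059260001836217064749346700698364936320,
   11059176924774519598722521281514390421632, -11059176925086480507507363413568284262272,
   -10718894558165542043753379403752227733376, 10718894558170493804201058252045592543360,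
   11059175626700304983900467268171448975232, 10718894557848552022739015730327428530048,
   -696560704422349198773081527340304446267390, 696895588098611398277965922436712945426430,
   -696895669897569329824341967738653675888642, 696900903712520400697897163486098468888578,
   -11059176925091431058743296988735596396416, 10718894557848629393986931456032989249668,
   -696895586800537184872374060441669277835262, -696895671195326709178949124951991478902782,
   -696895671175361213415686013466748349046530, 718678976513817087806132683438107200593918,
   -1383077680350310365191838320206877873406080, 10713577646187354140714125659113577775232,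
   -696900905030876947545408966554199192494082, -696900988087349227486676632906121114820610]

theorem k_yb : eqL (LThreeCo1.Ev.foldZ M (wd (Words.gw PWords.jg [1, 6, 2, 4, 1])) betaL) v_y = true := by decide +kernel

theorem k_ya : (eqL (LThreeCo1.Ev.foldZ M (wd (Words.gw PWords.jg [6, 3, 6, 5])) v_y) (LThreeCo1.Ev.foldZ M [4] betaL) ||
    eqL (LThreeCo1.Ev.foldZ M (wd (Words.gw PWords.jg [6, 3, 6, 5])) v_y) (negL (LThreeCo1.Ev.foldZ M [4] betaL))) = true := by
  decide +kernel

/-- the image of `beta` under the second half of the word of `q` -/
def v_q : List ℤ :=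
  [707957465038190824030411654242338472460420, 2699994205506509867878882198385860862,
   1393799191825936627739444303121853267845118, 2616917777634362840020139830984826882,
   -686179392236894138131397102936033814118272, 685839109890255531900333014347972019224704,
   2616917460720503861826918444393570302, -2699994210458269734483040370086109182,
   707957463719839074181957762870870070001792, 2616917455691372157011224199836983298,
   686179393534968352783998086560525647872128, -2699973923095697290459757723904892930,
   -685839111168047338139313998613963158847360, -686179393555250685016687837867091697336192,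
   -707617181352913261348479168027401842589568, 337582372393568752302504799962543415294,
   2616917460721731377353981657794748418, -707617182670952972916891222284803045326720,
   707957546816866268601583814193141936291712, 21780688400712744264343538346284738928638,
   -2699994522419159634470945105700200450, 707611865739004258947442004577929665183872,
   685839109890255609290474863558402848047232, -2701292601584344568089424081750843390]

theorem k_qb : eqL (LThreeCo1.Ev.foldZ M (wd (Words.gw PWords.jg [4, 6, 2, 5, 6])) betaL) v_q = true := by decide +kernel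

theorem k_qa : (eqL (LThreeCo1.Ev.foldZ M (wd (Words.gw PWords.jg [4, 0, 5, 6, 2])) v_q) (LThreeCo1.Ev.foldZ M [10, 11] betaL) ||
    eqL (LThreeCo1.Ev.foldZ M (wd (Words.gw PWords.jg [4, 0, 5, 6, 2])) v_q) (negL (LThreeCo1.Ev.foldZ M [10, 11] betaL))) = true := by
  decide +kernel

theorem k_s : sameZ (wd PWords.sW) [0] = true := by decide +kernel
theorem k_t : sameZ (wd PWords.tW) [1] = true := by decide +kernel
theorem k_x : sameZ (wd PWords.xW) [2] = true :=
  sameZ_split (by
    rw [← wd_append, ← gw_append]
    rfl) k_xb k_xa
theorem k_y : sameZ (wd PWords.yW) [4] = true :=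
  sameZ_split (by
    rw [← wd_append, ← gw_append]
    rfl) k_yb k_ya
theorem k_q : sameZ (wd PWords.qW) [10, 11] = true :=
  sameZ_split (by
    rw [← wd_append, ← gw_append]
    rfl) k_qb k_qa
theorem k_r : sameZ (wd PWords.rW) [10, 9] = true := by decide +kernel

theorem f_s : f PWords.s = Model.s := by
  rw [PWords.s, f_E, same k_s]; exact mul_one _
theorem f_t : f PWords.t = Model.t := by
  rw [PWords.t, f_E, same k_t]; exact mul_one _
theorem f_x : f PWords.x = Model.x := by
  rw [PWords.x, f_E, same k_x]; exact mul_one _
theorem f_y : f PWords.y = Model.y := by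
  rw [PWords.y, f_E, same k_y]; exact mul_one _
theorem f_q : f PWords.q = Model.g * Model.h := by
  rw [PWords.q, f_E, same k_q]
  show Model.g * (Model.h * 1) = _
  rw [mul_one]
theorem f_r : f PWords.r = Model.g * Model.f := by
  rw [PWords.r, f_E, same k_r]
  show Model.g * (Model.f * 1) = _
  rw [mul_one]

/-- the Hall–Janko group -/
noncomputable def J : Subgroup Spor.Co1 := GenJ.JL.map f

theorem J_le_L : J ≤ KFacts.Co1D4.GTwo.L := by
  rintro _ ⟨a, _, rfl⟩
  exact f_mem a

/-- what commutes with the six letters commutes with `J` -/
theorem comm_J {c : Spor.Co1} (hs : c * Model.s = Model.s * c) (ht : c * Model.t = Model.t * c)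
    (hx : c * Model.x = Model.x * c) (hy : c * Model.y = Model.y * c)
    (hq : c * (Model.g * Model.h) = (Model.g * Model.h) * c)
    (hr : c * (Model.g * Model.f) = (Model.g * Model.f) * c) : ∀ a ∈ J, c * a = a * c := by
  have h1 : GenJ.JL ≤ (Subgroup.centralizer ({c} : Set Spor.Co1)).comap f := by
    refine GenJL.JL_le.trans ?_
    rw [Subgroup.closure_le]
    intro a ha
    show f a ∈ Subgroup.centralizer ({c} : Set Spor.Co1)
    rw [Subgroup.mem_centralizer_singleton_iff]
    simp only [Set.mem_insert_iff, Set.mem_singleton_iff] at ha
    rcases ha with rfl | rfl | rfl | rfl | rfl | rfl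
    · rw [f_s]; exact hs.symm
    · rw [f_t]; exact ht.symm
    · rw [f_x]; exact hx.symm
    · rw [f_y]; exact hy.symm
    · rw [f_q]; exact hq.symm
    · rw [f_r]; exact hr.symm
  rintro _ ⟨a, ha, rfl⟩
  exact (Subgroup.mem_centralizer_singleton_iff.1 (h1 ha)).symm

theorem p1_J : ∀ a ∈ J, p1 * a = a * p1 := comm_J p1_s p1_t p1_x p1_y p1_q p1_r

end Cfsg.Agent.H812.CoFiveJ
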