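import Mathlib
import Cfsg.Agent.H780.SpDefs

/-!
# `sl2_lemma` (S5260-C; helper812)
-/

set_option autoImplicit false
set_option linter.unusedSectionVars false

open scoped Pointwise

namespace Cfsg.Agent.H812.SlTwo

open Cfsg.Agent.H780

/-- the module -/
abbrev W (K : Type*) : Type _ := K × K

variable {K : Type*} [Field K]

/-- `V₁ = {(0,b)}` -/
def Vo (K : Type*) [Field K] : AddSubgroup (W K) where
  carrier := {v | v.1 = 0}
  zero_mem' := rfl
  add_mem' := by
    intro a b h1 h3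
    show a.1 + b.1 = 0
    rw [show a.1 = 0 from h1, show b.1 = 0 from h3, add_zero]
  neg_mem' := by
    intro a h1
    show -a.1 = 0
    rw [show a.1 = 0 from h1, neg_zero]

theorem mem_Vo {v : W K} : v ∈ Vo K ↔ v.1 = 0 := Iff.rfl

/-- the basic data -/
structure Base (p : ℕ) (K : Type*) [Field K] (G : Type*) [Group G] [DistribMulAction G (W K)] where
  T : K → G
  hT : ∀ (t : K) (v : W K), T t • v = theta t v
  faith : ∀ g : G, (∀ v : W K, g • v = v) → g = 1
  P : Sylow p G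
  memP : ∀ g : G, g ∈ P ↔ ∃ t, g = T t

namespace Base

variable {p : ℕ} [Fact p.Prime] [CharP K p] {G : Type*} [Group G] [DistribMulAction G (W K)] (B : Base p K G)

include B

theorem ext {g h : G} (e : ∀ v : W K, g • v = h • v) : g = h := by
  have h1 := B.faith (h⁻¹ * g) (fun v => by rw [mul_smul, e, inv_smul_smul])
  rw [inv_mul_eq_one] at h1
  exact h1.symm

theorem T_add (s t : K) : B.T (s + t) = B.T s * B.T t := by
  apply B.ext
  intro v
  rw [mul_smul, B.hT, B.hT, B.hT, theta_add]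
  rfl

theorem T_zero : B.T 0 = 1 := by
  have h := B.T_add 0 0
  rw [add_zero] at h
  exact mul_eq_left.1 h.symm

theorem T_neg (t : K) : B.T (-t) = (B.T t)⁻¹ := by
  rw [eq_inv_iff_mul_eq_one, ← B.T_add, neg_add_cancel, B.T_zero]

theorem T_apply (t a b : K) : B.T t • ((a, b) : W K) = (a, b + t * a) := by
  rw [B.hT, theta_apply]

theorem T_inj {s t : K} (h : B.T s = B.T t) : s = t := by
  have h1 : B.T s • ((1, 0) : W K) = B.T t • ((1, 0) : W K) := by rw [h]
  rw [B.T_apply, B.T_apply] at h1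
  have h2 := congrArg (fun v : W K => v.2) h1
  simpa using h2

theorem T_mem (t : K) : B.T t ∈ B.P := (B.memP _).2 ⟨t, rfl⟩

theorem T_V (t : K) {v : W K} (hv : v ∈ Vo K) : B.T t • v = v := by
  obtain ⟨a, b⟩ := v
  have : a = 0 := hv
  subst this
  rw [B.T_apply]
  simp

theorem T_sub (t : K) (v : W K) : B.T t • v - v = (0, t * v.1) := by
  obtain ⟨a, b⟩ := v
  rw [B.T_apply]
  ext <;> simp

/-- the fixed points of `T t` -/
theorem fix_T {t : K} (ht : t ≠ 0) {v : W K} (h : B.T t • v = v) : v ∈ Vo K := by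
  have h1 := B.T_sub t v
  rw [h, sub_self] at h1
  have h3 : (0 : K) = t * v.1 := congrArg (fun v : W K => v.2) h1
  exact (mul_eq_zero.1 h3.symm).resolve_left ht

theorem stab_of_inv {g : G} (h : ∀ v ∈ Vo K, g • v = v) : g • Vo K = Vo K := by
  ext v
  rw [AddSubgroup.mem_pointwise_smul_iff_inv_smul_mem]
  constructor
  · intro h1
    have h2 := h _ h1
    rw [smul_inv_smul] at h2
    rw [h2]; exact h1
  · intro h1
    have h2 : g⁻¹ • v = v := by rw [inv_smul_eq_iff, h v h1]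
    rw [h2]; exact h1

/-- elements trivial on `V₁` and on `V / V₁` -/
theorem of_triv [Finite G] {g : G} (h1 : ∀ v ∈ Vo K, g • v = v) (h2 : ∀ v : W K, g • v - v ∈ Vo K) :
    ∃ t, g = B.T t := by
  let N : Subgroup G :=
    { carrier := {g | (∀ v ∈ Vo K, g • v = v) ∧ ∀ v : W K, g • v - v ∈ Vo K}
      one_mem' := ⟨fun v _ => one_smul _ _, fun v => by rw [one_smul, sub_self]; exact zero_mem _⟩
      mul_mem' := fun {a b} ha hb => ⟨fun v hv => by rw [mul_smul, hb.1 v hv, ha.1 v hv], fun v => by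
        have e : (a * b) • v - v = a • (b • v - v) + (a • v - v) := by
          rw [mul_smul, smul_sub]; abel
        rw [e, ha.1 _ (hb.2 v)]
        exact add_mem (hb.2 v) (ha.2 v)⟩
      inv_mem' := fun {a} ha => ⟨fun v hv => by rw [inv_smul_eq_iff, ha.1 v hv], fun v => by
        have e : a⁻¹ • v - v = -(a • (a⁻¹ • v) - a⁻¹ • v) := by rw [smul_inv_smul]; abel
        rw [e]
        exact neg_mem (ha.2 _)⟩ }
  have hN : IsPGroup p N := by
    rintro ⟨x, hx⟩
    refine ⟨1, Subtype.ext ?_⟩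
    show x ^ p ^ 1 = 1
    rw [pow_one]
    apply B.faith
    intro v
    have step : ∀ n : ℕ, x ^ n • v = v + n • (x • v - v) := by
      intro n
      induction n with
      | zero => simp
      | succ n ih =>
        rw [pow_succ', mul_smul, ih, smul_add, smul_comm x n, hx.1 _ (hx.2 v), succ_nsmul]
        abel
    rw [step p]
    have h3 : p • (x • v - v) = 0 := by
      generalize x • v - v = y
      obtain ⟨a, b⟩ := y
      ext <;> simp
    rw [h3, add_zero]
  have hle : (B.P : Subgroup G) ≤ N := by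
    intro x hx
    obtain ⟨t, rfl⟩ := (B.memP x).1 hx
    exact ⟨fun v hv => B.T_V t hv, fun v => by rw [B.T_sub]; rfl⟩
  have h3 := B.P.3 hN hle
  have h4 : g ∈ N := ⟨h1, h2⟩
  rw [h3] at h4
  exact (B.memP g).1 h4

/-- elements normalising `V₁` normalise `P` -/
theorem norm [Finite G] {g : G} (hg : g • Vo K = Vo K) (t : K) : ∃ t', g * B.T t * g⁻¹ = B.T t' := by
  have hg' : ∀ v ∈ Vo K, g⁻¹ • v ∈ Vo K := by
    intro v hv
    rw [← hg] at hv
    exact AddSubgroup.mem_pointwise_smul_iff_inv_smul_mem.1 hv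
  apply B.of_triv
  · intro v hv
    rw [mul_smul, mul_smul, B.T_V t (hg' v hv), smul_inv_smul]
  · intro v
    have e : (g * B.T t * g⁻¹) • v - v = g • (B.T t • (g⁻¹ • v) - g⁻¹ • v) := by
      rw [smul_sub, smul_inv_smul, mul_smul, mul_smul]
    rw [e, ← hg]
    refine AddSubgroup.smul_mem_pointwise_smul _ _ _ ?_
    rw [B.T_sub]; rfl

/-- **Semiregularity.** -/
theorem semireg [Finite G] {t : K} (ht : t ≠ 0) {g : G} (h : B.T t • (g • Vo K) = g • Vo K) : g • Vo K = Vo K := by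
  have h1 : (g⁻¹ * B.T t * g) • Vo K = Vo K := by
    rw [mul_smul, mul_smul, h, inv_smul_smul]
  have h3 : g⁻¹ * B.T t * g ∈ B.P := by
    have hp : IsPGroup p (Subgroup.zpowers (g⁻¹ * B.T t * g)) := by
      have e : Subgroup.zpowers (g⁻¹ * B.T t * g) = (Subgroup.zpowers (B.T t)).map (MulAut.conj g⁻¹).toMonoidHom := by
        rw [MonoidHom.map_zpowers]
        congr 1
        show _ = g⁻¹ * B.T t * g⁻¹⁻¹
        rw [inv_inv]
      rw [e]
      exact (B.P.2.to_le (Subgroup.zpowers_le.2 (B.T_mem t))).map _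
    have hn : Subgroup.zpowers (g⁻¹ * B.T t * g) ≤ Subgroup.normalizer ((B.P : Subgroup G) : Set G) := by
      rw [Subgroup.zpowers_le, Subgroup.mem_normalizer_iff]
      intro x
      have key : ∀ y : G, y • Vo K = Vo K → ∀ x ∈ (B.P : Subgroup G), y * x * y⁻¹ ∈ (B.P : Subgroup G) := by
        intro y hy x hx
        obtain ⟨t, rfl⟩ := (B.memP x).1 hx
        obtain ⟨t', ht'⟩ := B.norm hy t
        rw [ht']
        exact B.T_mem t'
      refine ⟨key _ h1 x, fun hx => ?_⟩
      have h5 := key (g⁻¹ * B.T t * g)⁻¹ (by rw [inv_smul_eq_iff, h1]) _ hx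
      have e : (g⁻¹ * B.T t * g)⁻¹ * (g⁻¹ * B.T t * g * x * (g⁻¹ * B.T t * g)⁻¹) * (g⁻¹ * B.T t * g)⁻¹⁻¹ = x := by group
      rwa [e] at h5
    have hsup : IsPGroup p ↥(Subgroup.zpowers (g⁻¹ * B.T t * g) ⊔ (B.P : Subgroup G)) :=
      hp.to_sup_of_normal_right' B.P.2 hn
    have h4 := B.P.3 hsup le_sup_right
    have h5 : g⁻¹ * B.T t * g ∈ Subgroup.zpowers (g⁻¹ * B.T t * g) ⊔ (B.P : Subgroup G) :=
      (le_sup_left : Subgroup.zpowers (g⁻¹ * B.T t * g) ≤ _) (Subgroup.mem_zpowers _)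
    rw [h4] at h5
    exact h5
  obtain ⟨s, hs⟩ := (B.memP _).1 h3
  have hs0 : s ≠ 0 := by
    rintro rfl
    rw [B.T_zero] at hs
    apply ht
    apply B.T_inj
    rw [B.T_zero]
    calc B.T t = g * (g⁻¹ * B.T t * g) * g⁻¹ := by group
      _ = 1 := by rw [hs]; group
  have h6 : ∀ v : W K, v ∈ Vo K ↔ g⁻¹ • v ∈ Vo K := by
    intro v
    constructor
    · intro hv
      apply B.fix_T hs0
      rw [← hs, mul_smul, mul_smul, smul_inv_smul, B.T_V t hv]
    · intro hv
      apply B.fix_T ht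
      have h7 := B.T_V s hv
      rw [← hs, mul_smul, mul_smul, smul_inv_smul] at h7
      exact smul_left_cancel _ h7
  ext v
  rw [AddSubgroup.mem_pointwise_smul_iff_inv_smul_mem]
  exact (h6 v).symm

theorem card_smul (g : G) (U : AddSubgroup (W K)) : Nat.card (g • U : AddSubgroup (W K)) = Nat.card U := by
  symm
  exact Nat.card_congr
    { toFun := fun v => ⟨g • (v : W K), AddSubgroup.smul_mem_pointwise_smul _ _ _ v.2⟩
      invFun := fun v => ⟨g⁻¹ • (v : W K), AddSubgroup.mem_pointwise_smul_iff_inv_smul_mem.1 v.2⟩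
      left_inv := fun v => Subtype.ext (inv_smul_smul _ _)
      right_inv := fun v => Subtype.ext (smul_inv_smul _ _) }

theorem card_inter (x y : G) : Nat.card (x • Vo K ⊓ y • Vo K : AddSubgroup (W K)) =
    Nat.card (Vo K ⊓ (x⁻¹ * y) • Vo K : AddSubgroup (W K)) := by
  rw [← B.card_smul x (Vo K ⊓ (x⁻¹ * y) • Vo K)]
  congr 2
  ext v
  rw [AddSubgroup.mem_pointwise_smul_iff_inv_smul_mem, AddSubgroup.mem_inf, AddSubgroup.mem_inf,
    AddSubgroup.mem_pointwise_smul_iff_inv_smul_mem, AddSubgroup.mem_pointwise_smul_iff_inv_smul_mem,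
    AddSubgroup.mem_pointwise_smul_iff_inv_smul_mem, mul_inv_rev, inv_inv, mul_smul, smul_inv_smul]

/-- **(1)** the members of the orbit are disjoint -/
theorem inter [Finite G] [Finite K] {g : G} (hg : g • Vo K ≠ Vo K) {v : W K} (h1 : v ∈ Vo K) (h2 : v ∈ g • Vo K) :
    v = 0 := by
  classical
  have hne : Nonempty {g : G // g • Vo K ≠ Vo K} := ⟨⟨g, hg⟩⟩
  obtain ⟨⟨g₀, hg₀⟩, hmax⟩ := Finite.exists_max
    (fun g : {g : G // g • Vo K ≠ Vo K} => Nat.card (Vo K ⊓ (g : G) • Vo K : AddSubgroup (W K)))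
  simp only [Subtype.forall] at hmax
  -- the maximal intersection is trivial
  have h0 : Nat.card (Vo K ⊓ g₀ • Vo K : AddSubgroup (W K)) = 1 := by
    by_contra hcon
    rw [AddSubgroup.card_eq_one] at hcon
    obtain ⟨⟨d, hd⟩, hd0⟩ := AddSubgroup.ne_bot_iff_exists_ne_zero.1 hcon
    have hd0' : d.2 ≠ 0 := by
      intro h
      apply hd0
      apply Subtype.ext
      ext
      · exact hd.1
      · exact h
    obtain ⟨e, he, he0⟩ : ∃ e ∈ g₀ • Vo K, e ∉ Vo K := by
      by_contra hcon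
      push Not at hcon
      exact hg₀ (AddSubgroup.eq_of_le_of_card_ge hcon (B.card_smul g₀ (Vo K)).ge)
    have he1 : e.1 ≠ 0 := he0
    have hr : d.2 / e.1 ≠ 0 := div_ne_zero hd0' he1
    have h3 : B.T (d.2 / e.1) • e = e + d := by
      have := B.T_sub (d.2 / e.1) e
      rw [sub_eq_iff_eq_add'] at this
      rw [this]
      congr 1
      ext
      · exact hd.1.symm
      · show d.2 / e.1 * e.1 = d.2
        field_simp
    have hne1 : B.T (d.2 / e.1) • (g₀ • Vo K) ≠ g₀ • Vo K := fun h => hg₀ (B.semireg hr h)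
    have hne2 : (g₀⁻¹ * (B.T (d.2 / e.1) * g₀)) • Vo K ≠ Vo K := by
      intro h
      apply hne1
      rw [mul_smul, inv_smul_eq_iff, mul_smul] at h
      exact h
    have h4 := hmax _ hne2
    rw [← B.card_inter] at h4
    have hle : Vo K ⊓ g₀ • Vo K ≤ g₀ • Vo K ⊓ (B.T (d.2 / e.1) * g₀) • Vo K := by
      intro x hx
      refine ⟨hx.2, ?_⟩
      show x ∈ (B.T (d.2 / e.1) * g₀) • Vo K
      rw [mul_smul, AddSubgroup.mem_pointwise_smul_iff_inv_smul_mem, ← B.T_neg, B.T_V _ hx.1]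
      exact hx.2
    have h5 := AddSubgroup.eq_of_le_of_card_ge hle h4
    have h6 : e + d ∈ g₀ • Vo K ⊓ (B.T (d.2 / e.1) * g₀) • Vo K := by
      refine ⟨add_mem he hd.2, ?_⟩
      show e + d ∈ (B.T (d.2 / e.1) * g₀) • Vo K
      rw [← h3, mul_smul]
      exact AddSubgroup.smul_mem_pointwise_smul _ _ _ he
    rw [← h5] at h6
    apply he0
    have h7 : e + d - d ∈ Vo K := sub_mem (show e + d ∈ Vo K from h6.1) (show d ∈ Vo K from hd.1)
    rwa [add_sub_cancel_right] at h7
  have h3 := hmax g hg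
  rw [h0] at h3
  have h4 : Nat.card (Vo K ⊓ g • Vo K : AddSubgroup (W K)) = 1 := le_antisymm h3 Nat.card_pos
  rw [AddSubgroup.card_eq_one] at h4
  have h5 : v ∈ Vo K ⊓ g • Vo K := ⟨h1, h2⟩
  rw [h4] at h5
  exact h5

/-- two members of the orbit -/
theorem inter' [Finite G] [Finite K] {x y : G} {v : W K} (h1 : v ∈ x • Vo K) (h2 : v ∈ y • Vo K) (hv : v ≠ 0) :
    x • Vo K = y • Vo K := by
  by_contra hne
  have h3 : (x⁻¹ * y) • Vo K ≠ Vo K := by
    intro h
    apply hne
    rw [mul_smul, inv_smul_eq_iff] at h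
    exact h.symm
  have h4 := B.inter h3 (v := x⁻¹ • v) (AddSubgroup.mem_pointwise_smul_iff_inv_smul_mem.1 h1) (by
    rw [AddSubgroup.mem_pointwise_smul_iff_inv_smul_mem, mul_inv_rev, inv_inv, mul_smul, smul_inv_smul]
    exact AddSubgroup.mem_pointwise_smul_iff_inv_smul_mem.1 h2)
  rw [inv_smul_eq_iff, smul_zero] at h4
  exact hv h4

/-- **(2)** `W = gV₁` is the graph of an additive map -/
theorem exists_graph [Finite G] [Finite K] {g : G} (hg : g • Vo K ≠ Vo K) :
    ∃ f : K →+ K, ∀ v : W K, v ∈ g • Vo K ↔ v.2 = f v.1 := by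
  -- the projection is bijective
  let π : (g • Vo K : AddSubgroup (W K)) →+ K := (AddMonoidHom.fst K K).comp (g • Vo K : AddSubgroup (W K)).subtype
  have hinj : Function.Injective π := by
    rw [injective_iff_map_eq_zero]
    rintro ⟨v, hv⟩ h
    exact Subtype.ext (B.inter hg (v := v) h hv)
  have hcard : Nat.card (g • Vo K : AddSubgroup (W K)) = Nat.card K := by
    rw [B.card_smul]
    exact Nat.card_congr
      { toFun := fun v => (v : W K).2
        invFun := fun b => ⟨(0, b), rfl⟩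
        left_inv := fun v => Subtype.ext (by ext; exact v.2.symm; rfl)
        right_inv := fun b => rfl }
  have hbij : Function.Bijective π := (Nat.bijective_iff_injective_and_card _).2 ⟨hinj, hcard⟩
  let e : (g • Vo K : AddSubgroup (W K)) ≃+ K := AddEquiv.ofBijective π hbij
  refine ⟨(AddMonoidHom.snd K K).comp ((g • Vo K : AddSubgroup (W K)).subtype.comp e.symm.toAddMonoidHom), fun v => ?_⟩
  constructor
  · intro hv
    have h1 : e.symm v.1 = ⟨v, hv⟩ := by
      rw [AddEquiv.symm_apply_eq]; rfl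
    show v.2 = ((e.symm v.1 : (g • Vo K : AddSubgroup (W K))) : W K).2
    rw [h1]
  · intro h
    have h1 : ((e.symm v.1 : (g • Vo K : AddSubgroup (W K))) : W K).1 = v.1 := e.apply_symm_apply v.1
    have h2 : ((e.symm v.1 : (g • Vo K : AddSubgroup (W K))) : W K) = v := by
      ext
      · exact h1
      · exact h.symm
    rw [← h2]
    exact (e.symm v.1).2

/-- **the main statement**, with the members of the orbit of `V₁` -/
theorem main' [Finite G] [Finite K] {g : G} (hg : g • Vo K ≠ Vo K) :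
    ∃ f : K →+ K, (∀ c : K, c ≠ 0 → ∃ h : G, ∀ a b : K, h • ((a, b) : W K) = (c⁻¹ * a, c * (b - f a) + f (c⁻¹ * a))) ∧
      (∀ r : K, r ≠ 0 → ∃ n : G, ∀ a b : K, n • ((a, b) : W K) = ((b - f a) / r, f ((b - f a) / r) - r * a)) ∧
      (∀ x : G, (∀ b : K, (x • ((0, b) : W K)).1 = 0) ∨
        ∃ r : K, ∀ b : K, (x • ((0, b) : W K)).2 = f (x • ((0, b) : W K)).1 + r * (x • ((0, b) : W K)).1) := by
  obtain ⟨f, hf⟩ := B.exists_graph hg
  -- `θ_r W = {(t, f t + r t)}`
  have hTf : ∀ (r : K) (v : W K), v ∈ B.T r • (g • Vo K) ↔ v.2 = f v.1 + r * v.1 := by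
    rintro r ⟨a, b⟩
    rw [AddSubgroup.mem_pointwise_smul_iff_inv_smul_mem, ← B.T_neg, B.T_apply, hf]
    show b + -r * a = f a ↔ b = f a + r * a
    constructor
    · intro h; linear_combination h
    · intro h; linear_combination h
  -- every member `≠ V₁` of the orbit is some `θ_r W`
  have horb : ∀ x : G, x • Vo K ≠ Vo K → ∃ r, x • Vo K = B.T r • (g • Vo K) := by
    intro x hx
    obtain ⟨f', hf'⟩ := B.exists_graph hx
    have h1 : ((1, f' 1) : W K) ∈ x • Vo K := (hf' _).2 rfl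
    refine ⟨f' 1 - f 1, ?_⟩
    rw [← mul_smul]
    refine B.inter' h1 ?_ (by intro h; exact one_ne_zero (congrArg Prod.fst h))
    rw [mul_smul, hTf]
    ring
  -- the conjugate transvections
  have hψ : ∀ r : K, r ≠ 0 → ∃ ψ : G, (∀ a : K, ψ • ((a, f a) : W K) = (a, f a)) ∧
      ∀ a : K, ψ • ((0, a) : W K) = (a / r, f (a / r) + a) := by
    intro r hr
    -- `g⁻¹ V₁ = θ_{s₀} W`, `g⁻¹ θ_r W = θ_s W`
    have hg1 : g⁻¹ • Vo K ≠ Vo K := by
      intro h
      apply hg
      rw [inv_smul_eq_iff] at h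
      exact h.symm
    obtain ⟨s₀, hs₀⟩ := horb _ hg1
    have hg2 : (g⁻¹ * (B.T r * g)) • Vo K ≠ Vo K := by
      intro h
      rw [mul_smul, inv_smul_eq_iff, mul_smul] at h
      exact hg (B.semireg hr h)
    obtain ⟨s, hs⟩ := horb _ hg2
    refine ⟨g * B.T (s - s₀) * g⁻¹, ?_, ?_⟩
    · intro a
      have h1 : g⁻¹ • ((a, f a) : W K) ∈ Vo K := AddSubgroup.mem_pointwise_smul_iff_inv_smul_mem.1 ((hf _).2 rfl)
      rw [mul_smul, mul_smul, B.T_V _ h1, smul_inv_smul]
    · intro a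
      -- `ψ x - x ∈ W`
      have h1 : (g * B.T (s - s₀) * g⁻¹) • ((0, a) : W K) - (0, a) ∈ g • Vo K := by
        have e : (g * B.T (s - s₀) * g⁻¹) • ((0, a) : W K) - (0, a) =
            g • (B.T (s - s₀) • (g⁻¹ • ((0, a) : W K)) - g⁻¹ • ((0, a) : W K)) := by
          rw [smul_sub, smul_inv_smul, mul_smul, mul_smul]
        rw [e]
        refine AddSubgroup.smul_mem_pointwise_smul _ _ _ ?_
        rw [B.T_sub]; rfl
      -- `ψ V₁ = θ_r W`
      have h2 : (g * B.T (s - s₀) * g⁻¹) • ((0, a) : W K) ∈ B.T r • (g • Vo K) := by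
        have e : B.T r • (g • Vo K) = (g * B.T (s - s₀) * g⁻¹) • Vo K := by
          have e1 : g • (B.T s • (g • Vo K)) = B.T r • (g • Vo K) := by
            rw [← hs, mul_smul, smul_inv_smul, mul_smul]
          have e2 : B.T (s - s₀) • (B.T s₀ • (g • Vo K)) = B.T s • (g • Vo K) := by
            rw [← mul_smul (B.T (s - s₀)), ← B.T_add, sub_add_cancel]
          rw [← e1, mul_smul, mul_smul, hs₀, e2]
        rw [e]
        exact AddSubgroup.smul_mem_pointwise_smul _ _ _ rfl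
      generalize (g * B.T (s - s₀) * g⁻¹) • ((0, a) : W K) = x at h1 h2 ⊢
      rw [hTf] at h2
      rw [hf] at h1
      have h3 : x.2 - a = f (x.1 - 0) := h1
      rw [sub_zero] at h3
      have h4 : x.1 = a / r := by
        rw [eq_div_iff hr]
        linear_combination h3 - h2
      ext
      · exact h4
      · show x.2 = f (a / r) + a
        rw [← h4]
        linear_combination h3
  -- the elements `n_r`
  have hn : ∀ r : K, r ≠ 0 → ∃ n : G, ∀ a b : K,
      n • ((a, b) : W K) = ((b - f a) / r, f ((b - f a) / r) - r * a) := by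
    intro r hr
    obtain ⟨ψ, h1, h2⟩ := hψ r hr
    refine ⟨B.T (-r) * ψ * B.T (-r), fun a b => ?_⟩
    have e : B.T (-r) • ((a, b) : W K) = (a, f a) + (0, b - f a - r * a) := by
      rw [B.T_apply]
      ext
      · simp
      · show b + -r * a = f a + (b - f a - r * a)
        ring
    have e2 : (b - f a - r * a) / r = (b - f a) / r - a := by field_simp
    rw [mul_smul, mul_smul, e, smul_add, h1, h2, e2, map_sub]
    have e3 : ((a, f a) : W K) + ((b - f a) / r - a, f ((b - f a) / r) - f a + (b - f a - r * a)) =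
        ((b - f a) / r, f ((b - f a) / r) + (b - f a - r * a)) := by
      ext
      · show a + ((b - f a) / r - a) = (b - f a) / r
        ring
      · show f a + (f ((b - f a) / r) - f a + (b - f a - r * a)) = f ((b - f a) / r) + (b - f a - r * a)
        ring
    rw [e3, B.T_apply]
    ext
    · rfl
    · show f ((b - f a) / r) + (b - f a - r * a) + -r * ((b - f a) / r) = f ((b - f a) / r) - r * a
      field_simp
      ring
  refine ⟨f, fun c hc => ?_, hn, fun x => ?_⟩
  swap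
  · by_cases hx : x • Vo K = Vo K
    · left
      intro b
      have h1 : x • ((0, b) : W K) ∈ x • Vo K := AddSubgroup.smul_mem_pointwise_smul _ _ _ rfl
      rw [hx] at h1
      exact h1
    · right
      obtain ⟨r, hr⟩ := horb x hx
      refine ⟨r, fun b => ?_⟩
      have h1 : x • ((0, b) : W K) ∈ x • Vo K := AddSubgroup.smul_mem_pointwise_smul _ _ _ rfl
      rw [hr] at h1
      exact (hTf r _).1 h1
  obtain ⟨n1, h1⟩ := hn 1 one_ne_zero
  obtain ⟨n2, h2⟩ := hn (-c) (neg_ne_zero.2 hc)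
  refine ⟨n2 * n1, fun a b => ?_⟩
  rw [mul_smul, h1, h2]
  have e : f ((b - f a) / 1) - 1 * a - f ((b - f a) / 1) = -a := by ring
  rw [e]
  have e2 : -a / -c = c⁻¹ * a := by field_simp
  rw [e2]
  ext
  · rfl
  · show f (c⁻¹ * a) - -c * ((b - f a) / 1) = c * (b - f a) + f (c⁻¹ * a)
    ring

/-- **the main statement** -/
theorem main [Finite G] [Finite K] {g : G} (hg : g • Vo K ≠ Vo K) :
    ∃ f : K →+ K, (∀ c : K, c ≠ 0 → ∃ h : G, ∀ a b : K, h • ((a, b) : W K) = (c⁻¹ * a, c * (b - f a) + f (c⁻¹ * a))) ∧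
      (∀ r : K, r ≠ 0 → ∃ n : G, ∀ a b : K, n • ((a, b) : W K) = ((b - f a) / r, f ((b - f a) / r) - r * a)) := by
  obtain ⟨f, h1, h2, -⟩ := B.main' hg
  exact ⟨f, h1, h2⟩

end Base

/-- **`sl2_lemma'`** : `sl2_lemma` together with the members of the orbit of `V₁` -/
theorem sl2_lemma' {K : Type*} [Field K] [Finite K] {p : ℕ} [Fact p.Prime] [CharP K p]
    {G : Type*} [Group G] [Finite G] (ρ : G →* Equiv.Perm (K × K))
    (hadd : ∀ g v w, ρ g (v + w) = ρ g v + ρ g w) (P : Sylow p G)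
    (hP1 : ∀ g ∈ P, ∃ r : K, ρ g = theta r) (hP2 : ∀ r : K, ∃ g ∈ P, ρ g = theta r)
    (hnn : ∃ g b, (ρ g (0, b)).1 ≠ 0) :
    ∃ f : K →+ K, (∀ c : K, c ≠ 0 → ∃ h : G, ∀ a b, ρ h (a, b) = (c⁻¹ * a, c * (b - f a) + f (c⁻¹ * a))) ∧
      (∀ r : K, r ≠ 0 → ∃ n : G, ∀ a b, ρ n (a, b) = ((b - f a) / r, f ((b - f a) / r) - r * a)) ∧
      (∀ g : G, (∀ b, (ρ g (0, b)).1 = 0) ∨ ∃ r : K, ∀ b, (ρ g (0, b)).2 = f ((ρ g (0, b)).1) + r * (ρ g (0, b)).1) := by
  -- pass to the image
  let G' : Subgroup (Equiv.Perm (K × K)) := ρ.range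
  have hmem : ∀ x : G', ∃ g : G, ρ g = x := fun x => x.2
  let _ : DistribMulAction G' (W K) :=
    { smul := fun g v => (g : Equiv.Perm (K × K)) v
      one_smul := fun v => rfl
      mul_smul := fun g h v => rfl
      smul_zero := fun x => by
        show (x : Equiv.Perm (K × K)) 0 = 0
        obtain ⟨g, hg⟩ := hmem x
        rw [← hg]
        have h := hadd g 0 0
        rw [add_zero] at h
        exact left_eq_add.1 h
      smul_add := fun x v w => by
        show (x : Equiv.Perm (K × K)) (v + w) = (x : Equiv.Perm (K × K)) v + (x : Equiv.Perm (K × K)) w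
        obtain ⟨g, hg⟩ := hmem x
        rw [← hg]
        exact hadd g v w }
  have hsm : ∀ (g : G') (v : W K), g • v = (g : Equiv.Perm (K × K)) v := fun _ _ => rfl
  choose T hTP hT using hP2
  let P' : Sylow p G' := P.mapSurjective ρ.rangeRestrict_surjective
  have hP' : ∀ x : G', x ∈ P' ↔ ∃ g ∈ P, ρ.rangeRestrict g = x := by
    intro x
    show x ∈ ((P.mapSurjective ρ.rangeRestrict_surjective : Sylow p G') : Subgroup G') ↔ _
    rw [Sylow.coe_mapSurjective]
    exact Subgroup.mem_map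
  let B : Base p K G' :=
    { T := fun t => ρ.rangeRestrict (T t)
      hT := fun t v => by
        rw [hsm]
        show ρ (T t) v = theta t v
        rw [hT]
      faith := fun x hx => Subtype.ext (Equiv.ext hx)
      P := P'
      memP := fun x => by
        rw [hP']
        constructor
        · rintro ⟨g, hg, rfl⟩
          obtain ⟨t, ht⟩ := hP1 g hg
          exact ⟨t, Subtype.ext (by show ρ g = ρ (T t); rw [ht, hT])⟩
        · rintro ⟨t, rfl⟩
          exact ⟨T t, hTP t, rfl⟩ }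
  obtain ⟨g, b, hgb⟩ := hnn
  have hg : ρ.rangeRestrict g • Vo K ≠ Vo K := by
    intro h
    apply hgb
    have h1 : ρ.rangeRestrict g • ((0, b) : W K) ∈ ρ.rangeRestrict g • Vo K :=
      AddSubgroup.smul_mem_pointwise_smul _ _ _ rfl
    rw [h] at h1
    exact h1
  obtain ⟨f, h1, h2, h3⟩ := B.main' hg
  refine ⟨f, fun c hc => ?_, fun r hr => ?_, fun x => h3 (ρ.rangeRestrict x)⟩
  · obtain ⟨x, hx⟩ := h1 c hc
    obtain ⟨y, hy⟩ := hmem x
    exact ⟨y, fun a b => by rw [hy]; exact hx a b⟩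
  · obtain ⟨x, hx⟩ := h2 r hr
    obtain ⟨y, hy⟩ := hmem x
    exact ⟨y, fun a b => by rw [hy]; exact hx a b⟩

/-- **`sl2_lemma`** -/
theorem sl2_lemma {K : Type*} [Field K] [Finite K] {p : ℕ} [Fact p.Prime] [CharP K p]
    {G : Type*} [Group G] [Finite G] (ρ : G →* Equiv.Perm (K × K))
    (hadd : ∀ g v w, ρ g (v + w) = ρ g v + ρ g w) (P : Sylow p G)
    (hP1 : ∀ g ∈ P, ∃ r : K, ρ g = theta r) (hP2 : ∀ r : K, ∃ g ∈ P, ρ g = theta r)
    (hnn : ∃ g b, (ρ g (0, b)).1 ≠ 0) :
    ∃ f : K →+ K, (∀ c : K, c ≠ 0 → ∃ h : G, ∀ a b, ρ h (a, b) = (c⁻¹ * a, c * (b - f a) + f (c⁻¹ * a))) ∧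
      (∀ r : K, r ≠ 0 → ∃ n : G, ∀ a b, ρ n (a, b) = ((b - f a) / r, f ((b - f a) / r) - r * a)) := by
  obtain ⟨f, h1, h2, -⟩ := sl2_lemma' ρ hadd P hP1 hP2 hnn
  exact ⟨f, h1, h2⟩

end Cfsg.Agent.H812.SlTwo
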